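import Cfsg.Prelude.Def_Blocks
import Mathlib.RingTheory.Ideal.Quotient.Basic
import Mathlib.RingTheory.Localization.Basic
import Mathlib.Tactic
set_option linter.all false

/-!
# The local ring at `M` inside `ℂ`

API for `Cfsg.MemLocalRing`, `Cfsg.MemLocalIdeal`.
-/

set_option autoImplicit false
set_option linter.unusedSectionVars false
set_option linter.unusedVariables false

open Cfsg

namespace Cfsg.Agent.Blocks.Local

variable {M : Ideal AlgInt}

theorem isPrime_of_isPModular {p : ℕ} (hM : IsPModular p M) : M.IsPrime :=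
  hM.2.1.isPrime

theorem isMaximal_of_isPModular {p : ℕ} (hM : IsPModular p M) : M.IsMaximal := hM.2.1

theorem p_mem_of_isPModular {p : ℕ} (hM : IsPModular p M) : (p : AlgInt) ∈ M := hM.2.2

theorem memLocalRing_iff {z : ℂ} :
    MemLocalRing M z ↔ ∃ a b : AlgInt, b ∉ M ∧ (a : ℂ) / (b : ℂ) = z := Iff.rfl

theorem memLocalIdeal_iff {z : ℂ} :
    MemLocalIdeal M z ↔ ∃ a b : AlgInt, a ∈ M ∧ b ∉ M ∧ (a : ℂ) / (b : ℂ) = z := Iff.rfl

theorem coe_ne_zero_of_notMem {b : AlgInt} (hb : b ∉ M) : (b : ℂ) ≠ 0 := by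
  intro h
  apply hb
  have : b = 0 := by
    apply Subtype.ext
    simpa using h
  rw [this]
  exact M.zero_mem

theorem memLocalRing_of_memLocalIdeal {z : ℂ} (h : MemLocalIdeal M z) : MemLocalRing M z := by
  obtain ⟨a, b, _, hb, rfl⟩ := h
  exact ⟨a, b, hb, rfl⟩

section Prime

variable [hP : M.IsPrime]

theorem one_notMem : (1 : AlgInt) ∉ M := fun h => hP.ne_top ((Ideal.eq_top_iff_one M).2 h)

theorem mul_notMem {a b : AlgInt} (ha : a ∉ M) (hb : b ∉ M) : a * b ∉ M := fun h =>
  (hP.mem_or_mem h).elim ha hb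

theorem memLocalRing_algInt (a : AlgInt) : MemLocalRing M (a : ℂ) :=
  ⟨a, 1, one_notMem, by simp⟩

theorem memLocalRing_of_isIntegral {z : ℂ} (hz : IsIntegral ℤ z) : MemLocalRing M z :=
  memLocalRing_algInt (⟨z, hz⟩ : AlgInt)

theorem memLocalRing_natCast (n : ℕ) : MemLocalRing M (n : ℂ) := by
  simpa using memLocalRing_algInt (M := M) (n : AlgInt)

theorem memLocalRing_intCast (n : ℤ) : MemLocalRing M (n : ℂ) := by
  simpa using memLocalRing_algInt (M := M) (n : AlgInt)

theorem memLocalRing_zero : MemLocalRing M 0 := by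
  simpa using memLocalRing_natCast (M := M) 0

theorem memLocalRing_one : MemLocalRing M 1 := by
  simpa using memLocalRing_natCast (M := M) 1

theorem memLocalIdeal_of_mem {a : AlgInt} (ha : a ∈ M) : MemLocalIdeal M (a : ℂ) :=
  ⟨a, 1, ha, one_notMem, by simp⟩

theorem memLocalIdeal_zero : MemLocalIdeal M 0 := by
  simpa using memLocalIdeal_of_mem (M := M) (a := 0) M.zero_mem

theorem memLocalRing_add {z w : ℂ} (hz : MemLocalRing M z) (hw : MemLocalRing M w) :
    MemLocalRing M (z + w) := by
  obtain ⟨a, b, hb, rfl⟩ := hz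
  obtain ⟨c, d, hd, rfl⟩ := hw
  refine ⟨a * d + b * c, b * d, mul_notMem hb hd, ?_⟩
  have h1 := coe_ne_zero_of_notMem hb
  have h2 := coe_ne_zero_of_notMem hd
  push_cast
  field_simp

theorem memLocalRing_mul {z w : ℂ} (hz : MemLocalRing M z) (hw : MemLocalRing M w) :
    MemLocalRing M (z * w) := by
  obtain ⟨a, b, hb, rfl⟩ := hz
  obtain ⟨c, d, hd, rfl⟩ := hw
  refine ⟨a * c, b * d, mul_notMem hb hd, ?_⟩
  have h1 := coe_ne_zero_of_notMem hb
  have h2 := coe_ne_zero_of_notMem hd
  push_cast
  field_simp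

theorem memLocalRing_neg {z : ℂ} (hz : MemLocalRing M z) : MemLocalRing M (-z) := by
  obtain ⟨a, b, hb, rfl⟩ := hz
  refine ⟨-a, b, hb, ?_⟩
  push_cast
  ring

variable (M) in
/-- The local ring at `M` inside `ℂ`, as a subring. -/
def localRing : Subring ℂ where
  carrier := {z | MemLocalRing M z}
  mul_mem' := memLocalRing_mul
  one_mem' := memLocalRing_one
  add_mem' := memLocalRing_add
  zero_mem' := memLocalRing_zero
  neg_mem' := memLocalRing_neg

theorem mem_localRing {z : ℂ} : z ∈ localRing M ↔ MemLocalRing M z := Iff.rfl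

theorem memLocalRing_sub {z w : ℂ} (hz : MemLocalRing M z) (hw : MemLocalRing M w) :
    MemLocalRing M (z - w) := (localRing M).sub_mem hz hw

theorem memLocalRing_pow {z : ℂ} (hz : MemLocalRing M z) (n : ℕ) :
    MemLocalRing M (z ^ n) := (localRing M).pow_mem hz n

theorem memLocalRing_sum {ι : Type*} {s : Finset ι} {f : ι → ℂ}
    (h : ∀ i ∈ s, MemLocalRing M (f i)) : MemLocalRing M (∑ i ∈ s, f i) :=
  (localRing M).sum_mem h

theorem memLocalRing_prod {ι : Type*} {s : Finset ι} {f : ι → ℂ}
    (h : ∀ i ∈ s, MemLocalRing M (f i)) : MemLocalRing M (∏ i ∈ s, f i) :=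
  (localRing M).prod_mem h

theorem memLocalRing_finsum {ι : Type*} {f : ι → ℂ}
    (h : ∀ i, MemLocalRing M (f i)) : MemLocalRing M (∑ᶠ i, f i) := by
  by_cases hf : (Function.support f).Finite
  · rw [finsum_eq_sum f hf]
    exact memLocalRing_sum fun i _ => h i
  · rw [finsum_of_infinite_support hf]
    exact memLocalRing_zero

theorem memLocalRing_finsum_mem {ι : Type*} {s : Set ι} {f : ι → ℂ}
    (h : ∀ i ∈ s, MemLocalRing M (f i)) : MemLocalRing M (∑ᶠ i ∈ s, f i) := by
  refine memLocalRing_finsum fun i => ?_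
  by_cases hi : i ∈ s
  · simpa [hi] using h i hi
  · simpa [hi] using memLocalRing_zero (M := M)

theorem memLocalIdeal_add {z w : ℂ} (hz : MemLocalIdeal M z) (hw : MemLocalIdeal M w) :
    MemLocalIdeal M (z + w) := by
  obtain ⟨a, b, ha, hb, rfl⟩ := hz
  obtain ⟨c, d, hc, hd, rfl⟩ := hw
  refine ⟨a * d + b * c, b * d, M.add_mem (M.mul_mem_right _ ha) (M.mul_mem_left _ hc),
    mul_notMem hb hd, ?_⟩
  have h1 := coe_ne_zero_of_notMem hb
  have h2 := coe_ne_zero_of_notMem hd
  push_cast
  field_simp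

theorem memLocalIdeal_mul_left {z w : ℂ} (hz : MemLocalRing M z) (hw : MemLocalIdeal M w) :
    MemLocalIdeal M (z * w) := by
  obtain ⟨a, b, hb, rfl⟩ := hz
  obtain ⟨c, d, hc, hd, rfl⟩ := hw
  refine ⟨a * c, b * d, M.mul_mem_left _ hc, mul_notMem hb hd, ?_⟩
  have h1 := coe_ne_zero_of_notMem hb
  have h2 := coe_ne_zero_of_notMem hd
  push_cast
  field_simp

theorem memLocalIdeal_mul_right {z w : ℂ} (hz : MemLocalIdeal M z) (hw : MemLocalRing M w) :
    MemLocalIdeal M (z * w) := by
  rw [mul_comm]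
  exact memLocalIdeal_mul_left hw hz

theorem memLocalIdeal_neg {z : ℂ} (hz : MemLocalIdeal M z) : MemLocalIdeal M (-z) := by
  rw [neg_eq_neg_one_mul]
  exact memLocalIdeal_mul_left (memLocalRing_neg memLocalRing_one) hz

theorem memLocalIdeal_neg_iff {z : ℂ} : MemLocalIdeal M (-z) ↔ MemLocalIdeal M z :=
  ⟨fun h => by simpa using memLocalIdeal_neg h, memLocalIdeal_neg⟩

theorem memLocalIdeal_sub {z w : ℂ} (hz : MemLocalIdeal M z) (hw : MemLocalIdeal M w) :
    MemLocalIdeal M (z - w) := by
  rw [sub_eq_add_neg]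
  exact memLocalIdeal_add hz (memLocalIdeal_neg hw)

theorem memLocalIdeal_sub_comm {z w : ℂ} (h : MemLocalIdeal M (z - w)) :
    MemLocalIdeal M (w - z) := by
  rw [← neg_sub]
  exact memLocalIdeal_neg h

theorem memLocalIdeal_sub_trans {z w v : ℂ} (h : MemLocalIdeal M (z - w))
    (h' : MemLocalIdeal M (w - v)) : MemLocalIdeal M (z - v) := by
  have := memLocalIdeal_add h h'
  rwa [sub_add_sub_cancel] at this

theorem memLocalIdeal_iff_of_sub {z w : ℂ} (h : MemLocalIdeal M (z - w)) :
    MemLocalIdeal M z ↔ MemLocalIdeal M w := by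
  constructor
  · intro hz
    have := memLocalIdeal_sub hz h
    simpa using this
  · intro hw
    have := memLocalIdeal_add h hw
    simpa using this

theorem memLocalRing_iff_of_sub {z w : ℂ} (h : MemLocalIdeal M (z - w)) :
    MemLocalRing M z ↔ MemLocalRing M w := by
  have h' := memLocalRing_of_memLocalIdeal h
  constructor
  · intro hz
    have := memLocalRing_sub hz h'
    simpa using this
  · intro hw
    have := memLocalRing_add h' hw
    simpa using this

theorem memLocalIdeal_sum {ι : Type*} {s : Finset ι} {f : ι → ℂ}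
    (h : ∀ i ∈ s, MemLocalIdeal M (f i)) : MemLocalIdeal M (∑ i ∈ s, f i) := by
  classical
  induction s using Finset.induction_on with
  | empty => simpa using memLocalIdeal_zero (M := M)
  | insert a s ha ih =>
    rw [Finset.sum_insert ha]
    exact memLocalIdeal_add (h a (Finset.mem_insert_self _ _))
      (ih fun i hi => h i (Finset.mem_insert_of_mem hi))

theorem memLocalIdeal_finsum {ι : Type*} {f : ι → ℂ}
    (h : ∀ i, MemLocalIdeal M (f i)) : MemLocalIdeal M (∑ᶠ i, f i) := by
  by_cases hf : (Function.support f).Finite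
  · rw [finsum_eq_sum f hf]
    exact memLocalIdeal_sum fun i _ => h i
  · rw [finsum_of_infinite_support hf]
    exact memLocalIdeal_zero

theorem memLocalIdeal_finsum_mem {ι : Type*} {s : Set ι} {f : ι → ℂ}
    (h : ∀ i ∈ s, MemLocalIdeal M (f i)) : MemLocalIdeal M (∑ᶠ i ∈ s, f i) := by
  refine memLocalIdeal_finsum fun i => ?_
  by_cases hi : i ∈ s
  · simpa [hi] using h i hi
  · simpa [hi] using memLocalIdeal_zero (M := M)

theorem exists_not_memLocalIdeal_of_sum {ι : Type*} {s : Finset ι} {f : ι → ℂ}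
    (h : ¬ MemLocalIdeal M (∑ i ∈ s, f i)) : ∃ i ∈ s, ¬ MemLocalIdeal M (f i) := by
  by_contra hcon
  push Not at hcon
  exact h (memLocalIdeal_sum hcon)

/-- For an algebraic integer, lying in the local ideal means lying in `M`. -/
theorem memLocalIdeal_algInt_iff {a : AlgInt} : MemLocalIdeal M (a : ℂ) ↔ a ∈ M := by
  refine ⟨?_, memLocalIdeal_of_mem⟩
  rintro ⟨c, d, hc, hd, h⟩
  have h2 := coe_ne_zero_of_notMem hd
  have h3 : c = a * d := by
    apply Subtype.ext
    push_cast
    rw [← h]
    field_simp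
  have h4 : a * d ∈ M := h3 ▸ hc
  exact (hP.mem_or_mem h4).resolve_right hd

theorem not_memLocalIdeal_one : ¬ MemLocalIdeal M 1 := by
  intro h
  have h1 : MemLocalIdeal M ((1 : AlgInt) : ℂ) := by simpa using h
  exact one_notMem (memLocalIdeal_algInt_iff.1 h1)

theorem ne_zero_of_not_memLocalIdeal {z : ℂ} (h : ¬ MemLocalIdeal M z) : z ≠ 0 := by
  rintro rfl
  exact h memLocalIdeal_zero

/-- The inverse of a unit of the local ring is again in the local ring. -/
theorem memLocalRing_inv {z : ℂ} (hz : MemLocalRing M z) (h : ¬ MemLocalIdeal M z) :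
    MemLocalRing M z⁻¹ := by
  obtain ⟨a, b, hb, rfl⟩ := hz
  have ha : a ∉ M := fun ha => h ⟨a, b, ha, hb, rfl⟩
  exact ⟨b, a, ha, by rw [inv_div]⟩

theorem not_memLocalIdeal_inv {z : ℂ} (hz : MemLocalRing M z) (h : ¬ MemLocalIdeal M z) :
    ¬ MemLocalIdeal M z⁻¹ := by
  intro h'
  have := memLocalIdeal_mul_left hz h'
  rw [mul_inv_cancel₀ (ne_zero_of_not_memLocalIdeal h)] at this
  exact not_memLocalIdeal_one this

theorem memLocalRing_div {z w : ℂ} (hz : MemLocalRing M z) (hw : MemLocalRing M w)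
    (h : ¬ MemLocalIdeal M w) : MemLocalRing M (z / w) := by
  rw [div_eq_mul_inv]
  exact memLocalRing_mul hz (memLocalRing_inv hw h)

/-- The local ideal is a prime ideal of the local ring. -/
theorem memLocalIdeal_or_of_mul {z w : ℂ} (hz : MemLocalRing M z) (hw : MemLocalRing M w)
    (h : MemLocalIdeal M (z * w)) : MemLocalIdeal M z ∨ MemLocalIdeal M w := by
  by_contra hcon
  push Not at hcon
  have h1 := memLocalIdeal_mul_left (memLocalRing_inv hz hcon.1) h
  rw [← mul_assoc, inv_mul_cancel₀ (ne_zero_of_not_memLocalIdeal hcon.1), one_mul] at h1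
  exact hcon.2 h1

theorem memLocalIdeal_of_pow {z : ℂ} (hz : MemLocalRing M z) {n : ℕ}
    (h : MemLocalIdeal M (z ^ n)) : MemLocalIdeal M z := by
  induction n with
  | zero => exact absurd (by simpa using h) (not_memLocalIdeal_one (M := M))
  | succ n ih =>
    rw [pow_succ] at h
    rcases memLocalIdeal_or_of_mul (memLocalRing_pow hz n) hz h with h1 | h1
    · exact ih h1
    · exact h1

theorem memLocalIdeal_pow {z : ℂ} (hz : MemLocalIdeal M z) {n : ℕ} (hn : n ≠ 0) :
    MemLocalIdeal M (z ^ n) := by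
  obtain ⟨m, rfl⟩ := Nat.exists_eq_succ_of_ne_zero hn
  rw [pow_succ]
  exact memLocalIdeal_mul_left (memLocalRing_pow (memLocalRing_of_memLocalIdeal hz) m) hz

/-- Congruence modulo the local ideal is compatible with multiplication. -/
theorem memLocalIdeal_mul_sub_mul {z z' w w' : ℂ} (hz : MemLocalRing M z)
    (hw' : MemLocalRing M w') (h : MemLocalIdeal M (z - z')) (h' : MemLocalIdeal M (w - w')) :
    MemLocalIdeal M (z * w - z' * w') := by
  have : z * w - z' * w' = z * (w - w') + (z - z') * w' := by ring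
  rw [this]
  exact memLocalIdeal_add (memLocalIdeal_mul_left hz h') (memLocalIdeal_mul_right h hw')

theorem memLocalIdeal_pow_sub_pow {z w : ℂ} (hz : MemLocalRing M z) (hw : MemLocalRing M w)
    (h : MemLocalIdeal M (z - w)) (n : ℕ) : MemLocalIdeal M (z ^ n - w ^ n) := by
  induction n with
  | zero => simpa using memLocalIdeal_zero (M := M)
  | succ n ih =>
    rw [pow_succ, pow_succ]
    exact memLocalIdeal_mul_sub_mul (memLocalRing_pow hz n) hw ih h

theorem memLocalIdeal_sum_sub_sum {ι : Type*} {s : Finset ι} {f g : ι → ℂ}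
    (h : ∀ i ∈ s, MemLocalIdeal M (f i - g i)) :
    MemLocalIdeal M (∑ i ∈ s, f i - ∑ i ∈ s, g i) := by
  rw [← Finset.sum_sub_distrib]
  exact memLocalIdeal_sum h

end Prime

section Modular

variable {p : ℕ}

theorem memLocalIdeal_p (hM : IsPModular p M) : MemLocalIdeal M (p : ℂ) := by
  have := isPrime_of_isPModular hM
  simpa using memLocalIdeal_of_mem hM.2.2

theorem natCast_mem_iff (hM : IsPModular p M) (n : ℕ) : (n : AlgInt) ∈ M ↔ p ∣ n := by
  have := isPrime_of_isPModular hM
  constructor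
  · intro h
    by_contra hn
    have hcop : IsCoprime (n : ℤ) (p : ℤ) := by
      rw [Nat.isCoprime_iff_coprime]
      exact (Nat.Coprime.symm ((Nat.Prime.coprime_iff_not_dvd hM.1).2 hn))
    obtain ⟨u, v, huv⟩ := hcop
    apply one_notMem (M := M)
    have h1 : (1 : AlgInt) = (u : AlgInt) * (n : AlgInt) + (v : AlgInt) * (p : AlgInt) := by
      have := congrArg (fun z : ℤ => (z : AlgInt)) huv
      push_cast at this
      exact this.symm
    rw [h1]
    exact M.add_mem (M.mul_mem_left _ h) (M.mul_mem_left _ hM.2.2)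
  · rintro ⟨k, rfl⟩
    push_cast
    exact M.mul_mem_right _ hM.2.2

theorem intCast_mem_iff (hM : IsPModular p M) (n : ℤ) : (n : AlgInt) ∈ M ↔ (p : ℤ) ∣ n := by
  obtain ⟨m, rfl | rfl⟩ := n.eq_nat_or_neg
  · rw [Int.natCast_dvd_natCast, ← natCast_mem_iff hM m]
    simp
  · rw [dvd_neg, Int.natCast_dvd_natCast, ← natCast_mem_iff hM m]
    simp

theorem memLocalIdeal_natCast_iff (hM : IsPModular p M) (n : ℕ) :
    MemLocalIdeal M (n : ℂ) ↔ p ∣ n := by
  have := isPrime_of_isPModular hM
  rw [← natCast_mem_iff hM n, ← memLocalIdeal_algInt_iff]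
  simp

theorem memLocalIdeal_intCast_iff (hM : IsPModular p M) (n : ℤ) :
    MemLocalIdeal M (n : ℂ) ↔ (p : ℤ) ∣ n := by
  have := isPrime_of_isPModular hM
  rw [← intCast_mem_iff hM n, ← memLocalIdeal_algInt_iff]
  simp

theorem memLocalRing_inv_natCast (hM : IsPModular p M) {n : ℕ} (hn : ¬ p ∣ n) :
    MemLocalRing M ((n : ℂ)⁻¹) := by
  have := isPrime_of_isPModular hM
  exact memLocalRing_inv (memLocalRing_natCast n) (mt (memLocalIdeal_natCast_iff hM n).1 hn)

end Modular

section Reduction

/-- The local ideal as an ideal of the local ring. -/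
def localIdeal (M : Ideal AlgInt) [M.IsPrime] : Ideal (localRing M) where
  carrier := {z | MemLocalIdeal M (z : ℂ)}
  add_mem' := fun {a b} ha hb => by
    have := memLocalIdeal_add ha hb
    simpa using this
  zero_mem' := by
    have := memLocalIdeal_zero (M := M)
    simpa using this
  smul_mem' := fun c x hx => by
    have := memLocalIdeal_mul_left (M := M) c.2 hx
    simpa using this

variable [hP : M.IsPrime]

theorem mem_localIdeal {z : localRing M} : z ∈ localIdeal M ↔ MemLocalIdeal M (z : ℂ) := Iff.rfl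

/-- The inclusion of the algebraic integers in the local ring. -/
def inclLocal (M : Ideal AlgInt) [M.IsPrime] : AlgInt →+* localRing M where
  toFun a := ⟨(a : ℂ), memLocalRing_algInt a⟩
  map_one' := by ext; simp
  map_mul' := fun a b => by ext; simp
  map_zero' := by ext; simp
  map_add' := fun a b => by ext; simp

@[simp]
theorem coe_inclLocal (a : AlgInt) : ((inclLocal M a : localRing M) : ℂ) = (a : ℂ) := rfl

theorem localIdeal_isMaximal : (localIdeal M).IsMaximal := by
  rw [Ideal.isMaximal_iff]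
  refine ⟨?_, ?_⟩
  · intro h
    exact not_memLocalIdeal_one (M := M) (by simpa using (mem_localIdeal.1 h))
  · intro J x _ hx hxJ
    have hx' : ¬ MemLocalIdeal M (x : ℂ) := fun h => hx (mem_localIdeal.2 h)
    have h1 : (⟨(x : ℂ)⁻¹, memLocalRing_inv x.2 hx'⟩ : localRing M) * x = 1 := by
      ext
      simpa using inv_mul_cancel₀ (ne_zero_of_not_memLocalIdeal hx')
    rw [← h1]
    exact J.mul_mem_left _ hxJ

/-- The residue field of the local ring at `M`. -/
abbrev ResField (M : Ideal AlgInt) [M.IsPrime] : Type := localRing M ⧸ localIdeal M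

noncomputable instance resFieldField (M : Ideal AlgInt) [M.IsPrime] : Field (ResField M) :=
  @Ideal.Quotient.field _ _ (localIdeal M) localIdeal_isMaximal

/-- Reduction modulo the local ideal. -/
noncomputable def red (M : Ideal AlgInt) [M.IsPrime] : localRing M →+* ResField M :=
  Ideal.Quotient.mk (localIdeal M)

theorem red_surjective : Function.Surjective (red M) := Ideal.Quotient.mk_surjective

theorem red_eq_zero_iff {z : localRing M} : red M z = 0 ↔ MemLocalIdeal M (z : ℂ) :=
  Ideal.Quotient.eq_zero_iff_mem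

theorem red_eq_red_iff {z w : localRing M} :
    red M z = red M w ↔ MemLocalIdeal M ((z : ℂ) - (w : ℂ)) := by
  rw [← sub_eq_zero, ← map_sub, red_eq_zero_iff]
  simp

/-- Reduction of a complex number: zero off the local ring. -/
noncomputable def redC (M : Ideal AlgInt) [M.IsPrime] (z : ℂ) : ResField M :=
  open Classical in if h : MemLocalRing M z then red M ⟨z, h⟩ else 0

theorem redC_def {z : ℂ} (h : MemLocalRing M z) : redC M z = red M ⟨z, h⟩ := by
  simp [redC, h]

theorem redC_coe (z : localRing M) : redC M (z : ℂ) = red M z := redC_def z.2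

theorem redC_of_not {z : ℂ} (h : ¬ MemLocalRing M z) : redC M z = 0 := by
  simp [redC, h]

theorem redC_eq_zero_iff {z : ℂ} (h : MemLocalRing M z) :
    redC M z = 0 ↔ MemLocalIdeal M z := by
  rw [redC_def h, red_eq_zero_iff]

theorem redC_eq_iff {z w : ℂ} (hz : MemLocalRing M z) (hw : MemLocalRing M w) :
    redC M z = redC M w ↔ MemLocalIdeal M (z - w) := by
  rw [redC_def hz, redC_def hw, red_eq_red_iff]

theorem redC_add {z w : ℂ} (hz : MemLocalRing M z) (hw : MemLocalRing M w) :
    redC M (z + w) = redC M z + redC M w := by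
  rw [redC_def hz, redC_def hw, redC_def (memLocalRing_add hz hw), ← map_add]
  rfl

theorem redC_mul {z w : ℂ} (hz : MemLocalRing M z) (hw : MemLocalRing M w) :
    redC M (z * w) = redC M z * redC M w := by
  rw [redC_def hz, redC_def hw, redC_def (memLocalRing_mul hz hw), ← map_mul]
  rfl

theorem redC_sub {z w : ℂ} (hz : MemLocalRing M z) (hw : MemLocalRing M w) :
    redC M (z - w) = redC M z - redC M w := by
  rw [redC_def hz, redC_def hw, redC_def (memLocalRing_sub hz hw), ← map_sub]
  rfl

theorem redC_neg {z : ℂ} (hz : MemLocalRing M z) : redC M (-z) = - redC M z := by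
  rw [redC_def hz, redC_def (memLocalRing_neg hz), ← map_neg]
  rfl

theorem redC_zero : redC M 0 = 0 := (redC_eq_zero_iff memLocalRing_zero).2 memLocalIdeal_zero

theorem redC_one : redC M 1 = 1 := by
  rw [redC_def memLocalRing_one]
  exact map_one (red M)

theorem redC_pow {z : ℂ} (hz : MemLocalRing M z) (n : ℕ) : redC M (z ^ n) = redC M z ^ n := by
  rw [redC_def hz, redC_def (memLocalRing_pow hz n), ← map_pow]
  rfl

theorem redC_natCast (n : ℕ) : redC M (n : ℂ) = n := by
  rw [redC_def (memLocalRing_natCast n), ← map_natCast (red M)]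
  congr 1

theorem redC_intCast (n : ℤ) : redC M (n : ℂ) = n := by
  rw [redC_def (memLocalRing_intCast n), ← map_intCast (red M)]
  congr 1

theorem redC_sum {ι : Type*} {s : Finset ι} {f : ι → ℂ}
    (h : ∀ i ∈ s, MemLocalRing M (f i)) : redC M (∑ i ∈ s, f i) = ∑ i ∈ s, redC M (f i) := by
  classical
  induction s using Finset.induction_on with
  | empty => simpa using redC_zero (M := M)
  | insert a s ha ih =>
    have h1 : ∀ i ∈ s, MemLocalRing M (f i) := fun i hi => h i (Finset.mem_insert_of_mem hi)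
    rw [Finset.sum_insert ha, Finset.sum_insert ha,
      redC_add (h a (Finset.mem_insert_self _ _)) (memLocalRing_sum h1), ih h1]

theorem redC_inv {z : ℂ} (hz : MemLocalRing M z) (h : ¬ MemLocalIdeal M z) :
    redC M z⁻¹ = (redC M z)⁻¹ := by
  apply eq_inv_of_mul_eq_one_left
  rw [← redC_mul (memLocalRing_inv hz h) hz, inv_mul_cancel₀ (ne_zero_of_not_memLocalIdeal h),
    redC_one]

/-- If `M` is maximal, every element of the residue field is the reduction of an algebraic
integer. -/
theorem exists_algInt_redC_eq [hmax : M.IsMaximal] (x : ResField M) :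
    ∃ a : AlgInt, redC M (a : ℂ) = x := by
  obtain ⟨⟨z, hz⟩, rfl⟩ := red_surjective x
  obtain ⟨a, b, hb, rfl⟩ := id hz
  obtain ⟨c, m, hm, hc⟩ := hmax.exists_inv hb
  have hc' : c * b = 1 - m := by rw [← hc]; ring
  refine ⟨a * c, ?_⟩
  rw [← redC_def hz, redC_eq_iff (memLocalRing_algInt _) hz]
  have hb0 := coe_ne_zero_of_notMem hb
  have hcC : (c : ℂ) * (b : ℂ) = 1 - (m : ℂ) := by
    have := congrArg (fun z : AlgInt => (z : ℂ)) hc'
    push_cast at this
    exact this
  have : ((a * c : AlgInt) : ℂ) - (a : ℂ) / (b : ℂ) = ((- (a * m) : AlgInt) : ℂ) / (b : ℂ) := by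
    push_cast
    field_simp
    linear_combination (a : ℂ) * hcC
  rw [this]
  exact ⟨_, b, M.neg_mem (M.mul_mem_left _ hm), hb, rfl⟩

theorem charP_resField {p : ℕ} (hM : IsPModular p M) : CharP (ResField M) p := by
  constructor
  intro n
  rw [← redC_natCast n, redC_eq_zero_iff (memLocalRing_natCast n), memLocalIdeal_natCast_iff hM]

end Reduction

end Cfsg.Agent.Blocks.Local
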