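import Cfsg.Prelude.Def_Blocks
import Mathlib
set_option linter.all false

/-!
# Existence of a maximal ideal of the algebraic integers over a prime
-/

set_option autoImplicit false
open Cfsg

namespace Cfsg.Agent.Blocks.ExistsModular

/-- The inverse of a prime number is not an algebraic integer. -/
theorem not_isIntegral_inv {q : ℕ} (hq : q.Prime) : ¬ IsIntegral ℤ ((q : ℂ)⁻¹) := by
  intro h
  have h1 : IsIntegral ℤ ((q : ℚ)⁻¹) := by
    have h2 : ((q : ℂ)⁻¹) = algebraMap ℚ ℂ ((q : ℚ)⁻¹) := by simp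
    rw [h2] at h
    exact (isIntegral_algebraMap_iff (algebraMap ℚ ℂ).injective).1 h
  obtain ⟨n, hn⟩ := IsIntegrallyClosed.isIntegral_iff.1 h1
  have hq0 : (q : ℚ) ≠ 0 := by exact_mod_cast hq.ne_zero
  have h3 : (n : ℚ) * q = 1 := by
    have : (n : ℚ) = (q : ℚ)⁻¹ := by simpa using hn
    rw [this]
    field_simp
  have h4 : n * (q : ℤ) = 1 := by exact_mod_cast h3
  have h5 : (q : ℤ) ∣ 1 := ⟨n, by rw [mul_comm]; exact h4.symm⟩
  have h6 : q ∣ 1 := by exact_mod_cast h5
  exact hq.one_lt.ne' (Nat.dvd_one.1 h6)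

/-- There is a maximal ideal of the algebraic integers containing a given prime. -/
theorem exists_isPModular {p : ℕ} (hp : p.Prime) : ∃ M : Ideal AlgInt, IsPModular p M := by
  have hne : Ideal.span {(p : AlgInt)} ≠ ⊤ := by
    intro h
    rw [Ideal.span_singleton_eq_top] at h
    obtain ⟨u, hu⟩ := h
    have h1 : (p : ℂ) * ((↑(u⁻¹) : AlgInt) : ℂ) = 1 := by
      have h2 : (p : AlgInt) * (↑(u⁻¹) : AlgInt) = 1 := by
        rw [← hu]
        exact Units.mul_inv u
      exact_mod_cast congrArg (fun z : AlgInt => (z : ℂ)) h2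
    have h3 : ((p : ℂ)⁻¹) = ((↑(u⁻¹) : AlgInt) : ℂ) := inv_eq_of_mul_eq_one_right h1
    exact not_isIntegral_inv hp (h3 ▸ (↑(u⁻¹) : AlgInt).2)
  obtain ⟨M, hM, hle⟩ := Ideal.exists_le_maximal _ hne
  exact ⟨M, hp, hM, hle (Ideal.subset_span rfl)⟩

end Cfsg.Agent.Blocks.ExistsModular
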