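import Cfsg.Prelude.Def_Blocks
import Mathlib.Tactic
import Mathlib.GroupTheory.SpecificGroups.Cyclic
set_option linter.all false

/-!
# The `p`-part of an element

`IsPPart p g x`: existence, uniqueness, and a uniform exponent `n` with `g ^ n = x`.
-/

set_option autoImplicit false

open Cfsg

namespace Cfsg.Agent.Blocks.PPart

variable {G : Type*} [Group G]

theorem isPPart_iff {p : ℕ} {g x : G} : IsPPart p g x ↔
    ∃ y : G, x * y = g ∧ Commute x y ∧ (∃ k : ℕ, orderOf x = p ^ k) ∧ ¬ p ∣ orderOf y := Iff.rfl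

/-- A uniform exponent picking the `p`-part. -/
theorem exists_pow_eq [Finite G] (p : ℕ) [hp : Fact p.Prime] :
    ∃ n : ℕ, ∀ g x : G, IsPPart p g x → g ^ n = x := by
  -- |G| = p^a m
  obtain ⟨a, m, hm, hG⟩ := Nat.exists_eq_pow_mul_and_not_dvd (n := Nat.card G)
    Nat.card_pos.ne' p hp.out.ne_one
  have hcop : Nat.Coprime (p ^ a) m := Nat.Coprime.pow_left _ ((Nat.Prime.coprime_iff_not_dvd hp.out).2 hm)
  obtain ⟨n, hn1, hn2⟩ := Nat.chineseRemainder hcop 1 0
  refine ⟨n, ?_⟩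
  rintro g x ⟨y, rfl, hxy, ⟨k, hk⟩, hy⟩
  rw [hxy.mul_pow]
  have h1 : x ^ n = x := by
    have h2 : orderOf x ∣ p ^ a := by
      have h3 : orderOf x ∣ p ^ a * m := hG ▸ orderOf_dvd_natCard x
      refine Nat.Coprime.dvd_of_dvd_mul_right ?_ h3
      rw [hk]
      exact Nat.Coprime.pow_left _ ((Nat.Prime.coprime_iff_not_dvd hp.out).2 hm)
    have h3 : n ≡ 1 [MOD orderOf x] := hn1.of_dvd h2
    have h4 := (pow_eq_pow_iff_modEq (x := x)).2 h3
    rwa [pow_one] at h4
  have h5 : y ^ n = 1 := by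
    have h2 : orderOf y ∣ m := by
      have h3 : orderOf y ∣ p ^ a * m := hG ▸ orderOf_dvd_natCard y
      refine Nat.Coprime.dvd_of_dvd_mul_left ?_ h3
      exact (Nat.Coprime.pow_left _ ((Nat.Prime.coprime_iff_not_dvd hp.out).2 hy)).symm
    have h3 : n ≡ 0 [MOD orderOf y] := hn2.of_dvd h2
    have h4 := (pow_eq_pow_iff_modEq (x := y)).2 h3
    rwa [pow_zero] at h4
  rw [h1, h5, mul_one]

theorem isPPart_unique [Finite G] {p : ℕ} [Fact p.Prime] {g x x' : G} (h : IsPPart p g x)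
    (h' : IsPPart p g x') : x = x' := by
  obtain ⟨n, hn⟩ := exists_pow_eq (G := G) p
  rw [← hn g x h, hn g x' h']

theorem exists_isPPart [Finite G] (p : ℕ) [hp : Fact p.Prime] (g : G) : ∃ x : G, IsPPart p g x := by
  obtain ⟨a, m, hm, hG⟩ := Nat.exists_eq_pow_mul_and_not_dvd (n := orderOf g)
    (orderOf_pos g).ne' p hp.out.ne_one
  have hcop : Nat.Coprime (p ^ a) m := Nat.Coprime.pow_left _ ((Nat.Prime.coprime_iff_not_dvd hp.out).2 hm)
  obtain ⟨n, hn1, hn2⟩ := Nat.chineseRemainder hcop 1 0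
  obtain ⟨n', hn1', hn2'⟩ := Nat.chineseRemainder hcop 0 1
  refine ⟨g ^ n, g ^ n', ?_, ?_, ?_, ?_⟩
  · rw [← pow_add]
    have h3 : n + n' ≡ 1 [MOD p ^ a * m] := by
      rw [← Nat.modEq_and_modEq_iff_modEq_mul hcop]
      exact ⟨hn1.add hn1', hn2.add hn2'⟩
    rw [← hG] at h3
    have h4 := (pow_eq_pow_iff_modEq (x := g)).2 h3
    rwa [pow_one] at h4
  · exact Commute.pow_pow (Commute.refl g) n n'
  · have h1 : orderOf (g ^ n) ∣ p ^ a := by
      apply orderOf_dvd_of_pow_eq_one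
      rw [← pow_mul]
      have : orderOf g ∣ n * p ^ a := by
        rw [hG, mul_comm]
        exact Nat.mul_dvd_mul ((Nat.modEq_zero_iff_dvd).1 hn2) dvd_rfl
      exact orderOf_dvd_iff_pow_eq_one.1 this
    obtain ⟨k, _, hk⟩ := (Nat.dvd_prime_pow hp.out).1 h1
    exact ⟨k, hk⟩
  · intro h
    have h1 : orderOf (g ^ n') ∣ m := by
      apply orderOf_dvd_of_pow_eq_one
      rw [← pow_mul]
      have : orderOf g ∣ n' * m := by
        rw [hG]
        exact Nat.mul_dvd_mul ((Nat.modEq_zero_iff_dvd).1 hn1') dvd_rfl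
      exact orderOf_dvd_iff_pow_eq_one.1 this
    exact hm (h.trans h1)

theorem isPPart_mul {p : ℕ} {x y : G} (hxy : Commute x y) (hx : ∃ k : ℕ, orderOf x = p ^ k)
    (hy : ¬ p ∣ orderOf y) : IsPPart p (x * y) x := ⟨y, rfl, hxy, hx, hy⟩

theorem isPPart_of_isPGroup {p : ℕ} [hp : Fact p.Prime] {x : G}
    (hx : ∃ k : ℕ, orderOf x = p ^ k) : IsPPart p x x :=
  ⟨1, mul_one x, Commute.one_right x, hx, by rw [orderOf_one]; exact hp.out.not_dvd_one⟩

theorem isPPart_of_not_dvd {p : ℕ} {y : G} (hy : ¬ p ∣ orderOf y) : IsPPart p y 1 :=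
  ⟨y, one_mul y, Commute.one_left y, ⟨0, by simp⟩, hy⟩

theorem isPPart_map {H : Type*} [Group H] {p : ℕ} {g x : G} (f : G →* H)
    (hf : Function.Injective f) (h : IsPPart p g x) : IsPPart p (f g) (f x) := by
  obtain ⟨y, rfl, hxy, ⟨k, hk⟩, hy⟩ := h
  refine ⟨f y, by rw [map_mul], ?_, ⟨k, ?_⟩, ?_⟩
  · exact hxy.map f
  · rw [orderOf_injective f hf, hk]
  · rwa [orderOf_injective f hf]

theorem isPPart_conj {p : ℕ} {g x : G} (h : IsPPart p g x) (c : G) :
    IsPPart p (c * g * c⁻¹) (c * x * c⁻¹) :=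
  isPPart_map (MulAut.conj c).toMonoidHom (MulAut.conj c).injective h

theorem isPPart_coe {H : Subgroup G} {p : ℕ} {g x : H} :
    IsPPart p g x → IsPPart p (g : G) (x : G) :=
  isPPart_map H.subtype H.subtype_injective

/-- Conjugating one element with `p`-part `z` into another one means centralizing `z`. -/
theorem mem_centralizer_of_conj [Finite G] {p : ℕ} [Fact p.Prime] {g g' z c : G}
    (h : IsPPart p g z) (h' : IsPPart p g' z) (hc : c * g * c⁻¹ = g') :
    c ∈ Subgroup.centralizer ({z} : Set G) := by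
  have h1 := isPPart_conj h c
  rw [hc] at h1
  have h2 := isPPart_unique h1 h'
  rw [Subgroup.mem_centralizer_singleton_iff]
  calc c * z = c * z * c⁻¹ * c := by group
    _ = z * c := by rw [h2]

end Cfsg.Agent.Blocks.PPart
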