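import Mathlib
import Cfsg.Prelude.Def_Blocks
set_option linter.all false

/-!
# Central characters of a finite group as algebra homomorphisms on the centre of `ℂ[G]`

* `ofFun f` : the element of the group algebra with coefficient function `f`;
* `chExt χ` : the linear extension of `χ : G → ℂ` to `ℂ[G]`;
* `omegaL χ` : `a ↦ χ(a) / χ(1)`, multiplicative on the centre (`omegaL_mul`, `omega`);
* `classSum g`, `omegaL_classSum : omegaL χ (classSum g) = centralChar χ g`;
* `isIntegral_centralChar`, `isIntegral_irr`.

Everything here only needs Schur's lemma (no orthogonality).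
-/

set_option autoImplicit false
set_option linter.unusedSectionVars false

namespace Cfsg.Agent.Blocks.Central

open Cfsg
open scoped ComplexConjugate

universe u

variable {G : Type u} [Group G]

/-! ### Group algebra elements from functions -/

section ofFun

variable {k : Type*} [CommRing k]

/-- The element of the group algebra with coefficient function `f`. -/
noncomputable def ofFun [Finite G] (f : G → k) : MonoidAlgebra k G :=
  .ofCoeff (Finsupp.equivFunOnFinite.symm f)

@[simp] theorem coeff_ofFun [Finite G] (f : G → k) (g : G) : (ofFun f).coeff g = f g := rfl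

theorem ofFun_coeff [Finite G] (a : MonoidAlgebra k G) : ofFun (fun g => a.coeff g) = a := by
  ext g; rfl

theorem ext_coeff {a b : MonoidAlgebra k G} (h : ∀ g, a.coeff g = b.coeff g) : a = b := by
  ext g; exact h g

theorem ofFun_add [Finite G] (f f' : G → k) : ofFun (f + f') = ofFun f + ofFun f' := by
  ext g; rfl

theorem ofFun_sub [Finite G] (f f' : G → k) : ofFun (f - f') = ofFun f - ofFun f' := by
  ext g; rfl

theorem ofFun_smul [Finite G] (c : k) (f : G → k) : ofFun (c • f) = c • ofFun f := by
  ext g; rfl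

theorem ofFun_injective [Finite G] : Function.Injective (ofFun : (G → k) → MonoidAlgebra k G) := by
  intro f f' h
  funext g
  have := congrArg (fun a : MonoidAlgebra k G => a.coeff g) h
  simpa using this

/-- Product formula for coefficients. -/
theorem coeff_mul_eq_sum [Fintype G] (a b : MonoidAlgebra k G) (g : G) :
    (a * b).coeff g = ∑ x : G, a.coeff x * b.coeff (x⁻¹ * g) := by
  classical
  rw [MonoidAlgebra.coeff_mul_apply_left, Finsupp.sum_fintype]
  intro i; simp

/-- Central elements are those with class function coefficients. -/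
theorem mem_center_iff {a : MonoidAlgebra k G} :
    a ∈ Subalgebra.center k (MonoidAlgebra k G) ↔
      ∀ g h : G, a.coeff (h * g * h⁻¹) = a.coeff g := by
  rw [Subalgebra.mem_center_iff]
  constructor
  · intro h g x
    have h1 := congrArg (fun b : MonoidAlgebra k G => b.coeff (x * g)) (h (MonoidAlgebra.single x 1))
    simp only [MonoidAlgebra.coeff_single_mul_apply, MonoidAlgebra.coeff_mul_single_apply] at h1
    simpa using h1.symm
  · intro h b
    induction b using MonoidAlgebra.induction_linear with
    | zero => simp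
    | add x y hx hy => rw [add_mul, mul_add, hx, hy]
    | single x c =>
      ext g
      rw [MonoidAlgebra.coeff_single_mul_apply, MonoidAlgebra.coeff_mul_single_apply, mul_comm c]
      congr 1
      have := h (x⁻¹ * g) x
      simpa using this.symm

theorem ofFun_mem_center_iff [Finite G] {f : G → ℂ} :
    ofFun f ∈ Subalgebra.center ℂ (MonoidAlgebra ℂ G) ↔ IsClassFunction G f :=
  mem_center_iff

end ofFun

/-! ### The linear extension of a function to the group algebra -/

/-- The linear extension of `χ : G → ℂ` to the group algebra. -/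
noncomputable def chExt (χ : G → ℂ) : MonoidAlgebra ℂ G →ₗ[ℂ] ℂ :=
  (Finsupp.linearCombination ℂ χ) ∘ₗ (MonoidAlgebra.coeffLinearEquiv ℂ).toLinearMap

theorem chExt_single (χ : G → ℂ) (g : G) (c : ℂ) :
    chExt χ (MonoidAlgebra.single g c) = c * χ g := by
  simp [chExt]

theorem chExt_apply [Fintype G] (χ : G → ℂ) (a : MonoidAlgebra ℂ G) :
    chExt χ a = ∑ g, a.coeff g * χ g := by
  simp [chExt, Finsupp.linearCombination_apply, Finsupp.sum_fintype]

theorem chExt_ofFun [Fintype G] (χ : G → ℂ) (f : G → ℂ) :
    chExt χ (ofFun f) = ∑ g, f g * χ g := by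
  simp [chExt_apply]

theorem chExt_one (χ : G → ℂ) : chExt χ 1 = χ 1 := by
  rw [MonoidAlgebra.one_def, chExt_single, one_mul]

/-- Trace of `ρ(a)`. -/
theorem trace_asAlgebraHom {V : Type*} [AddCommGroup V] [Module ℂ V] [FiniteDimensional ℂ V]
    (ρ : Representation ℂ G V) (a : MonoidAlgebra ℂ G) :
    LinearMap.trace ℂ V (ρ.asAlgebraHom a) = chExt ρ.character a := by
  induction a using MonoidAlgebra.induction_linear with
  | zero => simp
  | add x y hx hy => simp [hx, hy]
  | single x c => simp [chExt_single, Representation.character]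

theorem chExt_mul_comm {V : Type*} [AddCommGroup V] [Module ℂ V] [FiniteDimensional ℂ V]
    (ρ : Representation ℂ G V) (a b : MonoidAlgebra ℂ G) :
    chExt ρ.character (a * b) = chExt ρ.character (b * a) := by
  rw [← trace_asAlgebraHom, ← trace_asAlgebraHom, map_mul ρ.asAlgebraHom, map_mul ρ.asAlgebraHom,
    LinearMap.trace_mul_comm]

/-- `a ↦ χ(a) / χ(1)`, linear in `a`. -/
noncomputable def omegaL (χ : G → ℂ) : MonoidAlgebra ℂ G →ₗ[ℂ] ℂ :=
  (χ 1)⁻¹ • chExt χ

theorem omegaL_eq (χ : G → ℂ) (a : MonoidAlgebra ℂ G) : omegaL χ a = chExt χ a / χ 1 := by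
  simp [omegaL, div_eq_inv_mul]

theorem omegaL_apply [Fintype G] (χ : G → ℂ) (a : MonoidAlgebra ℂ G) :
    omegaL χ a = (∑ g, a.coeff g * χ g) / χ 1 := by
  rw [omegaL_eq, chExt_apply]

/-! ### Schur's lemma -/

section schur

variable {V : Type*} [AddCommGroup V] [Module ℂ V] [FiniteDimensional ℂ V]
  (ρ : Representation ℂ G V)

theorem exists_smul_of_commute [ρ.IsIrreducible] (T : V →ₗ[ℂ] V)
    (hT : ∀ g : G, T ∘ₗ ρ g = ρ g ∘ₗ T) : ∃ c : ℂ, T = c • (1 : Module.End ℂ V) := by
  let f : Representation.IntertwiningMap ρ ρ := ⟨T, hT⟩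
  have hbij : Function.Bijective (algebraMap ℂ (Representation.IntertwiningMap ρ ρ)) :=
    Representation.IsIrreducible.algebraMap_intertwiningMap_bijective_of_isAlgClosed
  obtain ⟨c, hc⟩ := hbij.2 f
  refine ⟨c, ?_⟩
  have h1 : ((algebraMap ℂ (Representation.IntertwiningMap ρ ρ)) c).toLinearMap = T := by
    rw [hc]
  ext v
  have h2 := LinearMap.congr_fun h1 v
  rw [Algebra.algebraMap_eq_smul_one] at h2
  exact h2.symm

theorem nontrivial_of_irreducible [hρ : ρ.IsIrreducible] : Nontrivial V := by
  by_contra h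
  rw [not_nontrivial_iff_subsingleton] at h
  obtain ⟨x, y, hxy⟩ := hρ.toNontrivial
  apply hxy
  apply SetLike.ext
  intro v
  have hv : v = 0 := Subsingleton.elim _ _
  subst hv
  exact ⟨fun _ => y.toSubmodule.zero_mem, fun _ => x.toSubmodule.zero_mem⟩

theorem character_one_ne_zero [ρ.IsIrreducible] : ρ.character 1 ≠ 0 := by
  have := nontrivial_of_irreducible ρ
  rw [Representation.char_one]
  exact_mod_cast (Module.finrank_pos (R := ℂ) (M := V)).ne'

/-- A central element of the group algebra acts on an irreducible representation as the scalar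
`omegaL χ a`. -/
theorem asAlgebraHom_center [ρ.IsIrreducible] {a : MonoidAlgebra ℂ G}
    (ha : a ∈ Subalgebra.center ℂ (MonoidAlgebra ℂ G)) :
    ρ.asAlgebraHom a = omegaL ρ.character a • (1 : Module.End ℂ V) := by
  obtain ⟨c, hc⟩ := exists_smul_of_commute ρ (ρ.asAlgebraHom a) (fun g => by
    have h1 := (Subalgebra.mem_center_iff.1 ha) (MonoidAlgebra.single g 1)
    have h2 := congrArg ρ.asAlgebraHom h1
    rw [map_mul, map_mul, Representation.asAlgebraHom_single_one] at h2
    exact h2.symm)
  have h3 : chExt ρ.character a = c * ρ.character 1 := by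
    rw [← trace_asAlgebraHom, hc]
    simp [Representation.character]
  rw [omegaL_eq, h3, mul_div_cancel_right₀ _ (character_one_ne_zero ρ), hc]

theorem chExt_mul_of_irreducible [ρ.IsIrreducible] {a : MonoidAlgebra ℂ G}
    (ha : a ∈ Subalgebra.center ℂ (MonoidAlgebra ℂ G)) (b : MonoidAlgebra ℂ G) :
    chExt ρ.character (a * b) = omegaL ρ.character a * chExt ρ.character b := by
  rw [← trace_asAlgebraHom, map_mul, asAlgebraHom_center ρ ha, smul_mul_assoc, one_mul, map_smul,
    smul_eq_mul, trace_asAlgebraHom]

end schur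

/-! ### Central characters of irreducible characters -/

theorem irr_one_ne_zero {χ : G → ℂ} (hχ : IsIrrCharacter G χ) : χ 1 ≠ 0 := by
  obtain ⟨n, ρ, hρ, rfl⟩ := hχ
  exact character_one_ne_zero ρ

/-- The degree of an irreducible character is a positive natural number. -/
theorem exists_degree {χ : G → ℂ} (hχ : IsIrrCharacter G χ) : ∃ n : ℕ, 0 < n ∧ χ 1 = n := by
  obtain ⟨n, ρ, hρ, rfl⟩ := hχ
  have := nontrivial_of_irreducible ρ
  exact ⟨Module.finrank ℂ (Fin n → ℂ), Module.finrank_pos, Representation.char_one ρ⟩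

theorem isClassFunction_of_irr {χ : G → ℂ} (hχ : IsIrrCharacter G χ) : IsClassFunction G χ := by
  obtain ⟨n, ρ, hρ, rfl⟩ := hχ
  intro g h
  exact Representation.char_conj ρ g h

/-- Multiplication by a central element. -/
theorem chExt_mul {χ : G → ℂ} (hχ : IsIrrCharacter G χ) {a : MonoidAlgebra ℂ G}
    (ha : a ∈ Subalgebra.center ℂ (MonoidAlgebra ℂ G)) (b : MonoidAlgebra ℂ G) :
    chExt χ (a * b) = omegaL χ a * chExt χ b := by
  obtain ⟨n, ρ, hρ, rfl⟩ := hχ
  exact chExt_mul_of_irreducible ρ ha b

theorem omegaL_mul {χ : G → ℂ} (hχ : IsIrrCharacter G χ) {a : MonoidAlgebra ℂ G}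
    (ha : a ∈ Subalgebra.center ℂ (MonoidAlgebra ℂ G)) (b : MonoidAlgebra ℂ G) :
    omegaL χ (a * b) = omegaL χ a * omegaL χ b := by
  rw [omegaL_eq χ (a * b), chExt_mul hχ ha, omegaL_eq χ b, mul_div_assoc]

theorem omegaL_one {χ : G → ℂ} (hχ : IsIrrCharacter G χ) : omegaL χ 1 = 1 := by
  rw [omegaL_eq, chExt_one, div_self (irr_one_ne_zero hχ)]

/-- The central character of an irreducible character as an algebra homomorphism. -/
noncomputable def omega {χ : G → ℂ} (hχ : IsIrrCharacter G χ) :
    Subalgebra.center ℂ (MonoidAlgebra ℂ G) →ₐ[ℂ] ℂ :=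
  AlgHom.ofLinearMap ((omegaL χ) ∘ₗ (Subalgebra.center ℂ (MonoidAlgebra ℂ G)).val.toLinearMap)
    (omegaL_one hχ) (fun a b => omegaL_mul hχ a.2 b.1)

@[simp] theorem omega_apply {χ : G → ℂ} (hχ : IsIrrCharacter G χ)
    (a : Subalgebra.center ℂ (MonoidAlgebra ℂ G)) : omega hχ a = omegaL χ (a : MonoidAlgebra ℂ G) :=
  rfl

theorem omegaL_pow {χ : G → ℂ} (hχ : IsIrrCharacter G χ) {a : MonoidAlgebra ℂ G}
    (ha : a ∈ Subalgebra.center ℂ (MonoidAlgebra ℂ G)) (n : ℕ) :
    omegaL χ (a ^ n) = omegaL χ a ^ n := by
  have h := map_pow (omega hχ) ⟨a, ha⟩ n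
  rw [omega_apply, omega_apply] at h
  exact h

theorem omegaL_prod {χ : G → ℂ} (hχ : IsIrrCharacter G χ) {ι : Type*} (s : Finset ι)
    (f : ι → Subalgebra.center ℂ (MonoidAlgebra ℂ G)) :
    omegaL χ ((∏ i ∈ s, f i : Subalgebra.center ℂ (MonoidAlgebra ℂ G)) : MonoidAlgebra ℂ G) =
      ∏ i ∈ s, omegaL χ (f i : MonoidAlgebra ℂ G) := by
  have h := map_prod (omega hχ) f s
  simp only [omega_apply] at h
  exact h

/-! ### Class sums -/

section classSum

variable [Finite G]

/-- The indicator function of the conjugacy class of `g`. -/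
noncomputable def classInd (k : Type*) [CommRing k] (g : G) : G → k :=
  open scoped Classical in fun x => if IsConj g x then 1 else 0

/-- The class sum of the class of `g`. -/
noncomputable def classSum (k : Type*) [CommRing k] (g : G) : MonoidAlgebra k G :=
  ofFun (classInd k g)

open scoped Classical in
theorem coeff_classSum {k : Type*} [CommRing k] (g x : G) :
    (classSum k g).coeff x = if IsConj g x then 1 else 0 := rfl

theorem coeff_classSum_of_isConj {k : Type*} [CommRing k] {g x : G} (h : IsConj g x) :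
    (classSum k g).coeff x = 1 := by
  classical
  rw [coeff_classSum, if_pos h]

theorem coeff_classSum_of_not_isConj {k : Type*} [CommRing k] {g x : G} (h : ¬ IsConj g x) :
    (classSum k g).coeff x = 0 := by
  classical
  rw [coeff_classSum, if_neg h]

theorem isConj_conj_iff {g x h : G} : IsConj g (h * x * h⁻¹) ↔ IsConj g x := by
  constructor
  · intro H
    exact H.trans (isConj_iff.2 ⟨h⁻¹, by group⟩)
  · intro H
    exact H.trans (isConj_iff.2 ⟨h, rfl⟩)

theorem classSum_mem_center {k : Type*} [CommRing k] (g : G) :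
    classSum k g ∈ Subalgebra.center k (MonoidAlgebra k G) := by
  classical
  rw [mem_center_iff]
  intro x h
  rw [coeff_classSum, coeff_classSum]
  simp only [isConj_conj_iff]

/-- The number of conjugates of `g` is the index of the centralizer. -/
theorem card_isConj (g : G) :
    Nat.card {x : G | IsConj g x} = (Subgroup.centralizer ({g} : Set G)).index := by
  classical
  have h1 : {x : G | IsConj g x} = MulAction.orbit (ConjAct G) g := by
    ext x
    rw [ConjAct.mem_orbit_conjAct]
    exact ⟨fun h => h.symm, fun h => h.symm⟩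
  rw [h1]
  have h2 := Subgroup.index_comap_of_surjective (MulAction.stabilizer (ConjAct G) g)
    (f := (ConjAct.toConjAct : G ≃* ConjAct G).toMonoidHom) ConjAct.toConjAct.surjective
  have h3 := congrArg Subgroup.index (Subgroup.centralizer_eq_comap_stabilizer g)
  exact ((h3.trans h2).trans (MulAction.index_stabilizer (ConjAct G) g)).symm

/-- Sum of a class function over a conjugacy class. -/
theorem sum_classInd_mul [Fintype G] {k : Type*} [CommRing k] (g : G) (F : G → k)
    (hF : ∀ x h : G, F (h * x * h⁻¹) = F x) :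
    ∑ x, classInd k g x * F x = ((Subgroup.centralizer ({g} : Set G)).index : k) * F g := by
  classical
  have h1 : ∀ x : G, classInd k g x * F x = if IsConj g x then F g else 0 := by
    intro x
    unfold classInd
    split_ifs with h
    · obtain ⟨c, rfl⟩ := isConj_iff.1 h
      rw [hF, one_mul]
    · rw [zero_mul]
  rw [Finset.sum_congr rfl fun x _ => h1 x, ← Finset.sum_filter, Finset.sum_const, nsmul_eq_mul,
    ← card_isConj, Nat.card_eq_fintype_card, Fintype.card_ofFinset]
  congr 3

theorem omegaL_classSum {χ : G → ℂ} (hχ : IsClassFunction G χ) (g : G) :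
    omegaL χ (classSum ℂ g) = centralChar χ g := by
  classical
  have := Fintype.ofFinite G
  rw [omegaL_apply]
  have h := sum_classInd_mul (k := ℂ) g χ hχ
  unfold centralChar
  rw [← h]
  rfl

theorem classSum_one {k : Type*} [CommRing k] : classSum k (1 : G) = 1 := by
  classical
  apply ext_coeff
  intro x
  rw [coeff_classSum, MonoidAlgebra.one_def, MonoidAlgebra.coeff_single, Finsupp.single_apply]
  simp only [isConj_one_right, eq_comm]

theorem centralChar_one {χ : G → ℂ} (hχ : IsIrrCharacter G χ) : centralChar χ (1 : G) = 1 := by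
  rw [← omegaL_classSum (isClassFunction_of_irr hχ), classSum_one, omegaL_one hχ]

theorem centralChar_conj {χ : G → ℂ} (hχ : IsClassFunction G χ) (g h : G) :
    centralChar χ (h * g * h⁻¹) = centralChar χ g := by
  have h1 : classSum ℂ (h * g * h⁻¹) = classSum ℂ g := by
    classical
    apply ext_coeff
    intro x
    rw [coeff_classSum, coeff_classSum]
    have : IsConj (h * g * h⁻¹) x ↔ IsConj g x :=
      ⟨fun H => (isConj_iff.2 ⟨h, rfl⟩ : IsConj g (h * g * h⁻¹)).trans H,
        fun H => (isConj_iff.2 ⟨h, rfl⟩ : IsConj g (h * g * h⁻¹)).symm.trans H⟩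
    simp only [this]
  rw [← omegaL_classSum hχ, h1, omegaL_classSum hχ]

theorem centralChar_of_isConj {χ : G → ℂ} (hχ : IsClassFunction G χ) {g h : G}
    (hgh : IsConj g h) : centralChar χ g = centralChar χ h := by
  obtain ⟨c, rfl⟩ := isConj_iff.1 hgh
  rw [centralChar_conj hχ]

/-- Sum over the group of a class function, grouped by conjugacy classes. -/
theorem sum_eq_sum_conjClasses [Fintype G] [Fintype (ConjClasses G)] {k : Type*} [CommRing k]
    (F : G → k) (hF : ∀ x h : G, F (h * x * h⁻¹) = F x) :
    ∑ x, F x = ∑ c : ConjClasses G,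
      ((Subgroup.centralizer ({Quotient.out c} : Set G)).index : k) * F (Quotient.out c) := by
  classical
  rw [← Finset.sum_fiberwise (s := Finset.univ) (g := fun x : G => ConjClasses.mk x)]
  refine Finset.sum_congr rfl fun c _ => ?_
  rw [← sum_classInd_mul _ F hF, Finset.sum_filter]
  refine Finset.sum_congr rfl fun x _ => ?_
  unfold classInd
  have h1 : ConjClasses.mk x = c ↔ IsConj (Quotient.out c) x := by
    rw [← ConjClasses.mk_eq_mk_iff_isConj]
    have : ConjClasses.mk (Quotient.out c) = c := Quotient.out_eq c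
    rw [this, eq_comm]
  simp only [h1, ite_mul, one_mul, zero_mul]

/-- A central element is the combination of class sums given by its coefficients. -/
theorem eq_sum_classSum [Fintype (ConjClasses G)] {k : Type*} [CommRing k]
    {a : MonoidAlgebra k G} (ha : a ∈ Subalgebra.center k (MonoidAlgebra k G)) :
    a = ∑ c : ConjClasses G, a.coeff (Quotient.out c) • classSum k (Quotient.out c : G) := by
  classical
  apply ext_coeff
  intro x
  rw [MonoidAlgebra.coeff_sum, Finsupp.finsetSum_apply]
  simp only [MonoidAlgebra.coeff_smul_apply, coeff_classSum, smul_eq_mul, mul_ite, mul_one,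
    mul_zero]
  have h1 : ∀ c : ConjClasses G, IsConj (Quotient.out c) x ↔ ConjClasses.mk x = c := by
    intro c
    rw [← ConjClasses.mk_eq_mk_iff_isConj]
    have : ConjClasses.mk (Quotient.out c) = c := Quotient.out_eq c
    rw [this, eq_comm]
  simp only [h1, Finset.sum_ite_eq, Finset.mem_univ, if_true]
  have h2 : IsConj (Quotient.out (ConjClasses.mk x)) x := (h1 _).2 rfl
  obtain ⟨d, hd⟩ := isConj_iff.1 h2
  conv_lhs => rw [← hd]
  exact mem_center_iff.1 ha _ _

/-- The value of a central character at a central element through its values at class sums. -/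
theorem omegaL_eq_sum_centralChar [Fintype (ConjClasses G)] {χ : G → ℂ}
    (hχ : IsClassFunction G χ) {a : MonoidAlgebra ℂ G}
    (ha : a ∈ Subalgebra.center ℂ (MonoidAlgebra ℂ G)) :
    omegaL χ a = ∑ c : ConjClasses G,
      a.coeff (Quotient.out c) * centralChar χ (Quotient.out c : G) := by
  conv_lhs => rw [eq_sum_classSum ha]
  rw [map_sum]
  refine Finset.sum_congr rfl fun c _ => ?_
  rw [map_smul, omegaL_classSum hχ, smul_eq_mul]

open scoped Classical in
/-- The class multiplication constants. -/
theorem coeff_classSum_mul_classSum [Fintype G] {k : Type*} [CommRing k] (g h x : G) :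
    (classSum k g * classSum k h).coeff x =
      ((Finset.univ.filter fun y : G => IsConj g y ∧ IsConj h (y⁻¹ * x)).card : k) := by
  rw [coeff_mul_eq_sum, Finset.card_eq_sum_ones, Nat.cast_sum, Finset.sum_filter]
  refine Finset.sum_congr rfl fun y _ => ?_
  rw [coeff_classSum, coeff_classSum, ite_and]
  split_ifs <;> simp

theorem centralChar_mul_eq_sum [Fintype (ConjClasses G)] {χ : G → ℂ} (hχ : IsIrrCharacter G χ)
    (g h : G) :
    centralChar χ g * centralChar χ h = ∑ c : ConjClasses G,
      (classSum ℂ g * classSum ℂ h).coeff (Quotient.out c) *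
        centralChar χ (Quotient.out c : G) := by
  rw [← omegaL_classSum (isClassFunction_of_irr hχ), ← omegaL_classSum (isClassFunction_of_irr hχ),
    ← omegaL_mul hχ (classSum_mem_center g),
    omegaL_eq_sum_centralChar (isClassFunction_of_irr hχ)
      (Subalgebra.mul_mem _ (classSum_mem_center g) (classSum_mem_center h))]

end classSum

/-! ### Integrality -/

section integral

variable [Finite G]

theorem isIntegral_character {V : Type*} [AddCommGroup V] [Module ℂ V] [FiniteDimensional ℂ V]
    (ρ : Representation ℂ G V) (g : G) : IsIntegral ℤ (ρ.character g) := by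
  classical
  have hsplit : (LinearMap.charpoly (ρ g)).Splits := IsAlgClosed.splits _
  have htr : ρ.character g = (LinearMap.charpoly (ρ g)).roots.sum :=
    Module.End.trace_eq_sum_roots_charpoly_of_splits hsplit
  rw [htr]
  refine IsIntegral.multiset_sum ?_
  intro μ hμ
  have hroot : (LinearMap.charpoly (ρ g)).IsRoot μ := (Polynomial.mem_roots'.1 hμ).2
  have heig : Module.End.HasEigenvalue (ρ g) μ :=
    (Module.End.hasEigenvalue_iff_isRoot_charpoly _ _).2 hroot
  obtain ⟨v, hv⟩ := heig.exists_hasEigenvector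
  have hpow : μ ^ (Nat.card G) = 1 := by
    have h1 : ((ρ g) ^ (Nat.card G)) v = μ ^ (Nat.card G) • v := hv.pow_apply _
    rw [← map_pow, pow_card_eq_one', map_one] at h1
    have h2 : (μ ^ (Nat.card G) - 1) • v = 0 := by
      rw [sub_smul, ← h1, one_smul]; simp
    rcases smul_eq_zero.1 h2 with h3 | h3
    · exact sub_eq_zero.1 h3
    · exact absurd h3 hv.2
  refine ⟨Polynomial.X ^ (Nat.card G) - 1, ?_, ?_⟩
  · exact Polynomial.monic_X_pow_sub_C (1 : ℤ) (Nat.card_pos.ne')
  · simp [hpow]

theorem isIntegral_irr {χ : G → ℂ} (hχ : IsIrrCharacter G χ) (g : G) : IsIntegral ℤ (χ g) := by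
  obtain ⟨n, ρ, hρ, rfl⟩ := hχ
  exact isIntegral_character ρ g

theorem isIntegral_omegaL_map {χ : G → ℂ} (hχ : IsIrrCharacter G χ) {a : MonoidAlgebra ℤ G}
    (ha : a ∈ Subalgebra.center ℤ (MonoidAlgebra ℤ G)) :
    IsIntegral ℤ (omegaL χ (MonoidAlgebra.mapRingHom G (Int.castRingHom ℂ) a)) := by
  have hχ' := hχ
  obtain ⟨n, ρ, hρ, rfl⟩ := hχ
  have := nontrivial_of_irreducible ρ
  have hfin : Module.Finite ℤ (MonoidAlgebra ℤ G) :=
    Module.Finite.equiv (MonoidAlgebra.coeffLinearEquiv ℤ (S := ℤ) (M := G)).symm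
  have h1 : IsIntegral ℤ a := IsIntegral.of_finite ℤ a
  let φ : MonoidAlgebra ℤ G →+* Module.End ℂ (Fin n → ℂ) :=
    (ρ.asAlgebraHom : MonoidAlgebra ℂ G →+* Module.End ℂ (Fin n → ℂ)).comp
      (MonoidAlgebra.mapRingHom G (Int.castRingHom ℂ))
  have h2 : IsIntegral ℤ (φ a) := by
    have := h1.map φ.toIntAlgHom
    exact this
  have hc : MonoidAlgebra.mapRingHom G (Int.castRingHom ℂ) a ∈
      Subalgebra.center ℂ (MonoidAlgebra ℂ G) := by
    rw [mem_center_iff] at ha ⊢
    intro g h
    have := ha g h
    simp [this]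
  have h3 : φ a = algebraMap ℂ (Module.End ℂ (Fin n → ℂ))
      (omegaL ρ.character (MonoidAlgebra.mapRingHom G (Int.castRingHom ℂ) a)) := by
    rw [Algebra.algebraMap_eq_smul_one]
    exact asAlgebraHom_center ρ hc
  rw [h3] at h2
  exact (isIntegral_algebraMap_iff (FaithfulSMul.algebraMap_injective ℂ _)).1 h2

/-- The central character at a class sum is an algebraic integer. -/
theorem isIntegral_centralChar {χ : G → ℂ} (hχ : IsIrrCharacter G χ) (g : G) :
    IsIntegral ℤ (centralChar χ g) := by
  have h := isIntegral_omegaL_map hχ (classSum_mem_center (k := ℤ) g)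
  have h2 : MonoidAlgebra.mapRingHom G (Int.castRingHom ℂ) (classSum ℤ g) = classSum ℂ g := by
    classical
    apply ext_coeff
    intro x
    rw [MonoidAlgebra.coeff_mapRingHom]
    simp only [coeff_classSum]
    split_ifs <;> simp
  rwa [h2, omegaL_classSum (isClassFunction_of_irr hχ)] at h

end integral

end Cfsg.Agent.Blocks.Central
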