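import Mathlib
import Cfsg.Prelude.Def_Blocks
set_option linter.all false

/-!
# The localization of the algebraic integers at a maximal ideal `M`, as a subring of `ℂ`

Closure properties of `Cfsg.MemLocalRing` and `Cfsg.MemLocalIdeal`.
-/

set_option autoImplicit false

namespace Cfsg.Agent.Blocks.LocalRing

open Cfsg

variable {p : ℕ} {M : Ideal AlgInt} {z w : ℂ}

theorem memLocalRing_def : MemLocalRing M z ↔ ∃ a b : AlgInt, b ∉ M ∧ (a : ℂ) / (b : ℂ) = z :=
  Iff.rfl

theorem memLocalIdeal_def :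
    MemLocalIdeal M z ↔ ∃ a b : AlgInt, a ∈ M ∧ b ∉ M ∧ (a : ℂ) / (b : ℂ) = z :=
  Iff.rfl

theorem isMaximal (hM : IsPModular p M) : M.IsMaximal := hM.2.1

theorem isPrime (hM : IsPModular p M) : M.IsPrime := hM.2.1.isPrime

theorem prime_mem (hM : IsPModular p M) : (p : AlgInt) ∈ M := hM.2.2

theorem prime (hM : IsPModular p M) : p.Prime := hM.1

theorem one_notMem (hM : IsPModular p M) : (1 : AlgInt) ∉ M :=
  fun h => (isMaximal hM).ne_top ((Ideal.eq_top_iff_one _).2 h)

theorem mul_notMem (hM : IsPModular p M) {a b : AlgInt} (ha : a ∉ M) (hb : b ∉ M) :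
    a * b ∉ M := fun h => ((isPrime hM).mem_or_mem h).elim ha hb

theorem ne_zero_of_notMem {a : AlgInt} (ha : a ∉ M) : (a : ℂ) ≠ 0 := by
  intro h
  apply ha
  have : a = 0 := by exact_mod_cast h
  rw [this]; exact M.zero_mem

theorem intCast_mem_iff (hM : IsPModular p M) (n : ℤ) : (n : AlgInt) ∈ M ↔ (p : ℤ) ∣ n := by
  constructor
  · intro h
    by_contra hn
    have hcop : IsCoprime (p : ℤ) n := by
      have hp : Prime (p : ℤ) := Nat.prime_iff_prime_int.1 (prime hM)
      exact (Prime.coprime_iff_not_dvd hp).2 hn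
    obtain ⟨u, v, huv⟩ := hcop
    apply one_notMem hM
    have : (1 : AlgInt) = (u : AlgInt) * (p : AlgInt) + (v : AlgInt) * (n : AlgInt) := by
      have := congrArg (Int.cast : ℤ → AlgInt) huv
      push_cast at this
      exact this.symm
    rw [this]
    exact M.add_mem (M.mul_mem_left _ (prime_mem hM)) (M.mul_mem_left _ h)
  · rintro ⟨k, rfl⟩
    push_cast
    exact M.mul_mem_right _ (prime_mem hM)

theorem natCast_mem_iff (hM : IsPModular p M) (n : ℕ) : (n : AlgInt) ∈ M ↔ p ∣ n := by
  have := intCast_mem_iff hM (n : ℤ)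
  rw [Int.natCast_dvd_natCast] at this
  simpa using this

/-! ### The local ring -/

theorem memLocalRing_coe (hM : IsPModular p M) (a : AlgInt) : MemLocalRing M (a : ℂ) :=
  ⟨a, 1, one_notMem hM, by simp⟩

theorem memLocalRing_of_isIntegral (hM : IsPModular p M) (hz : IsIntegral ℤ z) :
    MemLocalRing M z :=
  memLocalRing_coe hM ⟨z, hz⟩

theorem memLocalRing_zero (hM : IsPModular p M) : MemLocalRing M 0 :=
  memLocalRing_of_isIntegral hM isIntegral_zero

theorem memLocalRing_one (hM : IsPModular p M) : MemLocalRing M 1 :=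
  memLocalRing_of_isIntegral hM isIntegral_one

theorem memLocalRing_intCast (hM : IsPModular p M) (n : ℤ) : MemLocalRing M (n : ℂ) :=
  memLocalRing_of_isIntegral hM (isIntegral_algebraMap (R := ℤ) (A := ℂ) (x := n))

theorem memLocalRing_natCast (hM : IsPModular p M) (n : ℕ) : MemLocalRing M (n : ℂ) := by
  simpa using memLocalRing_intCast hM (n : ℤ)

theorem memLocalRing_add (hM : IsPModular p M) (hz : MemLocalRing M z) (hw : MemLocalRing M w) :
    MemLocalRing M (z + w) := by
  obtain ⟨a, b, hb, rfl⟩ := hz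
  obtain ⟨c, d, hd, rfl⟩ := hw
  refine ⟨a * d + b * c, b * d, mul_notMem hM hb hd, ?_⟩
  push_cast
  rw [div_add_div _ _ (ne_zero_of_notMem hb) (ne_zero_of_notMem hd)]

theorem memLocalRing_mul (hM : IsPModular p M) (hz : MemLocalRing M z) (hw : MemLocalRing M w) :
    MemLocalRing M (z * w) := by
  obtain ⟨a, b, hb, rfl⟩ := hz
  obtain ⟨c, d, hd, rfl⟩ := hw
  refine ⟨a * c, b * d, mul_notMem hM hb hd, ?_⟩
  push_cast
  rw [div_mul_div_comm]

theorem memLocalRing_neg (hz : MemLocalRing M z) : MemLocalRing M (-z) := by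
  obtain ⟨a, b, hb, rfl⟩ := hz
  exact ⟨-a, b, hb, by push_cast; rw [neg_div]⟩

theorem memLocalRing_sub (hM : IsPModular p M) (hz : MemLocalRing M z) (hw : MemLocalRing M w) :
    MemLocalRing M (z - w) := by
  rw [sub_eq_add_neg]; exact memLocalRing_add hM hz (memLocalRing_neg hw)

/-- The localization of the ring of algebraic integers at `M`, as a subring of `ℂ`. -/
def locRing (hM : IsPModular p M) : Subring ℂ where
  carrier := {z | MemLocalRing M z}
  mul_mem' := memLocalRing_mul hM
  one_mem' := memLocalRing_one hM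
  add_mem' := memLocalRing_add hM
  zero_mem' := memLocalRing_zero hM
  neg_mem' := memLocalRing_neg

theorem mem_locRing (hM : IsPModular p M) : z ∈ locRing hM ↔ MemLocalRing M z := Iff.rfl

theorem memLocalRing_sum (hM : IsPModular p M) {ι : Type*} (s : Finset ι) (f : ι → ℂ)
    (h : ∀ i ∈ s, MemLocalRing M (f i)) : MemLocalRing M (∑ i ∈ s, f i) :=
  (locRing hM).sum_mem h

theorem memLocalRing_prod (hM : IsPModular p M) {ι : Type*} (s : Finset ι) (f : ι → ℂ)
    (h : ∀ i ∈ s, MemLocalRing M (f i)) : MemLocalRing M (∏ i ∈ s, f i) :=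
  (locRing hM).prod_mem h

theorem memLocalRing_pow (hM : IsPModular p M) (hz : MemLocalRing M z) (n : ℕ) :
    MemLocalRing M (z ^ n) :=
  (locRing hM).pow_mem hz n

theorem memLocalRing_finsum (hM : IsPModular p M) {ι : Type*} (f : ι → ℂ)
    (h : ∀ i, MemLocalRing M (f i)) : MemLocalRing M (∑ᶠ i, f i) :=
  finsum_induction (MemLocalRing M) (memLocalRing_zero hM)
    (fun _ _ => memLocalRing_add hM) h

/-! ### The local ideal -/

theorem memLocalIdeal_memLocalRing (h : MemLocalIdeal M z) : MemLocalRing M z := by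
  obtain ⟨a, b, -, hb, rfl⟩ := h
  exact ⟨a, b, hb, rfl⟩

theorem memLocalIdeal_zero (hM : IsPModular p M) : MemLocalIdeal M 0 :=
  ⟨0, 1, M.zero_mem, one_notMem hM, by simp⟩

theorem memLocalIdeal_add (hM : IsPModular p M) (hz : MemLocalIdeal M z)
    (hw : MemLocalIdeal M w) : MemLocalIdeal M (z + w) := by
  obtain ⟨a, b, ha, hb, rfl⟩ := hz
  obtain ⟨c, d, hc, hd, rfl⟩ := hw
  refine ⟨a * d + b * c, b * d, M.add_mem (M.mul_mem_right _ ha) (M.mul_mem_left _ hc),
    mul_notMem hM hb hd, ?_⟩
  push_cast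
  rw [div_add_div _ _ (ne_zero_of_notMem hb) (ne_zero_of_notMem hd)]

theorem memLocalIdeal_neg (hz : MemLocalIdeal M z) : MemLocalIdeal M (-z) := by
  obtain ⟨a, b, ha, hb, rfl⟩ := hz
  exact ⟨-a, b, M.neg_mem ha, hb, by push_cast; rw [neg_div]⟩

theorem memLocalIdeal_neg_iff : MemLocalIdeal M (-z) ↔ MemLocalIdeal M z :=
  ⟨fun h => by simpa using memLocalIdeal_neg h, memLocalIdeal_neg⟩

theorem memLocalIdeal_sub (hM : IsPModular p M) (hz : MemLocalIdeal M z)
    (hw : MemLocalIdeal M w) : MemLocalIdeal M (z - w) := by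
  rw [sub_eq_add_neg]; exact memLocalIdeal_add hM hz (memLocalIdeal_neg hw)

theorem memLocalIdeal_sub_comm : MemLocalIdeal M (z - w) ↔ MemLocalIdeal M (w - z) := by
  rw [← memLocalIdeal_neg_iff, neg_sub]

theorem memLocalIdeal_mul_left (hM : IsPModular p M) (hz : MemLocalRing M z)
    (hw : MemLocalIdeal M w) : MemLocalIdeal M (z * w) := by
  obtain ⟨a, b, hb, rfl⟩ := hz
  obtain ⟨c, d, hc, hd, rfl⟩ := hw
  refine ⟨a * c, b * d, M.mul_mem_left _ hc, mul_notMem hM hb hd, ?_⟩
  push_cast
  rw [div_mul_div_comm]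

theorem memLocalIdeal_mul_right (hM : IsPModular p M) (hz : MemLocalIdeal M z)
    (hw : MemLocalRing M w) : MemLocalIdeal M (z * w) := by
  rw [mul_comm]; exact memLocalIdeal_mul_left hM hw hz

theorem memLocalIdeal_coe_iff (hM : IsPModular p M) (a : AlgInt) :
    MemLocalIdeal M (a : ℂ) ↔ a ∈ M := by
  constructor
  · rintro ⟨c, d, hc, hd, h⟩
    have hd0 := ne_zero_of_notMem hd
    rw [div_eq_iff hd0] at h
    have h' : c = a * d := by exact_mod_cast h
    rw [h'] at hc
    exact ((isPrime hM).mem_or_mem hc).resolve_right hd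
  · intro ha
    exact ⟨a, 1, ha, one_notMem hM, by simp⟩

theorem memLocalIdeal_intCast_iff (hM : IsPModular p M) (n : ℤ) :
    MemLocalIdeal M (n : ℂ) ↔ (p : ℤ) ∣ n := by
  rw [← intCast_mem_iff hM, ← memLocalIdeal_coe_iff hM]
  simp

theorem memLocalIdeal_natCast_iff (hM : IsPModular p M) (n : ℕ) :
    MemLocalIdeal M (n : ℂ) ↔ p ∣ n := by
  rw [← natCast_mem_iff hM, ← memLocalIdeal_coe_iff hM]
  simp

theorem not_memLocalIdeal_one (hM : IsPModular p M) : ¬ MemLocalIdeal M 1 := by
  have := memLocalIdeal_natCast_iff hM 1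
  rw [Nat.cast_one] at this
  rw [this]
  exact (prime hM).one_lt.ne' ∘ Nat.dvd_one.1

theorem memLocalIdeal_prime (hM : IsPModular p M) : MemLocalIdeal M (p : ℂ) :=
  (memLocalIdeal_natCast_iff hM p).2 dvd_rfl

theorem memLocalIdeal_mul_iff (hM : IsPModular p M) (hz : MemLocalRing M z)
    (hw : MemLocalRing M w) :
    MemLocalIdeal M (z * w) ↔ MemLocalIdeal M z ∨ MemLocalIdeal M w := by
  constructor
  · obtain ⟨a, b, hb, rfl⟩ := hz
    obtain ⟨c, d, hd, rfl⟩ := hw
    rintro ⟨e, f, he, hf, h⟩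
    have hb0 := ne_zero_of_notMem hb
    have hd0 := ne_zero_of_notMem hd
    have hf0 := ne_zero_of_notMem hf
    have h2 : (e : ℂ) * (b * d) = a * c * f := by
      field_simp at h
      linear_combination h
    have h3 : e * (b * d) = a * c * f := by exact_mod_cast h2
    have h4 : a * c * f ∈ M := by rw [← h3]; exact M.mul_mem_right _ he
    rcases (isPrime hM).mem_or_mem h4 with h5 | h5
    · rcases (isPrime hM).mem_or_mem h5 with h6 | h6
      · exact Or.inl ⟨a, b, h6, hb, rfl⟩
      · exact Or.inr ⟨c, d, h6, hd, rfl⟩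
    · exact absurd h5 hf
  · rintro (h | h)
    · exact memLocalIdeal_mul_right hM h hw
    · exact memLocalIdeal_mul_left hM hz h

theorem memLocalIdeal_pow_iff (hM : IsPModular p M) (hz : MemLocalRing M z) {n : ℕ}
    (hn : n ≠ 0) : MemLocalIdeal M (z ^ n) ↔ MemLocalIdeal M z := by
  induction n with
  | zero => exact absurd rfl hn
  | succ n ih =>
    rw [pow_succ, memLocalIdeal_mul_iff hM (memLocalRing_pow hM hz n) hz]
    constructor
    · rintro (h | h)
      · by_cases hn0 : n = 0
        · subst hn0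
          rw [pow_zero] at h
          exact absurd h (not_memLocalIdeal_one hM)
        · exact (ih hn0).1 h
      · exact h
    · exact Or.inr

/-- The maximal ideal of `locRing`. -/
def locIdeal (hM : IsPModular p M) : Ideal (locRing hM) where
  carrier := {z | MemLocalIdeal M (z : ℂ)}
  add_mem' := fun ha hb => memLocalIdeal_add hM ha hb
  zero_mem' := memLocalIdeal_zero hM
  smul_mem' := fun c _ hx => memLocalIdeal_mul_left hM c.2 hx

theorem mem_locIdeal (hM : IsPModular p M) {x : locRing hM} :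
    x ∈ locIdeal hM ↔ MemLocalIdeal M (x : ℂ) := Iff.rfl

theorem memLocalIdeal_sum (hM : IsPModular p M) {ι : Type*} (s : Finset ι) (f : ι → ℂ)
    (h : ∀ i ∈ s, MemLocalIdeal M (f i)) : MemLocalIdeal M (∑ i ∈ s, f i) := by
  classical
  induction s using Finset.induction_on with
  | empty => simpa using memLocalIdeal_zero hM
  | insert a s ha ih =>
    rw [Finset.sum_insert ha]
    exact memLocalIdeal_add hM (h a (Finset.mem_insert_self _ _))
      (ih fun i hi => h i (Finset.mem_insert_of_mem hi))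

theorem memLocalIdeal_finsum (hM : IsPModular p M) {ι : Type*} (f : ι → ℂ)
    (h : ∀ i, MemLocalIdeal M (f i)) : MemLocalIdeal M (∑ᶠ i, f i) :=
  finsum_induction (MemLocalIdeal M) (memLocalIdeal_zero hM)
    (fun _ _ => memLocalIdeal_add hM) h

/-- If a product is nonzero modulo the local ideal then so are the factors. -/
theorem memLocalIdeal_prod_iff (hM : IsPModular p M) {ι : Type*} (s : Finset ι) (f : ι → ℂ)
    (h : ∀ i ∈ s, MemLocalRing M (f i)) :
    MemLocalIdeal M (∏ i ∈ s, f i) ↔ ∃ i ∈ s, MemLocalIdeal M (f i) := by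
  classical
  induction s using Finset.induction_on with
  | empty => simpa using not_memLocalIdeal_one hM
  | insert a s ha ih =>
    rw [Finset.prod_insert ha, memLocalIdeal_mul_iff hM (h a (Finset.mem_insert_self _ _))
      (memLocalRing_prod hM _ _ fun i hi => h i (Finset.mem_insert_of_mem hi)),
      ih fun i hi => h i (Finset.mem_insert_of_mem hi)]
    simp

/-- An element of the local ring outside the local ideal is a unit of the local ring. -/
theorem memLocalRing_inv (hz : MemLocalRing M z) (hz' : ¬ MemLocalIdeal M z) :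
    MemLocalRing M z⁻¹ := by
  obtain ⟨a, b, hb, rfl⟩ := hz
  have ha : a ∉ M := fun ha => hz' ⟨a, b, ha, hb, rfl⟩
  exact ⟨b, a, ha, by rw [inv_div]⟩

theorem ne_zero_of_not_memLocalIdeal (hM : IsPModular p M) (hz' : ¬ MemLocalIdeal M z) :
    z ≠ 0 := by
  rintro rfl; exact hz' (memLocalIdeal_zero hM)

theorem not_memLocalIdeal_inv (hM : IsPModular p M) (hz : MemLocalRing M z)
    (hz' : ¬ MemLocalIdeal M z) : ¬ MemLocalIdeal M z⁻¹ := by
  intro h
  apply not_memLocalIdeal_one hM
  have := memLocalIdeal_mul_left hM hz h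
  rwa [mul_inv_cancel₀ (ne_zero_of_not_memLocalIdeal hM hz')] at this

theorem memLocalRing_div (hM : IsPModular p M) (hz : MemLocalRing M z) (hw : MemLocalRing M w)
    (hw' : ¬ MemLocalIdeal M w) : MemLocalRing M (z / w) := by
  rw [div_eq_mul_inv]; exact memLocalRing_mul hM hz (memLocalRing_inv hw hw')

/-- `locRing` is a local ring whose maximal ideal is `locIdeal`. -/
theorem isUnit_locRing_iff (hM : IsPModular p M) {x : locRing hM} :
    IsUnit x ↔ x ∉ locIdeal hM := by
  constructor
  · rintro ⟨u, rfl⟩ h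
    apply not_memLocalIdeal_one hM
    have h2 : MemLocalIdeal M (((u⁻¹ : (locRing hM)ˣ) : locRing hM) * (u : locRing hM) : ℂ) :=
      memLocalIdeal_mul_left hM (((u⁻¹ : (locRing hM)ˣ) : locRing hM)).2 h
    have h3 : (((u⁻¹ : (locRing hM)ˣ) : locRing hM) * (u : locRing hM) : ℂ) = 1 :=
      congrArg (Subtype.val) (u.inv_mul)
    rwa [h3] at h2
  · intro h
    have hx := memLocalRing_inv x.2 h
    refine ⟨⟨x, ⟨(x : ℂ)⁻¹, hx⟩, ?_, ?_⟩, rfl⟩
    · ext; simp [mul_inv_cancel₀ (ne_zero_of_not_memLocalIdeal hM h)]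
    · ext; simp [inv_mul_cancel₀ (ne_zero_of_not_memLocalIdeal hM h)]

theorem isLocalRing (hM : IsPModular p M) : IsLocalRing (locRing hM) := by
  have : Nontrivial (locRing hM) := by infer_instance
  refine IsLocalRing.of_nonunits_add ?_
  intro a b ha hb
  rw [mem_nonunits_iff, isUnit_locRing_iff, not_not] at *
  exact (locIdeal hM).add_mem ha hb

/-- If `z` and `z'` are congruent modulo the local ideal, one is in it iff the other is. -/
theorem memLocalIdeal_congr (hM : IsPModular p M) (h : MemLocalIdeal M (z - w)) :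
    MemLocalIdeal M z ↔ MemLocalIdeal M w := by
  constructor
  · intro hz
    have := memLocalIdeal_sub hM hz h
    simpa using this
  · intro hw
    have := memLocalIdeal_add hM h hw
    simpa using this

theorem memLocalIdeal_mul_sub_mul (hM : IsPModular p M) {z z' w w' : ℂ} (hz : MemLocalRing M z)
    (hw' : MemLocalRing M w') (h1 : MemLocalIdeal M (z - z')) (h2 : MemLocalIdeal M (w - w')) :
    MemLocalIdeal M (z * w - z' * w') := by
  have : z * w - z' * w' = z * (w - w') + (z - z') * w' := by ring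
  rw [this]
  exact memLocalIdeal_add hM (memLocalIdeal_mul_left hM hz h2) (memLocalIdeal_mul_right hM h1 hw')

end Cfsg.Agent.Blocks.LocalRing
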