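import Mathlib
set_option linter.all false

/-!
# The number of `p`-regular elements of a finite group is prime to `p`
-/

set_option autoImplicit false

namespace Cfsg.Agent.Blocks.RegularCount

variable {G : Type*} [Group G] [Finite G] {p : ℕ} [hp : Fact p.Prime]

/-- The decomposition of an element in its `p`-part and its `p'`-part, as powers. -/
theorem exists_pPart (h : G) : ∃ x y : G, x * y = h ∧ Commute x y ∧ x ∈ Subgroup.zpowers h ∧
    y ∈ Subgroup.zpowers h ∧ (∃ k : ℕ, orderOf x = p ^ k) ∧ ¬ p ∣ orderOf y := by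
  have hpos : 0 < orderOf h := orderOf_pos h
  obtain ⟨a, m, hm, ham⟩ := Nat.exists_eq_pow_mul_and_not_dvd hpos.ne' p hp.out.ne_one
  have hcop : IsCoprime ((p : ℤ) ^ a) (m : ℤ) := by
    rw [← Nat.cast_pow, Nat.isCoprime_iff_coprime]
    exact (Nat.Coprime.pow_left a ((Nat.Prime.coprime_iff_not_dvd hp.out).2 hm))
  obtain ⟨s, t, hst⟩ := hcop
  have hord : h ^ ((p : ℤ) ^ a * m) = 1 := by
    rw [← Nat.cast_pow, ← Nat.cast_mul, zpow_natCast, ← ham, pow_orderOf_eq_one]
  refine ⟨h ^ (t * m), h ^ (s * (p : ℤ) ^ a), ?_, ?_, ⟨_, rfl⟩, ⟨_, rfl⟩, ?_, ?_⟩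
  · rw [← zpow_add, add_comm, hst, zpow_one]
  · exact (Commute.refl h).zpow_zpow _ _
  · have : (h ^ (t * m)) ^ (p ^ a) = 1 := by
      rw [← zpow_natCast, ← zpow_mul]
      have : t * (m : ℤ) * ((p ^ a : ℕ) : ℤ) = ((p : ℤ) ^ a * m) * t := by push_cast; ring
      rw [this, zpow_mul, hord, one_zpow]
    obtain ⟨k, _, hk⟩ := (Nat.dvd_prime_pow hp.out).1 (orderOf_dvd_of_pow_eq_one this)
    exact ⟨k, hk⟩
  · have : (h ^ (s * (p : ℤ) ^ a)) ^ m = 1 := by
      rw [← zpow_natCast, ← zpow_mul]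
      have : s * (p : ℤ) ^ a * ((m : ℕ) : ℤ) = ((p : ℤ) ^ a * m) * s := by ring
      rw [this, zpow_mul, hord, one_zpow]
    intro hdvd
    exact hm (hdvd.trans (orderOf_dvd_of_pow_eq_one this))

omit [Finite G] hp in
/-- A `p`-element centralizing a Sylow `p`-subgroup lies in it. -/
theorem mem_sylow_of_mem_centralizer (P : Sylow p G) {x : G}
    (hx : x ∈ Subgroup.centralizer (P : Set G)) (hxp : ∃ k : ℕ, orderOf x = p ^ k) :
    x ∈ (P : Subgroup G) := by
  have h1 : IsPGroup p (Subgroup.zpowers x) := by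
    obtain ⟨k, hk⟩ := hxp
    exact IsPGroup.of_card (n := k) (by rw [Nat.card_zpowers, hk])
  have h2 : Subgroup.zpowers x ≤ Subgroup.normalizer (P : Set G) := by
    rw [Subgroup.zpowers_le]
    exact Subgroup.centralizer_le_normalizer _ hx
  have h3 := P.is_maximal' (P.isPGroup'.to_sup_of_normal_left' h1 h2) le_sup_left
  have h4 : x ∈ (P : Subgroup G) ⊔ Subgroup.zpowers x :=
    (le_sup_right : Subgroup.zpowers x ≤ _) (Subgroup.mem_zpowers x)
  rwa [h3] at h4

theorem card_regular_centralizer (P : Sylow p G) :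
    ¬ p ∣ Nat.card {x : Subgroup.centralizer (P : Set G) // ¬ p ∣ orderOf x} := by
  set H := Subgroup.centralizer (P : Set G) with hH
  set Z : Subgroup H := (P : Subgroup G).subgroupOf H with hZ
  have hcent : ∀ z ∈ Z, ∀ h : H, z * h = h * z := by
    intro z hz h
    ext
    exact (Subgroup.mem_centralizer_iff.1 h.2 _ (Subgroup.mem_subgroupOf.1 hz))
  have hZp : ∀ z ∈ Z, ∃ k : ℕ, orderOf z = p ^ k := fun z hz => by
    have h1 : IsPGroup p Z := P.isPGroup'.comap_subtype
    obtain ⟨k, hk⟩ := (IsPGroup.iff_orderOf.1 h1) ⟨z, hz⟩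
    exact ⟨k, by rw [← hk]; exact (Subgroup.orderOf_mk (H := Z) z hz).symm⟩
  have hpZ : ∀ h : H, (∃ k : ℕ, orderOf h = p ^ k) → h ∈ Z := by
    intro h hh
    rw [Subgroup.mem_subgroupOf]
    exact mem_sylow_of_mem_centralizer P h.2 (by simpa using hh)
  -- the bijection
  let φ : Z × {y : H // ¬ p ∣ orderOf y} → H := fun q => (q.1 : H) * q.2.1
  have hφ : Function.Bijective φ := by
    constructor
    · rintro ⟨⟨z, hz⟩, ⟨y, hy⟩⟩ ⟨⟨z', hz'⟩, ⟨y', hy'⟩⟩ h
      change z * y = z' * y' at h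
      have ht : z'⁻¹ * z ∈ Z := Z.mul_mem (Z.inv_mem hz') hz
      have h1 : y' = z'⁻¹ * z * y := by rw [mul_assoc, h, inv_mul_cancel_left]
      have h2 : Commute (z'⁻¹ * z) y := hcent _ ht y
      have h4 : z'⁻¹ * z = y' * y⁻¹ := by rw [h1]; group
      have h5 : Commute y' y := by
        rw [h1]
        exact h2.mul_left (Commute.refl y)
      have h6 : (z'⁻¹ * z) ^ (orderOf y' * orderOf y) = 1 := by
        rw [h4, (h5.inv_right).mul_pow, pow_mul, pow_orderOf_eq_one, one_pow, inv_pow, mul_comm,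
          pow_mul, pow_orderOf_eq_one]
        simp
      obtain ⟨k, hk⟩ := hZp _ ht
      have h7 := orderOf_dvd_of_pow_eq_one h6
      rw [hk] at h7
      have h8 : k = 0 := by
        by_contra hk0
        have := (dvd_pow_self p hk0).trans h7
        rcases (Nat.Prime.dvd_mul hp.out).1 this with h | h
        · exact hy' h
        · exact hy h
      rw [h8, pow_zero, orderOf_eq_one_iff] at hk
      have hzz : z = z' := by
        rw [← mul_one z', ← hk]; group
      have hyy : y = y' := by rw [h1, hk, one_mul]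
      subst hzz hyy
      rfl
    · intro h
      obtain ⟨x, y, hxy, _, _, _, hx, hy⟩ := exists_pPart (p := p) h
      exact ⟨(⟨x, hpZ x hx⟩, ⟨y, hy⟩), hxy⟩
  have hcard : Nat.card Z * Nat.card {y : H // ¬ p ∣ orderOf y} = Nat.card H := by
    rw [← Nat.card_prod]
    exact Nat.card_congr (Equiv.ofBijective φ hφ)
  have hcard2 : Nat.card {y : H // ¬ p ∣ orderOf y} = Z.index := by
    have h1 := Z.card_mul_index
    have h2 : 0 < Nat.card Z := Nat.card_pos
    exact Nat.eq_of_mul_eq_mul_left h2 (hcard.trans h1.symm)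
  rw [hcard2]
  have hnorm : Z.Normal := ⟨fun z hz g => by
    rw [← hcent z hz g, mul_assoc, mul_inv_cancel, mul_one]; exact hz⟩
  intro hdvd
  rw [Subgroup.index_eq_card] at hdvd
  obtain ⟨q, hq⟩ := exists_prime_orderOf_dvd_card' p hdvd
  obtain ⟨h, rfl⟩ := QuotientGroup.mk_surjective q
  have h1 : h ^ p ∈ Z := by
    rw [← QuotientGroup.eq_one_iff, QuotientGroup.mk_pow, ← hq, pow_orderOf_eq_one]
  obtain ⟨k, hk⟩ := hZp _ h1
  have h2 : h ^ (p ^ (k + 1)) = 1 := by
    rw [pow_succ', pow_mul, ← hk, pow_orderOf_eq_one]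
  obtain ⟨j, _, hj⟩ := (Nat.dvd_prime_pow hp.out).1 (orderOf_dvd_of_pow_eq_one h2)
  have h3 : h ∈ Z := hpZ h ⟨j, hj⟩
  rw [(QuotientGroup.eq_one_iff h).2 h3, orderOf_one] at hq
  exact hp.out.one_lt.ne hq

/-- The number of `p`-regular elements of a finite group is prime to `p`. -/
theorem not_dvd_card_regular : ¬ p ∣ Nat.card {x : G // ¬ p ∣ orderOf x} := by
  let P : Sylow p G := default
  let X := {x : G // ¬ p ∣ orderOf x}
  let act : MulAction P X :=
    { smul := fun g x => ⟨(g : G) * x.1 * (g : G)⁻¹, by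
        have : orderOf ((g : G) * x.1 * (g : G)⁻¹) = orderOf x.1 :=
          (MulAut.conj (g : G)).orderOf_eq x.1
        rw [this]
        exact x.2⟩
      one_smul := fun x => by
        apply Subtype.ext
        change ((1 : P) : G) * x.1 * ((1 : P) : G)⁻¹ = x.1
        simp
      mul_smul := fun g h x => by
        apply Subtype.ext
        change ((g * h : P) : G) * x.1 * ((g * h : P) : G)⁻¹ =
          (g : G) * ((h : G) * x.1 * (h : G)⁻¹) * (g : G)⁻¹
        rw [Subgroup.coe_mul]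
        group }
  have hsmul : ∀ (g : P) (x : X), ((g • x : X) : G) = (g : G) * x.1 * (g : G)⁻¹ := fun _ _ => rfl
  have h1 : Nat.card X ≡ Nat.card (MulAction.fixedPoints P X) [MOD p] :=
    P.isPGroup'.card_modEq_card_fixedPoints X
  have hmem : ∀ x : X, x ∈ MulAction.fixedPoints P X ↔
      (x : G) ∈ Subgroup.centralizer (P : Set G) := by
    intro x
    rw [MulAction.mem_fixedPoints, Subgroup.mem_centralizer_iff]
    constructor
    · intro h g hg
      have := congrArg (Subtype.val) (h ⟨g, hg⟩)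
      rw [hsmul] at this
      exact mul_inv_eq_iff_eq_mul.1 this
    · intro h g
      apply Subtype.ext
      rw [hsmul]
      exact mul_inv_eq_iff_eq_mul.2 (h _ g.2)
  have e : MulAction.fixedPoints P X ≃
      {x : Subgroup.centralizer (P : Set G) // ¬ p ∣ orderOf x} :=
    { toFun := fun x => ⟨⟨x.1.1, (hmem x.1).1 x.2⟩, by rw [Subgroup.orderOf_mk]; exact x.1.2⟩
      invFun := fun x => ⟨⟨x.1.1, by rw [Subgroup.orderOf_coe]; exact x.2⟩, (hmem _).2 x.1.2⟩
      left_inv := fun x => rfl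
      right_inv := fun x => rfl }
  have h2 := card_regular_centralizer P
  rw [← Nat.card_congr e] at h2
  intro h3
  exact h2 ((Nat.ModEq.dvd_iff h1 dvd_rfl).1 h3)

end Cfsg.Agent.Blocks.RegularCount
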