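import Mathlib
import Cfsg.Prelude.Def_Blocks
import Cfsg.Agent.Blocks.Induced
set_option linter.all false

/-!
# Convolution of class functions and central characters
-/

set_option autoImplicit false

namespace Cfsg.Agent.Blocks.ConvCentral

open Cfsg
open scoped ComplexConjugate
open Cfsg.Agent.Blocks.Induced

section Schur

variable {G V : Type*} [Group G] [AddCommGroup V] [Module ℂ V]

/-- The operator of a function on the group. -/
noncomputable def opOf [Fintype G] (ρ : Representation ℂ G V) (f : G → ℂ) : V →ₗ[ℂ] V :=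
  ∑ g : G, f g • ρ g

theorem opOf_def [Fintype G] (ρ : Representation ℂ G V) (f : G → ℂ) :
    opOf ρ f = ∑ g : G, f g • ρ g := rfl

theorem opOf_comm [Fintype G] (ρ : Representation ℂ G V) {f : G → ℂ}
    (hf : IsClassFunction G f) (h : G) : opOf ρ f * ρ h = ρ h * opOf ρ f := by
  rw [opOf_def, Finset.sum_mul, Finset.mul_sum]
  rw [← (MulAut.conj h).toEquiv.sum_comp]
  refine Finset.sum_congr rfl fun g _ => ?_
  simp only [MulEquiv.toEquiv_eq_coe, EquivLike.coe_coe, MulAut.conj_apply]
  rw [hf g h, smul_mul_assoc, mul_smul_comm, ← map_mul, ← map_mul]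
  congr 2
  group

theorem exists_scalar [Fintype G] [FiniteDimensional ℂ V] (ρ : Representation ℂ G V)
    (hρ : ρ.IsIrreducible) {f : G → ℂ} (hf : IsClassFunction G f) :
    ∃ c : ℂ, opOf ρ f = c • (1 : Module.End ℂ V) := by
  have key : ∀ (g : G) (v : V), (opOf ρ f) (ρ g v) = ρ g ((opOf ρ f) v) := by
    intro g v
    have := LinearMap.congr_fun (opOf_comm ρ hf g) v
    simpa using this
  let F : Representation.IntertwiningMap ρ ρ :=
    (opOf ρ f).intertwiningMap_of_isIntertwiningMap ρ ρ key
  obtain ⟨c, hc⟩ :=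
    (Representation.IsIrreducible.algebraMap_intertwiningMap_bijective_of_isAlgClosed
      (ρ := ρ)).2 F
  refine ⟨c, ?_⟩
  ext v
  have h1 : F v = (algebraMap ℂ (Representation.IntertwiningMap ρ ρ) c) v := by rw [hc]
  have h2 : F v = opOf ρ f v := rfl
  rw [← h2, h1]
  rfl

theorem trace_opOf [Fintype G] [FiniteDimensional ℂ V] (ρ : Representation ℂ G V) (f : G → ℂ) :
    LinearMap.trace ℂ V (opOf ρ f) = ∑ g : G, f g * ρ.character g := by
  rw [opOf_def, map_sum]
  refine Finset.sum_congr rfl fun g _ => ?_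
  rw [map_smul]
  rfl

end Schur

section Conv

variable {G : Type*} [Group G] [Fintype G]

/-- Convolution. -/
noncomputable def conv (f f' : G → ℂ) : G → ℂ := fun g => ∑ x : G, f x * f' (x⁻¹ * g)

theorem conv_apply (f f' : G → ℂ) (g : G) : conv f f' g = ∑ x : G, f x * f' (x⁻¹ * g) := rfl

theorem opOf_conv {V : Type*} [AddCommGroup V] [Module ℂ V] (ρ : Representation ℂ G V)
    (f f' : G → ℂ) : opOf ρ (conv f f') = opOf ρ f * opOf ρ f' := by
  rw [opOf_def, opOf_def, opOf_def, Finset.sum_mul]
  simp_rw [conv_apply, Finset.sum_smul, Finset.mul_sum]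
  rw [Finset.sum_comm]
  refine Finset.sum_congr rfl fun x _ => ?_
  rw [← Equiv.sum_comp (Equiv.mulLeft x)]
  refine Finset.sum_congr rfl fun y _ => ?_
  simp only [Equiv.coe_mulLeft, inv_mul_cancel_left]
  rw [smul_mul_smul_comm, ← map_mul]

theorem isClassFunction_conv {f f' : G → ℂ} (hf : IsClassFunction G f)
    (hf' : IsClassFunction G f') : IsClassFunction G (conv f f') := by
  intro g h
  rw [conv_apply, conv_apply, ← (MulAut.conj h).toEquiv.sum_comp]
  refine Finset.sum_congr rfl fun x _ => ?_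
  simp only [MulEquiv.toEquiv_eq_coe, EquivLike.coe_coe, MulAut.conj_apply]
  rw [hf x h]
  have : (h * x * h⁻¹)⁻¹ * (h * g * h⁻¹) = h * (x⁻¹ * g) * h⁻¹ := by group
  rw [this, hf']

/-- The linear functional attached to a function `χ`. -/
noncomputable def lin (χ f : G → ℂ) : ℂ := ∑ g : G, f g * χ g

omit [Group G] in
theorem lin_def (χ f : G → ℂ) : lin χ f = ∑ g : G, f g * χ g := rfl

omit [Fintype G] in
theorem irr_one_ne_zero {χ : G → ℂ} (hχ : IsIrrCharacter G χ) : χ 1 ≠ 0 := by
  obtain ⟨n, ρ, hρ, rfl⟩ := hχ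
  rw [Representation.char_one]
  intro h
  have h0 : Module.finrank ℂ (Fin n → ℂ) = 0 := by exact_mod_cast h
  have hs : Subsingleton (Fin n → ℂ) := Module.finrank_zero_iff.1 h0
  obtain ⟨a, b, hab⟩ := exists_pair_ne (Subrepresentation ρ)
  apply hab
  ext v
  have hv : v = 0 := Subsingleton.elim _ _
  subst hv
  exact ⟨fun _ => b.toSubmodule.zero_mem, fun _ => a.toSubmodule.zero_mem⟩

/-- Multiplicativity of central characters. -/
theorem lin_conv {χ : G → ℂ} (hχ : IsIrrCharacter G χ) {f f' : G → ℂ}
    (hf : IsClassFunction G f) : lin χ (conv f f') * χ 1 = lin χ f * lin χ f' := by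
  obtain ⟨n, ρ, hρ, rfl⟩ := hχ
  obtain ⟨c, hc⟩ := exists_scalar ρ hρ hf
  rw [lin_def, lin_def, lin_def, ← trace_opOf, ← trace_opOf, ← trace_opOf, opOf_conv, hc,
    Representation.char_one]
  simp only [smul_mul_assoc, one_mul, map_smul, LinearMap.trace_one, smul_eq_mul]
  ring

/-- Values of an irreducible character on integral class functions are integral. -/
theorem isIntegral_lin_div {χ : G → ℂ} (hχ : IsIrrCharacter G χ) {f : G → ℤ}
    (hf : IsClassFunction G (fun g => (f g : ℂ))) :
    IsIntegral ℤ (lin χ (fun g => (f g : ℂ)) / χ 1) := by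
  have hne := irr_one_ne_zero hχ
  obtain ⟨n, ρ, hρ, rfl⟩ := hχ
  obtain ⟨c, hc⟩ := exists_scalar ρ hρ hf
  have h1 : lin ρ.character (fun g => (f g : ℂ)) / ρ.character 1 = c := by
    rw [lin_def, ← trace_opOf, hc, Representation.char_one, map_smul, LinearMap.trace_one,
      smul_eq_mul]
    rw [Representation.char_one] at hne
    exact mul_div_cancel_right₀ _ hne
  rw [h1]
  let φ : MonoidAlgebra ℤ G →ₐ[ℤ] Module.End ℂ (Fin n → ℂ) :=
    MonoidAlgebra.lift ℤ (Module.End ℂ (Fin n → ℂ)) G ρ
  let a : MonoidAlgebra ℤ G := ∑ g : G, MonoidAlgebra.single g (f g)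
  have ha : IsIntegral ℤ a := Algebra.IsIntegral.isIntegral a
  have h2 : φ a = c • (1 : Module.End ℂ (Fin n → ℂ)) := by
    rw [← hc, opOf_def]
    simp only [φ, a, map_sum, MonoidAlgebra.lift_single]
    refine Finset.sum_congr rfl fun g _ => ?_
    exact (Int.cast_smul_eq_zsmul ℂ (f g) (ρ g)).symm
  have h3 : IsIntegral ℤ (c • (1 : Module.End ℂ (Fin n → ℂ))) := h2 ▸ ha.map φ
  have h4 : (algebraMap ℂ (Module.End ℂ (Fin n → ℂ))) c = c • (1 : Module.End ℂ (Fin n → ℂ)) :=
    Algebra.algebraMap_eq_smul_one c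
  rw [← h4] at h3
  have hinj : Function.Injective (algebraMap ℂ (Module.End ℂ (Fin n → ℂ))) := by
    have : Nontrivial (Module.End ℂ (Fin n → ℂ)) := by
      rw [Representation.char_one] at hne
      have hpos : 0 < Module.finrank ℂ (Fin n → ℂ) :=
        Nat.pos_of_ne_zero fun h => hne (by rw [h]; simp)
      have := Module.nontrivial_of_finrank_pos hpos
      infer_instance
    exact FaithfulSMul.algebraMap_injective _ _
  exact (isIntegral_algHom_iff ((Algebra.ofId ℂ (Module.End ℂ (Fin n → ℂ))).restrictScalars ℤ)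
    hinj).1 h3

/-- indicator of a class -/
noncomputable def classInd (g : G) : G → ℤ := by
  classical
  exact fun x => if IsConj g x then 1 else 0

theorem classInd_of_isConj {g x : G} (h : IsConj g x) : classInd g x = 1 := by
  classical
  unfold classInd
  exact if_pos h

theorem classInd_of_not {g x : G} (h : ¬ IsConj g x) : classInd g x = 0 := by
  classical
  unfold classInd
  exact if_neg h

omit [Fintype G] in
theorem isConj_conj_iff {g x h : G} : IsConj g (h * x * h⁻¹) ↔ IsConj g x := by
  have : IsConj x (h * x * h⁻¹) := isConj_iff.2 ⟨h, rfl⟩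
  exact ⟨fun k => k.trans this.symm, fun k => k.trans this⟩

theorem isClassFunction_classInd (g : G) : IsClassFunction G (fun x => (classInd g x : ℂ)) := by
  intro x h
  by_cases hx : IsConj g x
  · simp only [classInd_of_isConj hx, classInd_of_isConj (isConj_conj_iff.2 hx)]
  · simp only [classInd_of_not hx, classInd_of_not (fun k => hx (isConj_conj_iff.1 k))]

theorem lin_classInd {χ : G → ℂ} (hχ : IsClassFunction G χ) (g : G) :
    lin χ (fun x => (classInd g x : ℂ)) / χ 1 = centralChar χ g := by
  classical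
  have h1 : lin χ (fun x => (classInd g x : ℂ)) =
      ∑ x ∈ (Set.toFinite {y : G | IsConj g y}).toFinset, χ g := by
    rw [lin_def]
    symm
    rw [← Finset.sum_subset (Finset.subset_univ (Set.toFinite {y : G | IsConj g y}).toFinset)]
    · refine Finset.sum_congr rfl fun x hx => ?_
      have hx' : IsConj g x := by simpa using hx
      rw [classInd_of_isConj hx']
      obtain ⟨c, hc⟩ := isConj_iff.1 hx'
      rw [← hc, hχ]
      simp
    · intro x _ hx
      have hx' : ¬ IsConj g x := by simpa using hx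
      rw [classInd_of_not hx']
      simp
  rw [h1, Finset.sum_const, ← Set.ncard_eq_toFinset_card _ (Set.toFinite _),
    ncard_conj_eq_index, nsmul_eq_mul]
  rfl

theorem isIntegral_centralChar {χ : G → ℂ} (hχ : IsIrrCharacter G χ) (g : G) :
    IsIntegral ℤ (centralChar χ g) := by
  rw [← lin_classInd (isClassFunction_of_isIrrCharacter hχ)]
  exact isIntegral_lin_div hχ (isClassFunction_classInd g)

end Conv

end Cfsg.Agent.Blocks.ConvCentral
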