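import Mathlib
import Cfsg.Prelude.Def_Blocks
import Cfsg.Agent.Blocks.Induced
import Cfsg.Agent.Blocks.ConvCentral
set_option linter.all false

/-!
# Separating a block from finitely many characters outside it
-/

set_option autoImplicit false

namespace Cfsg.Agent.Blocks.SepCentral

open Cfsg
open scoped ComplexConjugate
open Cfsg.Agent.Blocks.Induced Cfsg.Agent.Blocks.ConvCentral

/-- The value of a class function on a central element, as a sum over classes. -/
theorem exists_reps (G : Type*) [Group G] [Fintype G] : ∃ s : Finset G, ∀ θ f : G → ℂ,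
    IsClassFunction G θ → IsClassFunction G f →
      lin θ f / θ 1 = ∑ g ∈ s, f g * centralChar θ g := by
  classical
  have : Fintype (ConjClasses G) := Fintype.ofFinite _
  let r : ConjClasses G → G := fun c => Quotient.out c
  have hr : ∀ c : ConjClasses G, ConjClasses.mk (r c) = c := fun c => Quotient.out_eq c
  have hrinj : Function.Injective r := fun a b hab => by rw [← hr a, ← hr b, hab]
  refine ⟨Finset.univ.image r, ?_⟩
  intro θ f hθ hf
  rw [Finset.sum_image (fun a _ b _ hab => hrinj hab)]
  rw [lin_def, ← Finset.sum_fiberwise (Finset.univ) (ConjClasses.mk) (fun g : G => f g * θ g),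
    Finset.sum_div]
  refine Finset.sum_congr rfl fun c _ => ?_
  have h1 : ∀ g ∈ Finset.univ.filter (fun g : G => ConjClasses.mk g = c),
      f g * θ g = f (r c) * θ (r c) := by
    intro g hg
    have h2 : IsConj (r c) g := by
      rw [← ConjClasses.mk_eq_mk_iff_isConj, hr, (Finset.mem_filter.1 hg).2]
    obtain ⟨x, hx⟩ := isConj_iff.1 h2
    rw [← hx, hf, hθ]
  rw [Finset.sum_congr rfl h1, Finset.sum_const, nsmul_eq_mul]
  have hcard : (Finset.univ.filter fun g : G => ConjClasses.mk g = c).card =
      (Subgroup.centralizer ({r c} : Set G)).index := by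
    rw [← ncard_conj_eq_index, Set.ncard_eq_toFinset_card _ (Set.toFinite _)]
    congr 1
    ext y
    simp only [Finset.mem_filter, Finset.mem_univ, true_and, Set.Finite.mem_toFinset,
      Set.mem_ofPred_eq]
    rw [← ConjClasses.mk_eq_mk_iff_isConj, hr]
    exact eq_comm
  rw [hcard]
  unfold centralChar
  ring

theorem not_memLocalIdeal_mul {M : Ideal AlgInt} (hM : M.IsPrime) {z w : ℂ}
    (hz : IsIntegral ℤ z) (hw : IsIntegral ℤ w) (h1 : ¬ MemLocalIdeal M z)
    (h2 : ¬ MemLocalIdeal M w) : ¬ MemLocalIdeal M (z * w) := by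
  have h1M : (1 : AlgInt) ∉ M := fun h => hM.ne_top ((Ideal.eq_top_iff_one M).2 h)
  have hz' : (⟨z, hz⟩ : AlgInt) ∉ M := fun h => h1 ⟨⟨z, hz⟩, 1, h, h1M, by simp⟩
  have hw' : (⟨w, hw⟩ : AlgInt) ∉ M := fun h => h2 ⟨⟨w, hw⟩, 1, h, h1M, by simp⟩
  rintro ⟨a, b, ha, hb, hab⟩
  have hb0 : (b : ℂ) ≠ 0 := fun h => hb (by
    have : b = 0 := Subtype.ext h
    rw [this]; exact M.zero_mem)
  have h3 : (⟨z, hz⟩ : AlgInt) * ⟨w, hw⟩ * b = a := by
    apply Subtype.ext
    push_cast
    rw [← hab]
    field_simp
  have h4 : (⟨z, hz⟩ : AlgInt) * ⟨w, hw⟩ * b ∈ M := h3 ▸ ha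
  rcases hM.mem_or_mem h4 with h | h
  · rcases hM.mem_or_mem h with h | h
    · exact hz' h
    · exact hw' h
  · exact hb h

theorem memLocalIdeal_intMul {M : Ideal AlgInt} {z w : ℂ}
    (hz : IsIntegral ℤ z) (hw : MemLocalIdeal M w) : MemLocalIdeal M (z * w) := by
  obtain ⟨a, b, ha, hb, rfl⟩ := hw
  exact ⟨⟨z, hz⟩ * a, b, M.mul_mem_left _ ha, hb, by push_cast; ring⟩

theorem isIntegral_lin_div' {G : Type*} [Group G] [Fintype G] {χ : G → ℂ}
    (hχ : IsIrrCharacter G χ) {f : G → ℂ} (hf : IsClassFunction G f)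
    (hfi : ∀ g, IsIntegral ℤ (f g)) : IsIntegral ℤ (lin χ f / χ 1) := by
  obtain ⟨s, hs⟩ := exists_reps G
  rw [hs χ f (isClassFunction_of_isIrrCharacter hχ) hf]
  exact IsIntegral.sum _ fun g _ => (hfi g).mul (isIntegral_centralChar hχ g)

/-- A central element with algebraic integer coefficients which is killed by a finite set of
irreducible characters outside the block of `χ₀` but is a unit at `χ₀`. -/
theorem exists_separating {G : Type*} [Group G] [Fintype G] {M : Ideal AlgInt} (hM : M.IsPrime)
    {χ₀ : G → ℂ} (hχ₀ : IsIrrCharacter G χ₀) (T : Finset (IrrCharacter G))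
    (hT : ∀ χ ∈ T, ¬ SameBlock M χ₀ (χ : G → ℂ)) :
    ∃ f : G → ℂ, IsClassFunction G f ∧ (∀ g, IsIntegral ℤ (f g)) ∧
      (∀ χ ∈ T, lin (χ : G → ℂ) f = 0) ∧ ¬ MemLocalIdeal M (lin χ₀ f / χ₀ 1) := by
  classical
  induction T using Finset.induction_on with
  | empty =>
    refine ⟨fun g => if g = 1 then 1 else 0, ?_, ?_, ?_, ?_⟩
    · intro g h
      simp only [conj_eq_one_iff]
    · intro g
      dsimp only
      split_ifs
      · exact isIntegral_one
      · exact isIntegral_zero
    · simp
    · rw [lin_def]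
      simp only [ite_mul, one_mul, zero_mul, Finset.sum_ite_eq', Finset.mem_univ, if_true]
      rw [div_self (irr_one_ne_zero hχ₀)]
      rintro ⟨a, b, ha, hb, hab⟩
      have hb0 : (b : ℂ) ≠ 0 := fun h => hb (by
        have : b = 0 := Subtype.ext h
        rw [this]; exact M.zero_mem)
      rw [div_eq_one_iff_eq hb0] at hab
      exact hb (Subtype.ext hab ▸ ha)
  | insert χ T hχT ih =>
    obtain ⟨f, hf, hfi, hf0, hfM⟩ := ih fun ψ hψ => hT ψ (Finset.mem_insert_of_mem hψ)
    have h1 := hT χ (Finset.mem_insert_self _ _)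
    unfold SameBlock at h1
    push Not at h1
    obtain ⟨g, hg⟩ := h1
    -- the element killing χ
    let d : G → ℂ := fun x => if x = 1 then 1 else 0
    let z : G → ℂ := fun x => (classInd g x : ℂ) - centralChar (χ : G → ℂ) g * d x
    have hdc : IsClassFunction G d := by
      intro x h
      simp only [d, conj_eq_one_iff]
    have hzc : IsClassFunction G z := by
      intro x h
      simp only [z]
      rw [hdc x h]
      have := isClassFunction_classInd g x h
      simp only at this
      rw [this]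
    have hzi : ∀ x, IsIntegral ℤ (z x) := by
      intro x
      simp only [z, d]
      refine IsIntegral.sub ?_ (IsIntegral.mul (isIntegral_centralChar χ.2 g) ?_)
      · exact isIntegral_algebraMap (A := ℂ) (x := classInd g x)
      · split_ifs
        · exact isIntegral_one
        · exact isIntegral_zero
    have hlinz : ∀ θ : G → ℂ, IsClassFunction G θ → θ 1 ≠ 0 →
        lin θ z / θ 1 = centralChar θ g - centralChar (χ : G → ℂ) g := by
      intro θ hθ hθ1
      rw [← lin_classInd hθ g, lin_def, lin_def]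
      simp only [z, d, sub_mul, Finset.sum_sub_distrib, mul_ite, mul_one, mul_zero, ite_mul,
        zero_mul, Finset.sum_ite_eq', Finset.mem_univ, if_true]
      rw [sub_div, mul_div_assoc, div_self hθ1, mul_one]
    refine ⟨conv z f, isClassFunction_conv hzc hf, ?_, ?_, ?_⟩
    · intro x
      rw [conv_apply]
      exact IsIntegral.sum _ fun y _ => (hzi y).mul (hfi _)
    · intro ψ hψ
      have hψ1 := irr_one_ne_zero ψ.2
      have h2 := lin_conv ψ.2 (f := z) (f' := f) hzc
      have h3 : lin (ψ : G → ℂ) z * lin (ψ : G → ℂ) f = 0 := by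
        rcases Finset.mem_insert.1 hψ with rfl | hψT
        · have h4 := hlinz (ψ : G → ℂ) (isClassFunction_of_isIrrCharacter ψ.2) hψ1
          rw [sub_self, div_eq_zero_iff] at h4
          rcases h4 with h4 | h4
          · rw [h4, zero_mul]
          · exact absurd h4 hψ1
        · rw [hf0 ψ hψT, mul_zero]
      rw [h3] at h2
      exact (mul_eq_zero.1 h2).resolve_right hψ1
    · have hχ1 := irr_one_ne_zero hχ₀
      have h2 := lin_conv hχ₀ (f := z) (f' := f) hzc
      have h3 : lin χ₀ (conv z f) / χ₀ 1 = (lin χ₀ z / χ₀ 1) * (lin χ₀ f / χ₀ 1) := by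
        rw [div_mul_div_comm, ← h2, mul_div_mul_right _ _ hχ1]
      rw [h3]
      refine not_memLocalIdeal_mul hM (isIntegral_lin_div' hχ₀ hzc hzi)
        (isIntegral_lin_div' hχ₀ hf hfi) ?_ hfM
      rw [hlinz χ₀ (isClassFunction_of_isIrrCharacter hχ₀) hχ1]
      exact hg

end Cfsg.Agent.Blocks.SepCentral
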