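import Mathlib
import Cfsg.Prelude.Def_Blocks
import Cfsg.Agent.Characters.Core
import Cfsg.Agent.Blocks.Local
import Cfsg.Agent.Blocks.Basic
import Cfsg.Agent.Blocks.ConvCentral
import Cfsg.Agent.Blocks.SepCentral
import Cfsg.Agent.Blocks.PElements
set_option linter.all false

/-!
# Külshammer's formula for the principal block idempotent

The formula is deduced here from two facts about the principal block (passed as hypotheses):
weak block orthogonality and the vanishing of the sum over the `p`-regular elements of the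
characters outside the principal block.
-/

set_option autoImplicit false

namespace Cfsg.Agent.Blocks.Kulshammer

open Cfsg
open scoped ComplexConjugate
open Cfsg.Agent.Blocks.ConvCentral Cfsg.Agent.Blocks.PElements

variable {G : Type*} [Group G]

section Expansion

variable [Fintype G]

/-- Expansion of a class function in complex conjugates of irreducible characters. -/
theorem classFunction_apply [Fintype (IrrCharacter G)] {f : G → ℂ} (hf : IsClassFunction G f)
    (g : G) : f g = ∑ χ : IrrCharacter G,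
      (Nat.card G : ℂ)⁻¹ * lin (χ : G → ℂ) f * conj ((χ : G → ℂ) g) := by
  have hf' : IsClassFunction G (fun g => conj (f g)) := fun x h => congrArg _ (hf x h)
  have h1 := congrFun (Characters.Core.classFunction_eq_sum hf') g
  have h2 := congrArg (fun z : ℂ => conj z) h1
  simp only [Complex.conj_conj, Finset.sum_apply, Pi.smul_apply, smul_eq_mul, map_sum,
    map_mul] at h2
  rw [h2]
  refine Finset.sum_congr rfl fun χ _ => ?_
  congr 1
  rw [Characters.Core.classInner_conj_symm, classInner, lin_def]
  congr 1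
  refine Finset.sum_congr rfl fun x _ => ?_
  rw [Complex.conj_conj, mul_comm]

theorem conv_apply_eq [Fintype (IrrCharacter G)] {a b : G → ℂ} (ha : IsClassFunction G a)
    (hb : IsClassFunction G b) (g : G) : conv a b g = ∑ χ : IrrCharacter G,
      (Nat.card G : ℂ)⁻¹ * lin (χ : G → ℂ) a * (lin (χ : G → ℂ) b / (χ : G → ℂ) 1) *
        conj ((χ : G → ℂ) g) := by
  rw [classFunction_apply (isClassFunction_conv ha hb)]
  refine Finset.sum_congr rfl fun χ _ => ?_
  have h1 := lin_conv χ.2 (f' := b) ha
  have h2 := ConvCentral.irr_one_ne_zero χ.2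
  rw [← eq_div_iff h2] at h1
  rw [h1]
  ring

open Classical in
theorem lin_indicator (χ : G → ℂ) (S : Set G) :
    lin χ (S.indicator 1) = ∑ᶠ x ∈ S, χ x := by
  rw [lin_def, finsum_mem_def, finsum_eq_sum_of_fintype]
  refine Finset.sum_congr rfl fun g _ => ?_
  rw [Set.indicator_apply, Set.indicator_apply]
  split_ifs <;> simp

theorem isClassFunction_indicator {S : Set G} (hS : ∀ g h : G, h * g * h⁻¹ ∈ S ↔ g ∈ S) :
    IsClassFunction G (S.indicator 1) := by
  classical
  intro g h
  rw [Set.indicator_apply, Set.indicator_apply]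
  simp only [hS g h, Pi.one_apply]

theorem conv_indicator (S T : Set G) (g : G) :
    conv (S.indicator 1) (T.indicator 1) g =
      (Nat.card {xy : G × G // xy.1 ∈ S ∧ xy.2 ∈ T ∧ xy.1 * xy.2 = g} : ℂ) := by
  classical
  rw [conv_apply]
  have h1 : ∀ x : G, (S.indicator 1 : G → ℂ) x * (T.indicator 1 : G → ℂ) (x⁻¹ * g) =
      if x ∈ S ∧ x⁻¹ * g ∈ T then 1 else 0 := by
    intro x
    rw [Set.indicator_apply, Set.indicator_apply]
    by_cases hx : x ∈ S <;> by_cases hy : x⁻¹ * g ∈ T <;> simp [hx, hy]
  rw [Finset.sum_congr rfl fun x _ => h1 x, Finset.sum_boole]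
  congr 1
  rw [← Fintype.card_subtype, ← Nat.card_eq_fintype_card]
  refine Nat.card_congr ⟨fun x => ⟨(x.1, x.1⁻¹ * g), x.2.1, x.2.2, by simp⟩,
    fun y => ⟨y.1.1, y.2.1, ?_⟩, fun x => rfl, fun y => ?_⟩
  · have := y.2.2.2
    have h2 : y.1.1⁻¹ * g = y.1.2 := by rw [inv_mul_eq_iff_eq_mul]; exact this.symm
    rw [h2]
    exact y.2.2.1
  · have := y.2.2.2
    have h2 : y.1.1⁻¹ * g = y.1.2 := by rw [inv_mul_eq_iff_eq_mul]; exact this.symm
    apply Subtype.ext
    exact Prod.ext rfl h2

end Expansion

section Main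

variable [Finite G] {p : ℕ} [hp : Fact p.Prime] {M : Ideal AlgInt}

/-- The set of `p`-regular elements. -/
def pRegularSet (G : Type*) [Group G] (p : ℕ) : Set G := {x | ¬ p ∣ orderOf x}

theorem orderOf_conj (g h : G) : orderOf (h * g * h⁻¹) = orderOf g :=
  MulEquiv.orderOf_eq (MulAut.conj h) g

theorem eq_one_of_mem {x : G} (h1 : x ∈ pElements G p) (h2 : x ∈ pRegularSet G p) : x = 1 := by
  obtain ⟨k, hk⟩ := h1
  rcases Nat.eq_zero_or_pos k with rfl | hk0
  · rwa [pow_zero, orderOf_eq_one_iff] at hk
  · exact absurd (hk ▸ dvd_pow_self p hk0.ne') h2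

/-- Value of the central character of `χ ∈ B₀` on the sum of all `p`-regular elements. -/
theorem memLocalIdeal_lin_sub (hM : IsPModular p M) {χ : IrrCharacter G}
    (hχ : χ ∈ principalBlock M G) {S : Set G} (hS : ∀ g h : G, h * g * h⁻¹ ∈ S ↔ g ∈ S)
    [Fintype G] :
    MemLocalIdeal M (lin (χ : G → ℂ) (S.indicator 1) / (χ : G → ℂ) 1 - (Nat.card S : ℂ)) := by
  have := Local.isPrime_of_isPModular hM
  obtain ⟨s, hs⟩ := SepCentral.exists_reps G
  have h1 := hs (χ : G → ℂ) (S.indicator 1) (Basic.irr_isClassFunction χ.2)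
    (isClassFunction_indicator hS)
  have h2 := hs (fun _ => 1) (S.indicator 1) (fun _ _ => rfl) (isClassFunction_indicator hS)
  have h3 : lin (fun _ : G => (1 : ℂ)) (S.indicator 1) / 1 = (Nat.card S : ℂ) := by
    classical
    rw [lin_def, div_one]
    simp only [mul_one, Set.indicator_apply, Pi.one_apply]
    rw [Finset.sum_boole, ← Fintype.card_subtype, ← Nat.card_eq_fintype_card]
  rw [h1, ← h3, h2]
  apply Local.memLocalIdeal_sum_sub_sum
  intro g _
  rw [← mul_sub]
  apply Local.memLocalIdeal_mul_left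
  · classical
    rw [Set.indicator_apply]
    split_ifs
    · exact Local.memLocalRing_one
    · exact Local.memLocalRing_zero
  · exact Local.memLocalIdeal_sub_comm (hχ g)

theorem sub_mul_memLocalIdeal (hM : IsPModular p M)
    (h907 : ∀ x y : G, ¬ p ∣ orderOf x → p ∣ orderOf y →
      ∑ᶠ χ ∈ principalBlock M G, (χ : G → ℂ) x * conj ((χ : G → ℂ) y) = 0)
    (h952 : ∀ χ : IrrCharacter G, χ ∉ principalBlock M G →
      ∑ᶠ x ∈ pRegularSet G p, (χ : G → ℂ) x = 0) {g : G} (hg : ¬ p ∣ orderOf g) :
    MemLocalRing M (blockCoeff (principalBlock M G) g) ∧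
    MemLocalIdeal M ((Nat.card {xy : G × G // xy.1 ∈ pElements G p ∧ xy.2 ∈ pRegularSet G p ∧
      xy.1 * xy.2 = g} : ℂ) -
        (Nat.card (pRegularSet G p) : ℂ) * blockCoeff (principalBlock M G) g) := by
  classical
  have := Local.isPrime_of_isPModular hM
  have : Fintype G := Fintype.ofFinite G
  have : Finite (IrrCharacter G) := Characters.Core.finite_irr
  have : Fintype (IrrCharacter G) := Fintype.ofFinite _
  set B : Set (IrrCharacter G) := principalBlock M G with hB
  have hSp : ∀ g h : G, h * g * h⁻¹ ∈ pElements G p ↔ g ∈ pElements G p := by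
    intro g h
    simp only [mem_pElements, orderOf_conj]
  have hSr : ∀ g h : G, h * g * h⁻¹ ∈ pRegularSet G p ↔ g ∈ pRegularSet G p := by
    intro g h
    simp only [pRegularSet, Set.mem_ofPred_eq, orderOf_conj]
  -- first formula: `|G|⁻¹ ∑_{χ ∈ B₀} A_χ conj χ(g) = blockCoeff`
  have hcoef : ∑ χ : IrrCharacter G, (if χ ∈ B then
      (Nat.card G : ℂ)⁻¹ * (∑ᶠ x ∈ pElements G p, (χ : G → ℂ) x) * conj ((χ : G → ℂ) g) else 0) =
        blockCoeff B g := by
    rw [Basic.blockCoeff_def, finsum_mem_def, finsum_eq_sum_of_fintype, Finset.mul_sum]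
    have h1 : ∀ χ : IrrCharacter G, (if χ ∈ B then
      (Nat.card G : ℂ)⁻¹ * (∑ᶠ x ∈ pElements G p, (χ : G → ℂ) x) * conj ((χ : G → ℂ) g) else 0) =
        ∑ x : G, (if x ∈ pElements G p then (Nat.card G : ℂ)⁻¹ *
          (if χ ∈ B then (χ : G → ℂ) x * conj ((χ : G → ℂ) g) else 0) else 0) := by
      intro χ
      rw [finsum_mem_def, finsum_eq_sum_of_fintype]
      split_ifs with h
      · rw [Finset.mul_sum, Finset.sum_mul]
        refine Finset.sum_congr rfl fun x _ => ?_
        rw [Set.indicator_apply]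
        split_ifs <;> ring
      · simp
    rw [Finset.sum_congr rfl fun χ _ => h1 χ, Finset.sum_comm]
    rw [Finset.sum_eq_single (1 : G)]
    · simp only [if_pos (show (1 : G) ∈ pElements G p from ⟨0, by simp⟩)]
      refine Finset.sum_congr rfl fun χ _ => ?_
      rw [Set.indicator_apply]
    · intro x _ hx
      split_ifs with h
      · have hx1 : p ∣ orderOf x := by
          by_contra hc
          exact hx (eq_one_of_mem h hc)
        have h2 := h907 g x hg hx1
        rw [finsum_mem_def, finsum_eq_sum_of_fintype] at h2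
        have h3 := congrArg (fun z : ℂ => conj z) h2
        simp only [map_sum, map_zero] at h3
        rw [← Finset.mul_sum]
        rw [mul_eq_zero]
        right
        refine Eq.trans ?_ h3
        refine Finset.sum_congr rfl fun χ _ => ?_
        rw [Set.indicator_apply]
        split_ifs
        · rw [map_mul, Complex.conj_conj, mul_comm]
        · rw [map_zero]
      · simp
    · intro h
      exact absurd (Finset.mem_univ _) h
  -- local integrality of the coefficients
  have hA : ∀ χ : IrrCharacter G, MemLocalRing M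
      ((Nat.card G : ℂ)⁻¹ * (∑ᶠ x ∈ pElements G p, (χ : G → ℂ) x)) := fun χ =>
    memLocalRing_sum_pElements hM (Basic.irr_isCharacter χ.2)
  have hc : ∀ χ : IrrCharacter G, MemLocalRing M (conj ((χ : G → ℂ) g)) := by
    intro χ
    have h1 := Characters.Core.isCharacter_conj (Basic.irr_isCharacter χ.2)
    exact Local.memLocalRing_of_isIntegral (isIntegral_of_isCharacter h1 g)
  refine ⟨?_, ?_⟩
  · rw [← hcoef]
    apply Local.memLocalRing_sum
    intro χ _
    split_ifs
    · exact Local.memLocalRing_mul (hA χ) (hc χ)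
    · exact Local.memLocalRing_zero
  · rw [← conv_indicator, conv_apply_eq (isClassFunction_indicator hSp)
      (isClassFunction_indicator hSr), ← hcoef, Finset.mul_sum]
    apply Local.memLocalIdeal_sum_sub_sum
    intro χ _
    rw [lin_indicator, lin_indicator]
    split_ifs with h
    · have h1 := memLocalIdeal_lin_sub hM h hSr
      rw [lin_indicator] at h1
      have h2 := Local.memLocalIdeal_mul_left (Local.memLocalRing_mul (hA χ) (hc χ)) h1
      convert h2 using 1
      ring
    · rw [h952 χ h]
      simp [Local.memLocalIdeal_zero]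

/-- Külshammer's formula, from weak block orthogonality and the vanishing of the sum over the
`p`-regular elements of the characters outside the principal block. -/
theorem kulshammer (hM : IsPModular p M)
    (h907 : ∀ x y : G, ¬ p ∣ orderOf x → p ∣ orderOf y →
      ∑ᶠ χ ∈ principalBlock M G, (χ : G → ℂ) x * conj ((χ : G → ℂ) y) = 0)
    (h952 : ∀ χ : IrrCharacter G, χ ∉ principalBlock M G →
      ∑ᶠ x ∈ pRegularSet G p, (χ : G → ℂ) x = 0) {g : G} (hg : ¬ p ∣ orderOf g) :
    ¬ p ∣ Nat.card (pRegularSet G p) ∧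
    MemLocalIdeal M (blockCoeff (principalBlock M G) g -
      (Nat.card {xy : G × G // xy.1 ∈ pElements G p ∧ xy.2 ∈ pRegularSet G p ∧
      xy.1 * xy.2 = g} : ℂ) / (Nat.card (pRegularSet G p) : ℂ)) := by
  have := Local.isPrime_of_isPModular hM
  obtain ⟨h1, h2⟩ := sub_mul_memLocalIdeal hM h907 h952 hg
  have hone : ¬ p ∣ orderOf (1 : G) := by
    rw [orderOf_one]
    exact hp.out.one_lt.not_ge ∘ Nat.le_of_dvd one_pos
  obtain ⟨h3, h4⟩ := sub_mul_memLocalIdeal hM h907 h952 hone
  have hR : ¬ p ∣ Nat.card (pRegularSet G p) := by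
    intro hd
    have h5 : MemLocalIdeal M ((Nat.card (pRegularSet G p) : ℂ)) :=
      (Local.memLocalIdeal_natCast_iff hM _).2 hd
    have h6 := Local.memLocalIdeal_mul_right h5 h3
    have h7 := Local.memLocalIdeal_add h4 h6
    rw [sub_add_cancel] at h7
    have h8 : Nat.card {xy : G × G // xy.1 ∈ pElements G p ∧ xy.2 ∈ pRegularSet G p ∧
      xy.1 * xy.2 = 1} = 1 := by
      rw [Nat.card_eq_one_iff_unique]
      refine ⟨⟨?_⟩, ⟨⟨(1, 1), ⟨0, by simp⟩, hone, by simp⟩⟩⟩
      have key : ∀ z : {xy : G × G // xy.1 ∈ pElements G p ∧ xy.2 ∈ pRegularSet G p ∧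
          xy.1 * xy.2 = 1}, z.1 = (1, 1) := by
        rintro ⟨⟨x, y⟩, hx, hy, hxy⟩
        simp only at hx hy hxy ⊢
        have hyx : y = x⁻¹ := (inv_eq_of_mul_eq_one_right hxy).symm
        have hx' : x ∈ pRegularSet G p := by
          have : ¬ p ∣ orderOf y := hy
          rw [hyx, orderOf_inv] at this
          exact this
        have hx1 := eq_one_of_mem hx hx'
        rw [hyx, hx1, inv_one]
      intro a b
      apply Subtype.ext
      rw [key a, key b]
    rw [h8, Nat.cast_one] at h7
    exact Local.not_memLocalIdeal_one h7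
  refine ⟨hR, ?_⟩
  have h5 : MemLocalRing M ((Nat.card (pRegularSet G p) : ℂ))⁻¹ :=
    Local.memLocalRing_inv_natCast hM hR
  have h6 : (Nat.card (pRegularSet G p) : ℂ) ≠ 0 := by
    intro h0
    have : Nat.card (pRegularSet G p) = 0 := by exact_mod_cast h0
    rw [this] at hR
    exact hR (dvd_zero p)
  have h7 := Local.memLocalIdeal_mul_left h5 (Local.memLocalIdeal_neg h2)
  convert h7 using 1
  field_simp
  ring

end Main

end Cfsg.Agent.Blocks.Kulshammer
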