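import Mathlib
import Cfsg.Prelude.Def_Blocks
import Cfsg.Agent.Characters.Values
import Cfsg.Agent.Blocks.Kulshammer
set_option linter.all false

/-!
# Normal `p'`-subgroups lie in the kernel of the principal block

* `apply_eq_of_sum_eq` : if the sum of a character over a subgroup is the order times the degree,
  the character is constant on the subgroup.
* `sum_normal_eq` : the sum of an irreducible character over a normal subgroup `N` is `0` or
  `|N| χ(1)`.
* `principalBlock_apply_eq` : characters of the principal block are constant on normal subgroups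
  of order prime to `p`.
* `sum_sq_degrees` : the squares of the degrees of the irreducible characters with `N` in the
  kernel add up to the index of `N`.
-/

set_option autoImplicit false

namespace Cfsg.Agent.Blocks.PrincipalKernel

open Cfsg
open scoped ComplexConjugate
open Cfsg.Agent.Blocks.ConvCentral Cfsg.Agent.Blocks.PElements Cfsg.Agent.Blocks.Kulshammer

variable {G : Type*} [Group G]

theorem apply_eq_of_re_eq [Finite G] {χ : G → ℂ} (hχ : IsCharacter G χ) {g : G}
    (h : (χ 1).re ≤ (χ g).re) : χ g = χ 1 := by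
  obtain ⟨n, ρ, rfl⟩ := hχ
  have h1 := Characters.Values.norm_character_le ρ g
  rw [Representation.char_one] at h ⊢
  rw [Complex.natCast_re] at h
  set z := ρ.character g
  set d : ℝ := (Module.finrank ℂ (Fin n → ℂ) : ℝ) with hd
  have hd0 : 0 ≤ d := Nat.cast_nonneg _
  have h2 : z.re ≤ ‖z‖ := Complex.re_le_norm z
  have h3 : z.re = d := le_antisymm (h2.trans h1) h
  have h4 : ‖z‖ = d := le_antisymm h1 (h.trans h2)
  have h5 : z.im = 0 := by
    have := Complex.sq_norm z
    rw [Complex.normSq_apply, h4, h3] at this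
    have h6 : z.im * z.im = 0 := by nlinarith
    exact mul_self_eq_zero.1 h6
  apply Complex.ext
  · rw [h3, Complex.natCast_re]
  · rw [h5, Complex.natCast_im]

theorem apply_eq_of_sum_eq [Fintype G] {χ : G → ℂ} (hχ : IsCharacter G χ) {S : Finset G}
    (h : ∑ x ∈ S, χ x = (S.card : ℂ) * χ 1) {g : G} (hg : g ∈ S) : χ g = χ 1 := by
  apply apply_eq_of_re_eq hχ
  have hle : ∀ x ∈ S, (χ x).re ≤ (χ 1).re := by
    intro x _
    obtain ⟨n, ρ, rfl⟩ := hχ
    have h1 := Characters.Values.norm_character_le ρ x
    rw [Representation.char_one, Complex.natCast_re]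
    exact (Complex.re_le_norm _).trans h1
  have h1 : ∑ x ∈ S, (χ x).re = ∑ x ∈ S, (χ 1).re := by
    have := congrArg Complex.re h
    rw [Complex.re_sum] at this
    rw [this, Finset.sum_const, nsmul_eq_mul]
    rw [← Complex.ofReal_natCast, Complex.re_ofReal_mul]
  exact ((Finset.sum_eq_sum_iff_of_le hle).1 h1 g hg).ge

theorem mem_conj_iff (N : Subgroup G) [N.Normal] (g h : G) :
    h * g * h⁻¹ ∈ (N : Set G) ↔ g ∈ (N : Set G) := by
  rw [SetLike.mem_coe, SetLike.mem_coe]
  exact (Subgroup.Normal.mem_comm_iff inferInstance).trans (by simp)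

variable [Fintype G]

theorem conv_subgroup (N : Subgroup G) :
    conv ((N : Set G).indicator 1) ((N : Set G).indicator 1) =
      (Nat.card N : ℂ) • (N : Set G).indicator (1 : G → ℂ) := by
  classical
  funext g
  rw [conv_apply, Pi.smul_apply, smul_eq_mul]
  have h1 : ∀ x : G, ((N : Set G).indicator 1 : G → ℂ) x * ((N : Set G).indicator 1 : G → ℂ)
      (x⁻¹ * g) = if x ∈ N then (N : Set G).indicator (1 : G → ℂ) g else 0 := by
    intro x
    simp only [Set.indicator_apply, SetLike.mem_coe, Pi.one_apply]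
    by_cases hx : x ∈ N
    · rw [if_pos hx, if_pos hx, one_mul]
      simp only [N.mul_mem_cancel_left (N.inv_mem hx)]
    · rw [if_neg hx, if_neg hx, zero_mul]
  rw [Finset.sum_congr rfl fun x _ => h1 x, ← Finset.sum_filter, Finset.sum_const, nsmul_eq_mul,
    ← Fintype.card_subtype, ← Nat.card_eq_fintype_card]

/-- The sum of an irreducible character over a normal subgroup is `0` or `|N| χ(1)`. -/
theorem sum_normal_eq {χ : G → ℂ} (hχ : IsIrrCharacter G χ) (N : Subgroup G) [N.Normal] :
    lin χ ((N : Set G).indicator 1) = 0 ∨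
      lin χ ((N : Set G).indicator 1) = (Nat.card N : ℂ) * χ 1 := by
  have h1 := lin_conv hχ (f' := (N : Set G).indicator 1)
    (isClassFunction_indicator (S := (N : Set G)) (mem_conj_iff N))
  rw [conv_subgroup] at h1
  have h2 : lin χ ((Nat.card N : ℂ) • (N : Set G).indicator (1 : G → ℂ)) =
      (Nat.card N : ℂ) * lin χ ((N : Set G).indicator 1) := by
    rw [lin_def, lin_def, Finset.mul_sum]
    refine Finset.sum_congr rfl fun g _ => ?_
    rw [Pi.smul_apply, smul_eq_mul, mul_assoc]
  rw [h2] at h1
  by_cases h0 : lin χ ((N : Set G).indicator 1) = 0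
  · exact Or.inl h0
  · right
    have h3 : lin χ ((N : Set G).indicator 1) * ((Nat.card N : ℂ) * χ 1) =
        lin χ ((N : Set G).indicator 1) * lin χ ((N : Set G).indicator 1) := by
      rw [← h1]; ring
    exact (mul_left_cancel₀ h0 h3).symm

/-- If the sum of `χ` over the subgroup `N` is `|N| χ(1)` then `χ` is constant on `N`. -/
theorem apply_eq_of_lin {χ : G → ℂ} (hχ : IsCharacter G χ) {N : Subgroup G}
    (h : lin χ ((N : Set G).indicator 1) = (Nat.card N : ℂ) * χ 1) {n : G} (hn : n ∈ N) :
    χ n = χ 1 := by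
  classical
  have h1 : lin χ ((N : Set G).indicator 1) = ∑ x ∈ Finset.univ.filter (fun x => x ∈ N), χ x := by
    rw [lin_indicator, finsum_mem_eq_finite_toFinset_sum _ (Set.toFinite _)]
    refine Finset.sum_congr ?_ fun _ _ => rfl
    ext x
    simp
  rw [h1] at h
  refine apply_eq_of_sum_eq hχ (S := Finset.univ.filter (fun x => x ∈ N)) ?_ (by simpa using hn)
  rw [h, ← Fintype.card_subtype, ← Nat.card_eq_fintype_card]

theorem lin_eq_of_apply_eq {χ : G → ℂ} {N : Subgroup G} (h : ∀ n ∈ N, χ n = χ 1) :
    lin χ ((N : Set G).indicator 1) = (Nat.card N : ℂ) * χ 1 := by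
  classical
  rw [lin_def]
  have h1 : ∀ g : G, (N : Set G).indicator (1 : G → ℂ) g * χ g =
      if g ∈ N then χ 1 else 0 := by
    intro g
    simp only [Set.indicator_apply, SetLike.mem_coe, Pi.one_apply]
    split_ifs with hg
    · rw [one_mul, h g hg]
    · rw [zero_mul]
  rw [Finset.sum_congr rfl fun g _ => h1 g, ← Finset.sum_filter, Finset.sum_const, nsmul_eq_mul,
    ← Fintype.card_subtype, ← Nat.card_eq_fintype_card]

/-- Normal `p'`-subgroups are in the kernel of the principal block. -/
theorem principalBlock_apply_eq {p : ℕ} [Fact p.Prime] {M : Ideal AlgInt} (hM : IsPModular p M)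
    {N : Subgroup G} [N.Normal] (hN : ¬ p ∣ Nat.card N) {χ : IrrCharacter G}
    (hχ : χ ∈ principalBlock M G) {n : G} (hn : n ∈ N) : (χ : G → ℂ) n = (χ : G → ℂ) 1 := by
  have := Local.isPrime_of_isPModular hM
  have h1 := memLocalIdeal_lin_sub hM hχ (S := (N : Set G)) (mem_conj_iff N)
  rcases sum_normal_eq χ.2 N with h | h
  · exfalso
    rw [h, zero_div, zero_sub, Local.memLocalIdeal_neg_iff, Local.memLocalIdeal_natCast_iff hM]
      at h1
    exact hN h1
  · exact apply_eq_of_lin (Basic.irr_isCharacter χ.2) h hn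

/-- The sum of the squares of the degrees of the irreducible characters with `N` in the kernel is
the index of `N`. -/
theorem sum_sq_degrees [Fintype (IrrCharacter G)] (N : Subgroup G) [N.Normal]
    [DecidablePred fun χ : IrrCharacter G => ∀ n ∈ N, (χ : G → ℂ) n = (χ : G → ℂ) 1] :
    ∑ χ ∈ Finset.univ.filter
        (fun χ : IrrCharacter G => ∀ n ∈ N, (χ : G → ℂ) n = (χ : G → ℂ) 1),
      (charDegree (χ : G → ℂ)) ^ 2 = N.index := by
  have h1 := classFunction_apply (isClassFunction_indicator (S := (N : Set G)) (mem_conj_iff N)) 1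
  have h2 : (N : Set G).indicator (1 : G → ℂ) 1 = 1 := by
    rw [Set.indicator_of_mem (show (1 : G) ∈ (N : Set G) from N.one_mem)]
    rfl
  rw [h2] at h1
  have h3 : ∀ χ : IrrCharacter G, (Nat.card G : ℂ)⁻¹ *
      lin (χ : G → ℂ) ((N : Set G).indicator 1) * conj ((χ : G → ℂ) 1) =
      if (∀ n ∈ N, (χ : G → ℂ) n = (χ : G → ℂ) 1) then
        (Nat.card G : ℂ)⁻¹ * (Nat.card N : ℂ) * ((charDegree (χ : G → ℂ) : ℂ)) ^ 2 else 0 := by
    intro χ
    split_ifs with h
    · rw [lin_eq_of_apply_eq h, Basic.irr_one_eq_charDegree χ.2, Complex.conj_natCast]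
      ring
    · rcases sum_normal_eq χ.2 N with h4 | h4
      · rw [h4]; ring
      · exact absurd (fun n hn => apply_eq_of_lin (Basic.irr_isCharacter χ.2) h4 hn) h
  rw [Finset.sum_congr rfl fun χ _ => h3 χ, ← Finset.sum_filter, ← Finset.mul_sum] at h1
  have hG : (Nat.card G : ℂ) ≠ 0 := by exact_mod_cast Nat.card_pos.ne'
  have hN : (Nat.card N : ℂ) ≠ 0 := by exact_mod_cast Nat.card_pos.ne'
  have h5 : (Nat.card G : ℂ) = (N.index : ℂ) * (Nat.card N : ℂ) := by
    exact_mod_cast N.index_mul_card.symm
  rw [h5] at h1 hG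
  have hI : (N.index : ℂ) ≠ 0 := left_ne_zero_of_mul hG
  have h6 : (∑ χ ∈ Finset.univ.filter
        (fun χ : IrrCharacter G => ∀ n ∈ N, (χ : G → ℂ) n = (χ : G → ℂ) 1),
      ((charDegree (χ : G → ℂ) : ℂ)) ^ 2) = N.index := by
    field_simp at h1
    exact h1.symm
  exact_mod_cast h6

omit [Group G] [Fintype G] in
/-- A natural number divided by `p ^ k` is a local integer only if `p ^ k` divides it. -/
theorem pow_dvd_of_memLocalRing {p : ℕ} [hp : Fact p.Prime] {M : Ideal AlgInt}
    (hM : IsPModular p M) (k s : ℕ) (h : MemLocalRing M ((s : ℂ) / (p : ℂ) ^ k)) : p ^ k ∣ s := by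
  have := Local.isPrime_of_isPModular hM
  have hp0 : (p : ℂ) ≠ 0 := by exact_mod_cast hp.out.ne_zero
  induction k generalizing s with
  | zero => simp
  | succ k ih =>
    have h1 : MemLocalIdeal M (s : ℂ) := by
      have h2 : MemLocalIdeal M ((p : ℂ) ^ (k + 1)) :=
        Local.memLocalIdeal_pow (Local.memLocalIdeal_p hM) (Nat.succ_ne_zero k)
      have h3 := Local.memLocalIdeal_mul_left h h2
      rwa [div_mul_cancel₀ _ (pow_ne_zero _ hp0)] at h3
    rw [Local.memLocalIdeal_natCast_iff hM] at h1
    obtain ⟨t, rfl⟩ := h1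
    rw [pow_succ, mul_comm (p ^ k)]
    apply Nat.mul_dvd_mul_left
    apply ih
    convert h using 1
    push_cast
    rw [pow_succ]
    field_simp

/-- In a group with a normal `p`-complement `N` the principal block consists of all irreducible
characters with `N` in the kernel (from Osima's theorem for the principal block). -/
theorem principalBlock_eq_of_normal_complement {p : ℕ} [hp : Fact p.Prime] {M : Ideal AlgInt}
    (hM : IsPModular p M) (hosima : MemLocalRing M (blockCoeff (principalBlock M G) (1 : G)))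
    (N : Subgroup G) [N.Normal] (hN : ¬ p ∣ Nat.card N) {k : ℕ} (hk : N.index = p ^ k) :
    principalBlock M G =
      {χ : IrrCharacter G | ∀ n ∈ N, (χ : G → ℂ) n = (χ : G → ℂ) 1} := by
  classical
  have := Local.isPrime_of_isPModular hM
  have : Finite (IrrCharacter G) := Characters.Core.finite_irr
  have : Fintype (IrrCharacter G) := Fintype.ofFinite _
  have hsub : Finset.univ.filter (fun χ : IrrCharacter G => χ ∈ principalBlock M G) ⊆
      Finset.univ.filter
        (fun χ : IrrCharacter G => ∀ n ∈ N, (χ : G → ℂ) n = (χ : G → ℂ) 1) := by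
    intro χ hχ
    rw [Finset.mem_filter] at hχ ⊢
    exact ⟨hχ.1, fun n hn => principalBlock_apply_eq hM hN hχ.2 hn⟩
  set s : ℕ := ∑ χ ∈ Finset.univ.filter (fun χ : IrrCharacter G => χ ∈ principalBlock M G),
    (charDegree (χ : G → ℂ)) ^ 2 with hs
  have hle : s ≤ p ^ k := by
    rw [← hk, ← sum_sq_degrees N]
    exact Finset.sum_le_sum_of_subset hsub
  have h1mem : (⟨fun _ => 1, Basic.isIrrCharacter_one⟩ : IrrCharacter G) ∈ principalBlock M G :=
    Basic.sameBlock_refl _
  have hpos : 0 < s := by
    apply Finset.sum_pos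
    · intro χ _
      exact pow_pos (Basic.charDegree_pos χ.2) 2
    · exact ⟨_, Finset.mem_filter.2 ⟨Finset.mem_univ _, h1mem⟩⟩
  have hcoef : blockCoeff (principalBlock M G) (1 : G) = (Nat.card G : ℂ)⁻¹ * (s : ℂ) := by
    rw [Basic.blockCoeff_def, hs, finsum_mem_def, finsum_eq_sum_of_fintype]
    congr 1
    push_cast
    rw [Finset.sum_filter]
    refine Finset.sum_congr rfl fun χ _ => ?_
    rw [Set.indicator_apply]
    split_ifs
    · rw [Basic.irr_one_eq_charDegree χ.2, Complex.conj_natCast, sq]
    · rfl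
  have hdvd : p ^ k ∣ s := by
    apply pow_dvd_of_memLocalRing hM
    have h2 := Local.memLocalRing_mul (Local.memLocalRing_natCast (M := M) (Nat.card N)) hosima
    rw [hcoef] at h2
    convert h2 using 1
    have h5 : (Nat.card G : ℂ) = (p : ℂ) ^ k * (Nat.card N : ℂ) := by
      have := N.index_mul_card
      rw [hk] at this
      exact_mod_cast this.symm
    have hN0 : (Nat.card N : ℂ) ≠ 0 := by exact_mod_cast Nat.card_pos.ne'
    rw [h5]
    field_simp
  have heq : s = p ^ k := le_antisymm hle (Nat.le_of_dvd hpos hdvd)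
  have hfin : Finset.univ.filter (fun χ : IrrCharacter G => χ ∈ principalBlock M G) =
      Finset.univ.filter
        (fun χ : IrrCharacter G => ∀ n ∈ N, (χ : G → ℂ) n = (χ : G → ℂ) 1) := by
    refine Finset.eq_of_subset_of_card_le hsub ?_
    by_contra hlt
    obtain ⟨χ, hχ1, hχ2⟩ := Finset.exists_mem_notMem_of_card_lt_card (not_le.1 hlt)
    have h6 : s < N.index := by
      rw [← sum_sq_degrees N]
      exact Finset.sum_lt_sum_of_subset hsub hχ1 hχ2 (pow_pos (Basic.charDegree_pos χ.2) 2)
        (fun _ _ _ => Nat.zero_le _)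
    rw [hk, heq] at h6
    exact lt_irrefl _ h6
  ext χ
  have := Finset.ext_iff.1 hfin χ
  simpa using this

end Cfsg.Agent.Blocks.PrincipalKernel
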