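import Mathlib
import Cfsg.Prelude.Def_Solvable
set_option linter.all false

/-!
# Class sums avoiding the centralizer of a normal `p`-subgroup are nilpotent mod `p`
-/

set_option autoImplicit false

namespace Cfsg.Agent.Blocks.PCoreNilp

open scoped Classical in
/-- If a `p`-group acts on a finite type without fixed points and `φ` is constant on orbits with values
in an additive commutative group killed by `p`, then the sum of `φ` vanishes. -/
theorem sum_eq_zero_of_no_fixedPoints {p : ℕ} [Fact p.Prime] {P : Type*} [Group P]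
    (hP : IsPGroup p P) {α : Type*} [Fintype α] [MulAction P α] {S : Type*} [AddCommGroup S]
    (hS : ∀ s : S, p • s = 0) (φ : α → S) (hφ : ∀ (u : P) (a : α), φ (u • a) = φ a)
    (hfix : ∀ a : α, ∃ u : P, u • a ≠ a) : ∑ a, φ a = 0 := by
  have h1 : ∑ a, φ a = ∑ b ∈ Finset.univ.image φ, (Finset.univ.filter (fun a => φ a = b)).card • b := by
    have := Finset.sum_comp (s := (Finset.univ : Finset α)) (f := fun b : S => b) (g := φ)
    simpa using this
  rw [h1]
  apply Finset.sum_eq_zero
  intro b _
  let X : SubMulAction P α :=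
    { carrier := {a | φ a = b}
      smul_mem' := by
        intro u a ha
        change φ a = b at ha
        change φ (u • a) = b
        rw [hφ, ha] }
  have h2 : Nat.card X ≡ Nat.card (MulAction.fixedPoints P X) [MOD p] :=
    hP.card_modEq_card_fixedPoints X
  have h3 : IsEmpty (MulAction.fixedPoints P X) := by
    constructor
    rintro ⟨a, ha⟩
    obtain ⟨u, hu⟩ := hfix (a : α)
    exact hu (congrArg Subtype.val (ha u))
  rw [Nat.card_of_isEmpty (α := MulAction.fixedPoints P X), Nat.modEq_zero_iff_dvd] at h2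
  have h4 : (Finset.univ.filter (fun a => φ a = b)).card = Nat.card X := by
    rw [Nat.card_eq_fintype_card]
    symm
    apply Fintype.card_of_subtype
    intro a
    simp only [Finset.mem_filter, Finset.mem_univ, true_and]
    rfl
  rw [h4]
  obtain ⟨k, hk⟩ := h2
  rw [hk, mul_comm, mul_smul, hS, smul_zero]

section

variable {G : Type*} [Group G]

/-- A normal `p`-subgroup acts trivially on every finite simple module over `F_p[G]`. -/
theorem smul_eq_self_of_mem {p : ℕ} [Fact p.Prime] (P : Subgroup G) [P.Normal] [Finite P]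
    (hP : IsPGroup p P) {S : Type*} [AddCommGroup S] [Module (MonoidAlgebra (ZMod p) G) S]
    [IsSimpleModule (MonoidAlgebra (ZMod p) G) S] [Finite S] (x : G) (hx : x ∈ P) (s : S) :
    (MonoidAlgebra.single x (1 : ZMod p) : MonoidAlgebra (ZMod p) G) • s = s := by
  let T : Submodule (MonoidAlgebra (ZMod p) G) S :=
    { carrier := {s | ∀ x ∈ P, (MonoidAlgebra.single x (1 : ZMod p) : MonoidAlgebra (ZMod p) G) • s = s}
      add_mem' := by
        intro a b ha hb x hx
        rw [smul_add, ha x hx, hb x hx]
      zero_mem' := by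
        intro x _
        rw [smul_zero]
      smul_mem' := by
        intro r s hs
        induction r using MonoidAlgebra.induction_linear with
        | zero => intro x _; rw [zero_smul, smul_zero]
        | add f g hf hg =>
          intro x hx
          rw [add_smul, smul_add, hf x hx, hg x hx]
        | single g a =>
          intro x hx
          have h1 := hs (g⁻¹ * x * g) (by
            have := ‹P.Normal›.conj_mem x hx g⁻¹
            simpa using this)
          conv_rhs => rw [← h1]
          rw [← mul_smul, ← mul_smul, MonoidAlgebra.single_mul_single, MonoidAlgebra.single_mul_single,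
            one_mul, mul_one]
          congr 2
          group }
  have hmem : ∀ t : S, t ∈ T ↔ ∀ x ∈ P, (MonoidAlgebra.single x (1 : ZMod p) : MonoidAlgebra (ZMod p) G) • t = t :=
    fun t => Iff.rfl
  -- the action of `P` on `S`
  let act : MulAction P S :=
    { smul := fun u t => (MonoidAlgebra.single (u : G) (1 : ZMod p) : MonoidAlgebra (ZMod p) G) • t
      one_smul := by
        intro t
        change (MonoidAlgebra.single ((1 : P) : G) (1 : ZMod p) : MonoidAlgebra (ZMod p) G) • t = t
        rw [Subgroup.coe_one, ← MonoidAlgebra.one_def, one_smul]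
      mul_smul := by
        intro u v t
        change (MonoidAlgebra.single ((u * v : P) : G) (1 : ZMod p) : MonoidAlgebra (ZMod p) G) • t =
          (MonoidAlgebra.single (u : G) (1 : ZMod p) : MonoidAlgebra (ZMod p) G) •
          (MonoidAlgebra.single (v : G) (1 : ZMod p) : MonoidAlgebra (ZMod p) G) • t
        rw [← mul_smul, MonoidAlgebra.single_mul_single, one_mul, Subgroup.coe_mul] }
  have hact : ∀ (u : P) (t : S), u • t = (MonoidAlgebra.single (u : G) (1 : ZMod p) : MonoidAlgebra (ZMod p) G) • t :=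
    fun _ _ => rfl
  have hpS : ∀ t : S, p • t = 0 := by
    intro t
    have : ((p : ℕ) : MonoidAlgebra (ZMod p) G) = 0 := by
      rw [MonoidAlgebra.natCast_def, CharP.cast_eq_zero, MonoidAlgebra.single_zero]
    rw [← Nat.cast_smul_eq_nsmul (MonoidAlgebra (ZMod p) G), this, zero_smul]
  have hnt : Nontrivial S := IsSimpleModule.nontrivial (MonoidAlgebra (ZMod p) G) S
  have hcard : p ∣ Nat.card S := by
    obtain ⟨t, ht⟩ := exists_ne (0 : S)
    have h1 : addOrderOf t = p := by
      apply addOrderOf_eq_prime (hpS t) ht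
    rw [← h1]
    exact addOrderOf_dvd_natCard t
  have h0 : (0 : S) ∈ MulAction.fixedPoints P S := by
    intro u
    rw [hact, smul_zero]
  obtain ⟨t, ht, ht0⟩ := hP.exists_fixed_point_of_prime_dvd_card_of_fixed_point S hcard h0
  have hT : T ≠ ⊥ := by
    intro h
    have : t ∈ T := by
      rw [hmem]
      intro x hx
      exact ht ⟨x, hx⟩
    rw [h, Submodule.mem_bot] at this
    exact ht0 this.symm
  have hT' : T = ⊤ := (eq_bot_or_eq_top T).resolve_left hT
  have : s ∈ T := by rw [hT']; trivial
  exact this x hx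

/-- The key lemma on simple modules. -/
theorem classSum_smul_eq_zero {p : ℕ} [Fact p.Prime] [Finite G] (P : Subgroup G) [P.Normal]
    (hP : IsPGroup p P) (K : Set G) (hK : ∀ x ∈ K, ∀ y : G, y * x * y⁻¹ ∈ K)
    (hKP : ∀ x ∈ K, x ∉ Subgroup.centralizer (P : Set G)) [Fintype K]
    {S : Type*} [AddCommGroup S] [Module (MonoidAlgebra (ZMod p) G) S]
    [IsSimpleModule (MonoidAlgebra (ZMod p) G) S] [Finite S] (s : S) :
    (∑ x : K, MonoidAlgebra.single (x : G) (1 : ZMod p) : MonoidAlgebra (ZMod p) G) • s = 0 := by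
  rw [Finset.sum_smul]
  let act : MulAction P K :=
    { smul := fun u t => ⟨(u : G) * t * (u : G)⁻¹, hK _ t.2 _⟩
      one_smul := by
        intro t
        apply Subtype.ext
        change ((1 : P) : G) * t * ((1 : P) : G)⁻¹ = t
        simp
      mul_smul := by
        intro u v t
        apply Subtype.ext
        change ((u * v : P) : G) * t * ((u * v : P) : G)⁻¹ = (u : G) * ((v : G) * t * (v : G)⁻¹) * (u : G)⁻¹
        simp [mul_assoc] }
  have hact : ∀ (u : P) (t : K), ((u • t : K) : G) = (u : G) * t * (u : G)⁻¹ := fun _ _ => rfl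
  have hpS : ∀ t : S, p • t = 0 := by
    intro t
    have : ((p : ℕ) : MonoidAlgebra (ZMod p) G) = 0 := by
      rw [MonoidAlgebra.natCast_def, CharP.cast_eq_zero, MonoidAlgebra.single_zero]
    rw [← Nat.cast_smul_eq_nsmul (MonoidAlgebra (ZMod p) G), this, zero_smul]
  apply sum_eq_zero_of_no_fixedPoints hP hpS
    (fun x : K => (MonoidAlgebra.single (x : G) (1 : ZMod p) : MonoidAlgebra (ZMod p) G) • s)
  · intro u x
    have h1 : (u : G) * x * (u : G)⁻¹ = x * ((x : G)⁻¹ * u * x * (u : G)⁻¹) := by group
    have h2 : (x : G)⁻¹ * u * x * (u : G)⁻¹ ∈ P := by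
      apply P.mul_mem _ (P.inv_mem u.2)
      have := ‹P.Normal›.conj_mem u u.2 (x : G)⁻¹
      simpa using this
    change (MonoidAlgebra.single ((u • x : K) : G) (1 : ZMod p) : MonoidAlgebra (ZMod p) G) • s =
      (MonoidAlgebra.single (x : G) (1 : ZMod p) : MonoidAlgebra (ZMod p) G) • s
    rw [hact, h1, ← one_mul (1 : ZMod p), ← MonoidAlgebra.single_mul_single, mul_smul,
      smul_eq_self_of_mem P hP _ h2, one_mul]
  · intro x
    by_contra hcon
    push Not at hcon
    apply hKP x x.2
    rw [Subgroup.mem_centralizer_iff]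
    intro u hu
    have := congrArg Subtype.val (hcon ⟨u, hu⟩)
    rw [hact] at this
    simp only at this
    rw [mul_inv_eq_iff_eq_mul] at this
    exact this

/-- A class sum (more generally the sum over a conjugation-invariant set) avoiding the centralizer of a
normal `p`-subgroup is nilpotent modulo `p`. -/
theorem isNilpotent_sum_zmod {p : ℕ} [Fact p.Prime] [Finite G] (P : Subgroup G) [P.Normal]
    (hP : IsPGroup p P) (K : Set G) (hK : ∀ x ∈ K, ∀ y : G, y * x * y⁻¹ ∈ K)
    (hKP : ∀ x ∈ K, x ∉ Subgroup.centralizer (P : Set G)) [Fintype K] :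
    IsNilpotent (∑ x : K, MonoidAlgebra.single (x : G) (1 : ZMod p) : MonoidAlgebra (ZMod p) G) := by
  have : NeZero p := ⟨(Fact.out : p.Prime).ne_zero⟩
  have : Finite (MonoidAlgebra (ZMod p) G) :=
    Finite.of_injective (fun f : MonoidAlgebra (ZMod p) G => (f.coeff : G → ZMod p))
      (fun a b h => MonoidAlgebra.coeff_injective (DFunLike.coe_injective h))
  have : IsArtinianRing (MonoidAlgebra (ZMod p) G) := inferInstance
  set z : MonoidAlgebra (ZMod p) G := ∑ x : K, MonoidAlgebra.single (x : G) (1 : ZMod p) with hz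
  have hJ : z ∈ Ring.jacobson (MonoidAlgebra (ZMod p) G) := by
    rw [Ring.jacobson, Module.jacobson, Submodule.mem_sInf]
    intro m hm
    have : IsSimpleModule (MonoidAlgebra (ZMod p) G) (MonoidAlgebra (ZMod p) G ⧸ m) :=
      isSimpleModule_iff_isCoatom.mpr hm
    have : Finite (MonoidAlgebra (ZMod p) G ⧸ m) := Quotient.finite _
    have h1 := classSum_smul_eq_zero P hP K hK hKP (Submodule.Quotient.mk (p := m) 1)
    rw [← hz, ← Submodule.Quotient.mk_smul, smul_eq_mul, mul_one, Submodule.Quotient.mk_eq_zero] at h1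
    exact h1
  obtain ⟨n, hn⟩ := IsSemiprimaryRing.isNilpotent (R := MonoidAlgebra (ZMod p) G)
  refine ⟨n, ?_⟩
  have := Ideal.pow_mem_pow hJ n
  rw [hn] at this
  simpa using this

/-- Integral form: some power of the class sum in `ℤ[G]` is divisible by `p`. -/
theorem exists_pow_eq_smul {p : ℕ} [Fact p.Prime] [Finite G] (P : Subgroup G) [P.Normal]
    (hP : IsPGroup p P) (K : Set G) (hK : ∀ x ∈ K, ∀ y : G, y * x * y⁻¹ ∈ K)
    (hKP : ∀ x ∈ K, x ∉ Subgroup.centralizer (P : Set G)) [Fintype K] :
    ∃ (n : ℕ) (w : MonoidAlgebra ℤ G),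
      (∑ x : K, MonoidAlgebra.single (x : G) (1 : ℤ) : MonoidAlgebra ℤ G) ^ n = p • w := by
  obtain ⟨n, hn⟩ := isNilpotent_sum_zmod P hP K hK hKP
  set z : MonoidAlgebra ℤ G := ∑ x : K, MonoidAlgebra.single (x : G) (1 : ℤ) with hz
  have h1 : MonoidAlgebra.mapRingHom G (Int.castRingHom (ZMod p)) (z ^ n) = 0 := by
    rw [map_pow, ← hn, hz, map_sum]
    congr 1
    apply Finset.sum_congr rfl
    intro x _
    rw [MonoidAlgebra.mapRingHom_single, map_one]
  refine ⟨n, MonoidAlgebra.ofCoeff ((z ^ n).coeff.mapRange (fun a => a / p) (by simp)), ?_⟩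
  apply MonoidAlgebra.coeff_injective
  ext g
  have h2 : (((z ^ n).coeff g : ℤ) : ZMod p) = 0 := by
    have := congrArg (fun f => MonoidAlgebra.coeff f g) h1
    simp only [MonoidAlgebra.coeff_mapRingHom, MonoidAlgebra.coeff_zero, Finsupp.zero_apply] at this
    exact this
  rw [ZMod.intCast_zmod_eq_zero_iff_dvd] at h2
  obtain ⟨c, hc⟩ := h2
  simp only [MonoidAlgebra.coeff_smul, Finsupp.smul_apply, Finsupp.mapRange_apply]
  have hp : (p : ℤ) ≠ 0 := by exact_mod_cast (Fact.out : p.Prime).ne_zero
  rw [hc, Int.mul_ediv_cancel_left _ hp]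
  simp

end

end Cfsg.Agent.Blocks.PCoreNilp
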