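import Mathlib
import Cfsg.Prelude.Def_Blocks
import Cfsg.Agent.Blocks.PCoreNilp
set_option linter.all false

/-!
# Central characters of class sums: integrality, and vanishing mod `M` on classes avoiding the
centralizer of a normal `p`-subgroup.
-/

set_option autoImplicit false

namespace Cfsg.Agent.Blocks.CentralScalar

open MulAction

theorem index_centralizer {G : Type*} [Group G] (g : G) :
    (Subgroup.centralizer ({g} : Set G)).index = Nat.card {x : G | IsConj g x} := by
  have h : (stabilizer (ConjAct G) g).index = (orbit (ConjAct G) g).ncard :=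
    MulAction.index_stabilizer (ConjAct G) g
  have h2 : (Subgroup.centralizer ({g} : Set G)) =
      (stabilizer (ConjAct G) g).comap (ConjAct.toConjAct : G ≃* ConjAct G).toMonoidHom := by
    ext x
    rw [Subgroup.mem_comap, mem_stabilizer_iff, Subgroup.mem_centralizer_singleton_iff]
    change x * g = g * x ↔ ConjAct.toConjAct x • g = g
    rw [ConjAct.toConjAct_smul, mul_inv_eq_iff_eq_mul]
  rw [h2, Subgroup.index_comap_of_surjective, h]
  · have h3 : orbit (ConjAct G) g = {x : G | IsConj g x} := by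
      ext x
      rw [ConjAct.mem_orbit_conjAct]
      exact isConj_comm
    rw [h3]
    rfl
  · exact (ConjAct.toConjAct : G ≃* ConjAct G).surjective

/-- Schur's lemma for central elements of `ℤ[G]`, with integrality of the scalar. -/
theorem exists_scalar {G : Type*} [Group G] [Finite G] {n : ℕ} (ρ : Representation ℂ G (Fin n → ℂ))
    (hρ : ρ.IsIrreducible) (w : MonoidAlgebra ℤ G)
    (hw : ∀ g : G, Commute (MonoidAlgebra.single g (1 : ℤ)) w) :
    ∃ c : ℂ, IsIntegral ℤ c ∧
      MonoidAlgebra.lift ℤ (Module.End ℂ (Fin n → ℂ)) G ρ w = algebraMap ℂ (Module.End ℂ (Fin n → ℂ)) c := by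
  set L := MonoidAlgebra.lift ℤ (Module.End ℂ (Fin n → ℂ)) G ρ with hL
  have hcomm : ∀ g : G, L w * ρ g = ρ g * L w := by
    intro g
    have h1 : L (MonoidAlgebra.single g (1 : ℤ)) = ρ g := by
      rw [hL, MonoidAlgebra.lift_single, one_smul]
    rw [← h1, ← map_mul, ← map_mul, (hw g).eq]
  let f : Representation.IntertwiningMap ρ ρ :=
    { toLinearMap := L w
      isIntertwining' := by
        intro g
        exact hcomm g }
  obtain ⟨c, hc⟩ := (Representation.IsIrreducible.algebraMap_intertwiningMap_bijective_of_isAlgClosed (ρ := ρ)).2 f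
  have hLc : L w = algebraMap ℂ (Module.End ℂ (Fin n → ℂ)) c := by
    have h2 : f.toLinearMap = L w := rfl
    rw [← h2, ← hc]
    rfl
  refine ⟨c, ?_, hLc⟩
  have h3 : IsIntegral ℤ w := IsIntegral.of_finite ℤ w
  have h4 : IsIntegral ℤ (L w) := h3.map L
  rw [hLc] at h4
  have : Nontrivial (Module.End ℂ (Fin n → ℂ)) := by
    have : Nontrivial (Fin n → ℂ) := IsSimpleModule.nontrivial (MonoidAlgebra ℂ G) ρ.asModule
    infer_instance
  exact (isIntegral_algebraMap_iff (FaithfulSMul.algebraMap_injective ℂ _)).mp h4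

theorem nontrivial_of_irreducible {G : Type*} [Group G] {n : ℕ} (ρ : Representation ℂ G (Fin n → ℂ))
    (hρ : ρ.IsIrreducible) : Nontrivial (Fin n → ℂ) :=
  IsSimpleModule.nontrivial (MonoidAlgebra ℂ G) ρ.asModule

theorem pos_of_irreducible {G : Type*} [Group G] {n : ℕ} (ρ : Representation ℂ G (Fin n → ℂ))
    (hρ : ρ.IsIrreducible) : 0 < n := by
  have := nontrivial_of_irreducible ρ hρ
  rcases Nat.eq_zero_or_pos n with h | h
  · subst h
    exact absurd (Subsingleton.elim (Classical.choose (exists_pair_ne (Fin 0 → ℂ))) _)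
      (Classical.choose_spec (Classical.choose_spec (exists_pair_ne (Fin 0 → ℂ))))
  · exact h

/-- The class sum of `g` in `ℤ[G]`. -/
noncomputable def classSumZ {G : Type*} [Group G] (g : G) [Fintype {x : G | IsConj g x}] :
    MonoidAlgebra ℤ G :=
  ∑ x : {x : G | IsConj g x}, MonoidAlgebra.single (x : G) (1 : ℤ)

theorem classSumZ_def {G : Type*} [Group G] (g : G) [Fintype {x : G | IsConj g x}] :
    classSumZ g = ∑ x : {x : G | IsConj g x}, MonoidAlgebra.single (x : G) (1 : ℤ) := rfl

theorem commute_classSumZ {G : Type*} [Group G] (g : G) [Fintype {x : G | IsConj g x}] (y : G) :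
    Commute (MonoidAlgebra.single y (1 : ℤ)) (classSumZ g) := by
  rw [commute_iff_eq, classSumZ_def, Finset.mul_sum, Finset.sum_mul]
  let e : {x : G | IsConj g x} ≃ {x : G | IsConj g x} :=
    { toFun := fun x => ⟨y * x * y⁻¹, x.2.trans (isConj_iff.mpr ⟨y, rfl⟩)⟩
      invFun := fun x => ⟨y⁻¹ * x * y, x.2.trans (isConj_iff.mpr ⟨y⁻¹, by simp⟩)⟩
      left_inv := fun x => Subtype.ext (by simp [mul_assoc])
      right_inv := fun x => Subtype.ext (by simp [mul_assoc]) }
  rw [← Equiv.sum_comp e (fun x => (MonoidAlgebra.single (x : G) (1 : ℤ)) * MonoidAlgebra.single y (1 : ℤ))]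
  apply Finset.sum_congr rfl
  intro x _
  rw [MonoidAlgebra.single_mul_single, MonoidAlgebra.single_mul_single]
  congr 1
  change y * x = y * x * y⁻¹ * y
  group

/-- The class sum of `g` acts by the scalar `centralChar χ g`, an algebraic integer. -/
theorem lift_classSumZ {G : Type*} [Group G] [Finite G] {n : ℕ} (ρ : Representation ℂ G (Fin n → ℂ))
    (hρ : ρ.IsIrreducible) (g : G) [Fintype {x : G | IsConj g x}] :
    IsIntegral ℤ (centralChar ρ.character g) ∧
    MonoidAlgebra.lift ℤ (Module.End ℂ (Fin n → ℂ)) G ρ (classSumZ g) =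
      algebraMap ℂ (Module.End ℂ (Fin n → ℂ)) (centralChar ρ.character g) := by
  obtain ⟨c, hci, hc⟩ := exists_scalar ρ hρ (classSumZ g) (commute_classSumZ g)
  have key : centralChar ρ.character g = c := by
    have htr := congrArg (LinearMap.trace ℂ (Fin n → ℂ)) hc
    have h1 : LinearMap.trace ℂ (Fin n → ℂ)
        (MonoidAlgebra.lift ℤ (Module.End ℂ (Fin n → ℂ)) G ρ (classSumZ g)) =
        (Nat.card {x : G | IsConj g x} : ℂ) * ρ.character g := by
      rw [classSumZ_def, map_sum, map_sum]
      have : ∀ x ∈ (Finset.univ : Finset {x : G | IsConj g x}),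
          LinearMap.trace ℂ (Fin n → ℂ) (MonoidAlgebra.lift ℤ (Module.End ℂ (Fin n → ℂ)) G ρ
            (MonoidAlgebra.single (x : G) (1 : ℤ))) = ρ.character g := by
        intro x _
        rw [MonoidAlgebra.lift_single, one_smul]
        obtain ⟨y, hy⟩ := isConj_iff.mp x.2
        rw [← hy]
        exact ρ.char_conj g y
      rw [Finset.sum_congr rfl this]
      simp
    have h2 : LinearMap.trace ℂ (Fin n → ℂ) (algebraMap ℂ (Module.End ℂ (Fin n → ℂ)) c) = c * n := by
      rw [Algebra.algebraMap_eq_smul_one, map_smul, LinearMap.trace_one]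
      simp
    rw [h1, h2] at htr
    have hn : (n : ℂ) ≠ 0 := by exact_mod_cast (pos_of_irreducible ρ hρ).ne'
    unfold centralChar
    rw [index_centralizer, htr, Representation.char_one]
    simp only [Module.finrank_fintype_fun_eq_card, Fintype.card_fin]
    field_simp
  rw [key]
  exact ⟨hci, hc⟩

theorem isIntegral_centralChar {G : Type*} [Group G] [Finite G] {χ : G → ℂ} (hχ : IsIrrCharacter G χ)
    (g : G) : IsIntegral ℤ (centralChar χ g) := by
  obtain ⟨n, ρ, hρ, rfl⟩ := hχ
  have := Fintype.ofFinite {x : G | IsConj g x}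
  exact (lift_classSumZ ρ hρ g).1

/-- The central character of every irreducible character vanishes mod `M` on a class avoiding the
centralizer of a normal `p`-subgroup. -/
theorem pow_centralChar_eq {G : Type*} [Group G] [Finite G] {p : ℕ} [Fact p.Prime] {χ : G → ℂ}
    (hχ : IsIrrCharacter G χ) (P : Subgroup G) [P.Normal] (hP : IsPGroup p P) (g : G)
    (hg : g ∉ Subgroup.centralizer (P : Set G)) :
    ∃ (n : ℕ) (c : ℂ), IsIntegral ℤ c ∧ centralChar χ g ^ n = p * c := by
  obtain ⟨d, ρ, hρ, rfl⟩ := hχ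
  have := Fintype.ofFinite {x : G | IsConj g x}
  have : (Subgroup.centralizer (P : Set G)).Normal := Subgroup.normal_centralizer
  obtain ⟨n, w, hw⟩ := PCoreNilp.exists_pow_eq_smul P hP {x : G | IsConj g x}
    (fun x hx y => IsConj.trans hx (isConj_iff.mpr ⟨y, rfl⟩))
    (fun x hx hxP => hg (by
      obtain ⟨y, hy⟩ := isConj_iff.mp (IsConj.symm hx)
      rw [← hy]
      exact this.conj_mem x hxP y))
  rw [← classSumZ_def] at hw
  have hp : (p : ℕ) ≠ 0 := (Fact.out : p.Prime).ne_zero
  have hwc : ∀ y : G, Commute (MonoidAlgebra.single y (1 : ℤ)) w := by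
    intro y
    have h1 : Commute (MonoidAlgebra.single y (1 : ℤ)) (p • w) := by
      rw [← hw]
      exact (commute_classSumZ g y).pow_right n
    rw [commute_iff_eq, mul_smul_comm, smul_mul_assoc] at h1
    rw [commute_iff_eq]
    apply MonoidAlgebra.coeff_injective
    ext x
    have h2 := congrArg (fun f => MonoidAlgebra.coeff f x) h1
    simp only [MonoidAlgebra.coeff_smul, Finsupp.smul_apply] at h2
    exact smul_right_injective ℤ hp h2
  obtain ⟨c, hci, hc⟩ := exists_scalar ρ hρ w hwc
  refine ⟨n, c, hci, ?_⟩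
  have h3 := congrArg (MonoidAlgebra.lift ℤ (Module.End ℂ (Fin d → ℂ)) G ρ) hw
  rw [map_pow, (lift_classSumZ ρ hρ g).2, map_nsmul, hc, ← map_pow, ← map_nsmul] at h3
  have : Nontrivial (Fin d → ℂ) := nontrivial_of_irreducible ρ hρ
  have h4 := FaithfulSMul.algebraMap_injective ℂ (Module.End ℂ (Fin d → ℂ)) h3
  rw [h4, nsmul_eq_mul]

end Cfsg.Agent.Blocks.CentralScalar
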