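import Mathlib
set_option linter.all false

/-!
# Weighted fixed point lemma for `p`-groups

If a `p`-group `P` acts on a finite set `Ω` and `f : Ω → A` is constant on the orbits, then the sum
of `f` over `Ω` and the sum of `f` over the fixed points differ by a multiple of `p`.
-/

set_option autoImplicit false

namespace Cfsg.Agent.Blocks.OrbitSum

/-- Weighted fixed point lemma. -/
theorem sum_eq_sum_fixed_add_smul {P Ω A : Type*} [Group P] [MulAction P Ω] [Fintype Ω]
    [AddCommGroup A] {p : ℕ} [Fact p.Prime] (hP : IsPGroup p P) (f : Ω → A)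
    (hf : ∀ (u : P) (ω : Ω), f (u • ω) = f ω) [DecidablePred (· ∈ MulAction.fixedPoints P Ω)] :
    ∃ a : A, ∑ ω, f ω = (∑ ω ∈ Finset.univ.filter (· ∈ MulAction.fixedPoints P Ω), f ω) + p • a := by
  classical
  -- the fibre of `f` over `a` as a `P`-set
  have key : ∀ a : A, ∃ k : ℤ, ((Finset.univ.filter fun ω : Ω => f ω = a).card : ℤ) =
      ((Finset.univ.filter fun ω : Ω => ω ∈ MulAction.fixedPoints P Ω ∧ f ω = a).card : ℤ)
        + p * k := by
    intro a
    let Y := {ω : Ω // f ω = a}
    let _ : MulAction P Y :=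
      { smul := fun u y => ⟨u • (y : Ω), by rw [hf]; exact y.2⟩
        one_smul := fun y => Subtype.ext (one_smul P (y : Ω))
        mul_smul := fun u v y => Subtype.ext (mul_smul u v (y : Ω)) }
    have hcoe : ∀ (u : P) (y : Y), ((u • y : Y) : Ω) = u • (y : Ω) := fun _ _ => rfl
    have h := hP.card_modEq_card_fixedPoints Y
    have h1 : Nat.card Y = (Finset.univ.filter fun ω : Ω => f ω = a).card := by
      rw [Nat.card_eq_fintype_card, Fintype.card_subtype]
    have h2 : Nat.card (MulAction.fixedPoints P Y) =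
        (Finset.univ.filter fun ω : Ω => ω ∈ MulAction.fixedPoints P Ω ∧ f ω = a).card := by
      rw [← Fintype.card_subtype, ← Nat.card_eq_fintype_card]
      refine Nat.card_congr ⟨fun y => ⟨(y : Y), fun u => ?_, y.1.2⟩,
        fun ω => ⟨⟨ω, ω.2.2⟩, fun u => ?_⟩, fun _ => rfl, fun _ => rfl⟩
      · rw [← hcoe, y.2 u]
      · exact Subtype.ext (ω.2.1 u)
    rw [h1, h2] at h
    obtain ⟨k, hk⟩ := h.symm.dvd
    exact ⟨k, by linarith⟩
  choose k hk using key
  refine ⟨∑ a ∈ Finset.univ.image f, k a • a, ?_⟩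
  have e1 : ∑ ω, f ω = ∑ a ∈ Finset.univ.image f,
      ((Finset.univ.filter fun ω : Ω => f ω = a).card : ℤ) • a := by
    rw [← Finset.sum_fiberwise_of_maps_to (s := Finset.univ) (t := Finset.univ.image f) (g := f)
      (fun x hx => Finset.mem_image_of_mem _ hx)]
    refine Finset.sum_congr rfl fun a _ => ?_
    rw [Finset.sum_congr rfl (g := fun _ => a) (fun x hx => (Finset.mem_filter.1 hx).2),
      Finset.sum_const, natCast_zsmul]
  have e2 : ∑ ω ∈ Finset.univ.filter (· ∈ MulAction.fixedPoints P Ω), f ω =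
      ∑ a ∈ Finset.univ.image f, ((Finset.univ.filter fun ω : Ω =>
        ω ∈ MulAction.fixedPoints P Ω ∧ f ω = a).card : ℤ) • a := by
    rw [← Finset.sum_fiberwise_of_maps_to (s := Finset.univ.filter
      (· ∈ MulAction.fixedPoints P Ω)) (t := Finset.univ.image f) (g := f)
      (fun x hx => Finset.mem_image_of_mem _ (Finset.mem_univ x))]
    refine Finset.sum_congr rfl fun a _ => ?_
    rw [Finset.sum_congr rfl (g := fun _ => a) (fun x hx => (Finset.mem_filter.1 hx).2),
      Finset.sum_const, natCast_zsmul, Finset.filter_filter]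
  rw [e1, e2, Finset.smul_sum, ← Finset.sum_add_distrib]
  refine Finset.sum_congr rfl fun a _ => ?_
  rw [hk a, add_smul, mul_smul, natCast_zsmul (k a • a) p]

/-- If there are no fixed points, the sum is a multiple of `p`. -/
theorem sum_eq_smul_of_no_fixed {P Ω A : Type*} [Group P] [MulAction P Ω] [Fintype Ω]
    [AddCommGroup A] {p : ℕ} [Fact p.Prime] (hP : IsPGroup p P) (f : Ω → A)
    (hf : ∀ (u : P) (ω : Ω), f (u • ω) = f ω) (h : ∀ ω : Ω, ω ∉ MulAction.fixedPoints P Ω) :
    ∃ a : A, ∑ ω, f ω = p • a := by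
  classical
  obtain ⟨a, ha⟩ := sum_eq_sum_fixed_add_smul hP f hf
  refine ⟨a, ?_⟩
  rw [ha, Finset.filter_false_of_mem (fun ω _ => h ω), Finset.sum_empty, zero_add]

/-- Conjugation version: `P` a `p`-subgroup of the finite group `G`, `f : G → A` invariant under
conjugation by `P`: the sum of `f` over `G` is congruent mod `p` to the sum over `C_G(P)`. -/
theorem sum_eq_sum_centralizer_add_smul {G A : Type*} [Group G] [Fintype G] [AddCommGroup A]
    {p : ℕ} [Fact p.Prime] (P : Subgroup G) (hP : IsPGroup p P) (f : G → A)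
    (hf : ∀ u ∈ P, ∀ x : G, f (u * x * u⁻¹) = f x)
    [DecidablePred (· ∈ Subgroup.centralizer (P : Set G))] :
    ∃ a : A, ∑ x, f x =
      (∑ x ∈ Finset.univ.filter (· ∈ Subgroup.centralizer (P : Set G)), f x) + p • a := by
  classical
  let _ : MulAction P G :=
    { smul := fun u x => (u : G) * x * (u : G)⁻¹
      one_smul := fun x => by change ((1 : P) : G) * x * ((1 : P) : G)⁻¹ = x; simp
      mul_smul := fun u v x => by
        change ((u * v : P) : G) * x * ((u * v : P) : G)⁻¹ =
          (u : G) * ((v : G) * x * (v : G)⁻¹) * (u : G)⁻¹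
        push_cast
        group }
  have hsmul : ∀ (u : P) (x : G), u • x = (u : G) * x * (u : G)⁻¹ := fun _ _ => rfl
  obtain ⟨a, ha⟩ := sum_eq_sum_fixed_add_smul hP f (fun u x => by
    rw [hsmul]; exact hf u u.2 x)
  refine ⟨a, ?_⟩
  rw [ha]
  congr 1
  refine Finset.sum_congr (Finset.filter_congr fun x _ => ?_) fun _ _ => rfl
  rw [Subgroup.mem_centralizer_iff]
  constructor
  · intro h u hu
    have := h ⟨u, hu⟩
    rw [hsmul] at this
    exact mul_inv_eq_iff_eq_mul.1 this
  · intro h u
    rw [hsmul]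
    exact mul_inv_eq_iff_eq_mul.2 (h u u.2)

/-- Conjugation version on a conjugation-stable finite set disjoint from `C_G(P)`. -/
theorem sum_eq_smul_of_disjoint_centralizer {G A : Type*} [Group G] [AddCommGroup A]
    {p : ℕ} [Fact p.Prime] (P : Subgroup G) (hP : IsPGroup p P) (X : Finset G)
    (hX : ∀ u ∈ P, ∀ x ∈ X, u * x * u⁻¹ ∈ X)
    (hXC : ∀ x ∈ X, x ∉ Subgroup.centralizer (P : Set G)) (f : G → A)
    (hf : ∀ u ∈ P, ∀ x ∈ X, f (u * x * u⁻¹) = f x) :
    ∃ a : A, ∑ x ∈ X, f x = p • a := by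
  classical
  let _ : MulAction P X :=
    { smul := fun u x => ⟨(u : G) * x * (u : G)⁻¹, hX u u.2 x x.2⟩
      one_smul := fun x => Subtype.ext (by
        change ((1 : P) : G) * x * ((1 : P) : G)⁻¹ = x; simp)
      mul_smul := fun u v x => Subtype.ext (by
        change ((u * v : P) : G) * x * ((u * v : P) : G)⁻¹ =
          (u : G) * ((v : G) * x * (v : G)⁻¹) * (u : G)⁻¹
        push_cast
        group) }
  have hsmul : ∀ (u : P) (x : X), ((u • x : X) : G) = (u : G) * x * (u : G)⁻¹ := fun _ _ => rfl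
  obtain ⟨a, ha⟩ := sum_eq_smul_of_no_fixed (Ω := X) hP (fun x => f x) (fun u x => by
    simp only [hsmul]; exact hf u u.2 x x.2) (by
      intro x hx
      apply hXC x x.2
      rw [Subgroup.mem_centralizer_iff]
      intro u hu
      have := congrArg Subtype.val (hx ⟨u, hu⟩)
      rw [hsmul] at this
      exact mul_inv_eq_iff_eq_mul.1 this)
  exact ⟨a, by rw [← ha, Finset.sum_coe_sort X f]⟩

end Cfsg.Agent.Blocks.OrbitSum
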