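import Mathlib
import Cfsg.Prelude.Def_Blocks
import Cfsg.Agent.Blocks.Local
import Cfsg.Agent.Blocks.Basic
import Cfsg.Agent.Blocks.ConvCentral
import Cfsg.Agent.Blocks.SepCentral
import Cfsg.Agent.Blocks.CentralScalar
import Cfsg.Agent.Blocks.OrbitSum
set_option linter.all false

/-!
# The Brauer map

`P` a `p`-subgroup of the finite group `G`, `P C_G(P) ≤ H ≤ N_G(P)`.

* `inducedCentralChar_sub_brauerCentralChar`: for `ξ ∈ Irr(H)` the induced central character and the
  Brauer central character agree modulo `M`.
* `br P H f`: the Brauer map on functions, `f : G → ℂ` restricted to `C_G(P)`, as a function on `H`.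
* `memLocalIdeal_br_conv`: it is multiplicative modulo `p` (seen through the central characters
  of `H`).
-/

set_option autoImplicit false

namespace Cfsg.Agent.Blocks.BrauerMap

open Cfsg
open Cfsg.Agent.Blocks.Local
open Cfsg.Agent.Blocks.ConvCentral (conv conv_apply lin lin_def lin_conv irr_one_ne_zero classInd
  classInd_of_isConj classInd_of_not isClassFunction_classInd isClassFunction_conv isConj_conj_iff
  lin_classInd isIntegral_centralChar)
open Cfsg.Agent.Blocks.SepCentral (exists_reps)
open Cfsg.Agent.Blocks.Induced (isClassFunction_of_isIrrCharacter)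

section NormalP

variable {K : Type*} [Group K] [Finite K] {p : ℕ} [Fact p.Prime] {M : Ideal AlgInt}

/-- The central character of an irreducible character at an element not centralizing a given normal
`p`-subgroup lies in the local ideal. -/
theorem memLocalIdeal_centralChar_of_notMem (hM : IsPModular p M) {χ : K → ℂ}
    (hχ : IsIrrCharacter K χ) (Q : Subgroup K) [Q.Normal] (hQ : IsPGroup p Q) (k : K)
    (hk : k ∉ Subgroup.centralizer (Q : Set K)) : MemLocalIdeal M (centralChar χ k) := by
  have := isPrime_of_isPModular hM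
  obtain ⟨n, c, hc, h⟩ := Cfsg.Agent.Blocks.CentralScalar.pow_centralChar_eq hχ Q hQ k hk
  have hint : MemLocalRing M (centralChar χ k) :=
    memLocalRing_of_isIntegral (Cfsg.Agent.Blocks.CentralScalar.isIntegral_centralChar hχ k)
  refine memLocalIdeal_of_pow hint (n := n) ?_
  rw [h]
  exact memLocalIdeal_mul_right (memLocalIdeal_p hM) (memLocalRing_of_isIntegral hc)

end NormalP

section SetSum

open Classical in
/-- The indicator function of a set. -/
noncomputable def ind {K : Type*} (S : Set K) (x : K) : ℂ := if x ∈ S then 1 else 0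

theorem ind_of_mem {K : Type*} {S : Set K} {x : K} (h : x ∈ S) : ind S x = 1 := by
  unfold ind
  exact if_pos h

theorem ind_of_notMem {K : Type*} {S : Set K} {x : K} (h : x ∉ S) : ind S x = 0 := by
  unfold ind
  exact if_neg h

theorem isIntegral_ind {K : Type*} (S : Set K) (x : K) : IsIntegral ℤ (ind S x) := by
  by_cases h : x ∈ S
  · rw [ind_of_mem h]; exact isIntegral_one
  · rw [ind_of_notMem h]; exact isIntegral_zero

theorem finsum_mem_eq_lin {K : Type*} [Group K] [Fintype K] (ξ : K → ℂ) (S : Set K) :
    ∑ᶠ h ∈ S, ξ h / ξ 1 = lin ξ (ind S) / ξ 1 := by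
  classical
  rw [finsum_mem_eq_finite_toFinset_sum _ (Set.toFinite _), lin_def, Finset.sum_div]
  rw [← Finset.sum_subset (Finset.subset_univ (Set.toFinite S).toFinset)]
  · refine Finset.sum_congr rfl fun x hx => ?_
    rw [ind_of_mem (by simpa using hx), one_mul]
  · intro x _ hx
    rw [ind_of_notMem (by simpa using hx), zero_mul, zero_div]

theorem isClassFunction_ind {K : Type*} [Group K] {S : Set K}
    (hS : ∀ x ∈ S, ∀ y : K, y * x * y⁻¹ ∈ S) : IsClassFunction K (ind S) := by
  intro x y
  by_cases hx : x ∈ S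
  · rw [ind_of_mem hx, ind_of_mem (hS x hx y)]
  · rw [ind_of_notMem hx, ind_of_notMem]
    intro h
    apply hx
    have := hS _ h y⁻¹
    rwa [show y⁻¹ * (y * x * y⁻¹) * y⁻¹⁻¹ = x by group] at this

end SetSum

section Brauer

variable {G : Type*} [Group G] (P H : Subgroup G)

/-- The Brauer map on functions. -/
noncomputable def br (f : G → ℂ) (h : H) : ℂ := ind (Subgroup.centralizer (P : Set G) : Set G) h * f h

theorem br_def (f : G → ℂ) (h : H) :
    br P H f h = ind (Subgroup.centralizer (P : Set G) : Set G) h * f h := rfl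

theorem br_of_mem (f : G → ℂ) {h : H} (hh : (h : G) ∈ Subgroup.centralizer (P : Set G)) :
    br P H f h = f h := by
  rw [br_def, ind_of_mem hh, one_mul]

theorem br_of_notMem (f : G → ℂ) {h : H} (hh : (h : G) ∉ Subgroup.centralizer (P : Set G)) :
    br P H f h = 0 := by
  rw [br_def, ind_of_notMem hh, zero_mul]

theorem br_add (f f' : G → ℂ) (h : H) : br P H (f + f') h = br P H f h + br P H f' h := by
  rw [br_def, br_def, br_def, Pi.add_apply, mul_add]

theorem br_smul (c : ℂ) (f : G → ℂ) (h : H) : br P H (c • f) h = c * br P H f h := by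
  rw [br_def, br_def, Pi.smul_apply, smul_eq_mul]
  ring

variable {P H}

/-- Conjugation by elements normalizing `P` preserves `C_G(P)`. -/
theorem conj_mem_centralizer {n : G} (hn : n ∈ Subgroup.normalizer (P : Set G)) {x : G}
    (hx : x ∈ Subgroup.centralizer (P : Set G)) :
    n * x * n⁻¹ ∈ Subgroup.centralizer (P : Set G) := by
  rw [Subgroup.mem_centralizer_iff] at hx ⊢
  intro u hu
  have h1 : n⁻¹ * u * n ∈ P := by
    have hn' := Subgroup.inv_mem _ hn
    rw [Subgroup.mem_normalizer_iff] at hn'
    have := (hn' u).1 hu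
    rwa [inv_inv] at this
  have h2 := hx _ h1
  calc u * (n * x * n⁻¹) = n * ((n⁻¹ * u * n) * x) * n⁻¹ := by group
    _ = n * (x * (n⁻¹ * u * n)) * n⁻¹ := by rw [h2]
    _ = n * x * n⁻¹ * u := by group

theorem isClassFunction_br (hHN : H ≤ Subgroup.normalizer (P : Set G)) {f : G → ℂ}
    (hf : IsClassFunction G f) : IsClassFunction H (br P H f) := by
  intro x y
  by_cases hx : (x : G) ∈ Subgroup.centralizer (P : Set G)
  · rw [br_of_mem P H f hx, br_of_mem]
    · push_cast
      exact hf _ _
    · push_cast
      exact conj_mem_centralizer (hHN y.2) hx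
  · rw [br_of_notMem P H f hx, br_of_notMem]
    intro h
    apply hx
    push_cast at h
    have := conj_mem_centralizer (Subgroup.inv_mem _ (hHN y.2)) h
    rwa [show (y : G)⁻¹ * ((y : G) * x * (y : G)⁻¹) * (y : G)⁻¹⁻¹ = x by group] at this

theorem isIntegral_br {f : G → ℂ} (hf : ∀ g, IsIntegral ℤ (f g)) (h : H) :
    IsIntegral ℤ (br P H f h) := by
  rw [br_def]
  exact (isIntegral_ind _ _).mul (hf _)

/-- The Brauer central character is the central character composed with the Brauer map. -/
theorem brauerCentralChar_eq_lin [Fintype H] (ξ : H → ℂ) (g : G) :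
    brauerCentralChar P H ξ g = lin ξ (br P H (ind {x | IsConj g x})) / ξ 1 := by
  unfold brauerCentralChar
  rw [finsum_mem_eq_lin]
  congr 2
  funext h
  by_cases h1 : IsConj g (h : G)
  · by_cases h2 : (h : G) ∈ Subgroup.centralizer (P : Set G)
    · rw [ind_of_mem (show h ∈ {h : H | IsConj g (h : G) ∧
          (h : G) ∈ Subgroup.centralizer (P : Set G)} from ⟨h1, h2⟩), br_of_mem P H _ h2,
        ind_of_mem (show (h : G) ∈ {x | IsConj g x} from h1)]
    · rw [ind_of_notMem (fun hh => h2 hh.2), br_of_notMem P H _ h2]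
  · rw [ind_of_notMem (fun hh => h1 hh.1), br_def,
      ind_of_notMem (show (h : G) ∉ {x | IsConj g x} from h1), mul_zero]

variable [Finite G] {p : ℕ} [Fact p.Prime] {M : Ideal AlgInt}

/-- For `P C_G(P) ≤ H ≤ N_G(P)`, the induced central character and the Brauer central character
agree modulo the local ideal. -/
theorem inducedCentralChar_sub_brauerCentralChar (hM : IsPModular p M) (hP : IsPGroup p P)
    (hPH : P ≤ H) (hHN : H ≤ Subgroup.normalizer (P : Set G)) {ξ : H → ℂ}
    (hξ : IsIrrCharacter H ξ) (g : G) :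
    MemLocalIdeal M (inducedCentralChar H ξ g - brauerCentralChar P H ξ g) := by
  classical
  have := Fintype.ofFinite H
  have hprime := isPrime_of_isPModular hM
  obtain ⟨s, hs⟩ := exists_reps H
  have hξc := isClassFunction_of_isIrrCharacter hξ
  unfold inducedCentralChar brauerCentralChar
  rw [finsum_mem_eq_lin, finsum_mem_eq_lin]
  rw [hs ξ _ hξc (isClassFunction_ind (by
    intro x hx y
    have hx' : IsConj g (x : G) := hx
    change IsConj g ((y * x * y⁻¹ : H) : G)
    push_cast
    exact isConj_conj_iff.2 hx'))]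
  rw [hs ξ _ hξc (isClassFunction_ind (by
    rintro x ⟨hx, hx'⟩ y
    refine ⟨?_, ?_⟩
    · push_cast
      exact isConj_conj_iff.2 hx
    · push_cast
      exact conj_mem_centralizer (hHN y.2) hx'))]
  rw [← Finset.sum_sub_distrib]
  refine memLocalIdeal_sum fun h _ => ?_
  rw [← sub_mul]
  by_cases h2 : (h : G) ∈ Subgroup.centralizer (P : Set G)
  · have : ind {h : H | IsConj g (h : G)} h =
        ind {h : H | IsConj g (h : G) ∧ (h : G) ∈ Subgroup.centralizer (P : Set G)} h := by
      by_cases h1 : IsConj g (h : G)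
      · rw [ind_of_mem (show h ∈ {h : H | IsConj g (h : G)} from h1),
          ind_of_mem (show h ∈ {h : H | IsConj g (h : G) ∧
            (h : G) ∈ Subgroup.centralizer (P : Set G)} from ⟨h1, h2⟩)]
      · rw [ind_of_notMem (show h ∉ {h : H | IsConj g (h : G)} from h1),
          ind_of_notMem (fun hh => h1 hh.1)]
    rw [this, sub_self, zero_mul]
    exact memLocalIdeal_zero
  · refine memLocalIdeal_mul_left (memLocalRing_sub (memLocalRing_of_isIntegral (isIntegral_ind _ _))
      (memLocalRing_of_isIntegral (isIntegral_ind _ _))) ?_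
    have hn : (P.subgroupOf H).Normal := by
      constructor
      intro u hu y
      rw [Subgroup.mem_subgroupOf] at hu ⊢
      have := (Subgroup.mem_normalizer_iff.1 (hHN y.2) u).1 hu
      push_cast
      exact this
    refine memLocalIdeal_centralChar_of_notMem hM hξ (P.subgroupOf H) ?_ h ?_
    · exact hP.of_equiv (Subgroup.subgroupOfEquivOfLe hPH).symm
    · intro hh
      apply h2
      rw [Subgroup.mem_centralizer_iff] at hh ⊢
      intro u hu
      have := hh ⟨u, hPH hu⟩ (by exact Subgroup.mem_subgroupOf.2 hu)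
      exact congrArg Subtype.val this

/-- Members of the same block of `H` have congruent Brauer central characters. -/
theorem brauerCentralChar_sub (hM : M.IsPrime) (hHN : H ≤ Subgroup.normalizer (P : Set G))
    {ξ η : H → ℂ} (hξ : IsIrrCharacter H ξ) (hη : IsIrrCharacter H η) (h : SameBlock M ξ η)
    (g : G) : MemLocalIdeal M (brauerCentralChar P H ξ g - brauerCentralChar P H η g) := by
  classical
  have := Fintype.ofFinite H
  obtain ⟨s, hs⟩ := exists_reps H
  have hcf : IsClassFunction G (ind {x : G | IsConj g x}) := isClassFunction_ind (by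
    intro x hx y
    exact isConj_conj_iff.2 hx)
  rw [brauerCentralChar_eq_lin, brauerCentralChar_eq_lin,
    hs ξ _ (isClassFunction_of_isIrrCharacter hξ) (isClassFunction_br hHN hcf),
    hs η _ (isClassFunction_of_isIrrCharacter hη) (isClassFunction_br hHN hcf),
    ← Finset.sum_sub_distrib]
  refine memLocalIdeal_sum fun x _ => ?_
  rw [← mul_sub]
  exact memLocalIdeal_mul_left (memLocalRing_of_isIntegral (isIntegral_br (isIntegral_ind _) x))
    (h x)

omit [Finite G] in
/-- The Brauer map is multiplicative modulo `p` on functions that are class functions. -/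
theorem exists_br_conv [Fintype G] [Fintype H] (hP : IsPGroup p P)
    (hCH : Subgroup.centralizer (P : Set G) ≤ H)
    {f f' : G → ℂ} (hf : IsClassFunction G f) (hf' : IsClassFunction G f')
    (hfi : ∀ g, IsIntegral ℤ (f g)) (hfi' : ∀ g, IsIntegral ℤ (f' g)) (c : H) :
    ∃ a : AlgInt, br P H (conv f f') c - conv (br P H f) (br P H f') c = p * (a : ℂ) := by
  classical
  by_cases hc : (c : G) ∈ Subgroup.centralizer (P : Set G)
  · -- the sum over `G` versus the sum over `C_G(P)`
    obtain ⟨a, ha⟩ := Cfsg.Agent.Blocks.OrbitSum.sum_eq_sum_centralizer_add_smul (p := p) P hP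
      (fun x : G => (⟨f x * f' (x⁻¹ * c), (hfi _).mul (hfi' _)⟩ : AlgInt)) (by
        intro u hu x
        apply Subtype.ext
        change f (u * x * u⁻¹) * f' ((u * x * u⁻¹)⁻¹ * c) = f x * f' (x⁻¹ * c)
        rw [hf x u]
        have hcu : u * (c : G) = c * u := Subgroup.mem_centralizer_iff.1 hc u hu
        have : (u * x * u⁻¹)⁻¹ * c = u * (x⁻¹ * c) * u⁻¹ := by
          calc (u * x * u⁻¹)⁻¹ * c = u * x⁻¹ * u⁻¹ * (c * u) * u⁻¹ := by group
            _ = u * x⁻¹ * u⁻¹ * (u * c) * u⁻¹ := by rw [hcu]
            _ = u * (x⁻¹ * c) * u⁻¹ := by group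
        rw [this, hf'])
    refine ⟨a, ?_⟩
    have h1 := congrArg (fun z : AlgInt => (z : ℂ)) ha
    simp only [nsmul_eq_mul] at h1
    push_cast at h1
    have h2 : conv f f' (c : G) = ∑ x : G, f x * f' (x⁻¹ * c) := rfl
    rw [br_of_mem P H _ hc, h2, h1]
    have h3 : conv (br P H f) (br P H f') c =
        ∑ x ∈ Finset.univ.filter (· ∈ Subgroup.centralizer (P : Set G)), f x * f' (x⁻¹ * c) := by
      rw [conv_apply]
      symm
      refine Finset.sum_bij_ne_zero (fun x hx _ => ⟨x, hCH (Finset.mem_filter.1 hx).2⟩)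
        (fun _ _ _ => Finset.mem_univ _) (fun x hx _ y hy _ h => congrArg Subtype.val h) ?_ ?_
      · intro x _ hx0
        have hxC : (x : G) ∈ Subgroup.centralizer (P : Set G) := by
          by_contra hcon
          apply hx0
          rw [br_of_notMem P H f hcon, zero_mul]
        refine ⟨x, by simp only [Finset.mem_filter, Finset.mem_univ, true_and]; exact hxC, ?_, rfl⟩
        have hxc : ((x⁻¹ * c : H) : G) ∈ Subgroup.centralizer (P : Set G) := by
          push_cast
          exact Subgroup.mul_mem _ (Subgroup.inv_mem _ hxC) hc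
        rw [br_of_mem P H f hxC, br_of_mem P H f' hxc] at hx0
        push_cast at hx0
        exact hx0
      · intro x hx _
        have hxC := (Finset.mem_filter.1 hx).2
        have hxc : (((⟨x, hCH hxC⟩ : H)⁻¹ * c : H) : G) ∈ Subgroup.centralizer (P : Set G) := by
          push_cast
          exact Subgroup.mul_mem _ (Subgroup.inv_mem _ hxC) hc
        rw [br_of_mem P H f (h := ⟨x, hCH hxC⟩) hxC, br_of_mem P H f' hxc]
        push_cast
        rfl
    rw [h3]
    ring
  · refine ⟨0, ?_⟩
    have h3 : conv (br P H f) (br P H f') c = 0 := by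
      rw [conv_apply]
      refine Finset.sum_eq_zero fun x _ => ?_
      by_cases hx : (x : G) ∈ Subgroup.centralizer (P : Set G)
      · rw [br_of_notMem P H f' (h := x⁻¹ * c), mul_zero]
        intro h
        apply hc
        push_cast at h
        have := Subgroup.mul_mem _ hx h
        rwa [mul_inv_cancel_left] at this
      · rw [br_of_notMem P H f hx, zero_mul]
    rw [br_of_notMem P H _ hc, h3]
    simp

omit [Finite G] in
/-- The Brauer map composed with the central character of `ξ ∈ Irr(H)` is multiplicative modulo the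
local ideal. -/
theorem memLocalIdeal_br_conv [Fintype G] [Fintype H] (hM : IsPModular p M) (hP : IsPGroup p P)
    (hCH : Subgroup.centralizer (P : Set G) ≤ H) (hHN : H ≤ Subgroup.normalizer (P : Set G))
    {ξ : H → ℂ} (hξ : IsIrrCharacter H ξ)
    {f f' : G → ℂ} (hf : IsClassFunction G f) (hf' : IsClassFunction G f')
    (hfi : ∀ g, IsIntegral ℤ (f g)) (hfi' : ∀ g, IsIntegral ℤ (f' g)) :
    MemLocalIdeal M (lin ξ (br P H (conv f f')) / ξ 1 -
      (lin ξ (br P H f) / ξ 1) * (lin ξ (br P H f') / ξ 1)) := by
  classical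
  have hprime := isPrime_of_isPModular hM
  have hξ1 := irr_one_ne_zero hξ
  have h1 : (lin ξ (br P H f) / ξ 1) * (lin ξ (br P H f') / ξ 1) =
      lin ξ (conv (br P H f) (br P H f')) / ξ 1 := by
    rw [div_mul_div_comm, ← lin_conv hξ (isClassFunction_br hHN hf), mul_div_mul_right _ _ hξ1]
  obtain ⟨s, hs⟩ := exists_reps H
  have hξc := isClassFunction_of_isIrrCharacter hξ
  rw [h1, hs ξ _ hξc (isClassFunction_br hHN (isClassFunction_conv hf hf')),
    hs ξ _ hξc (isClassFunction_conv (isClassFunction_br hHN hf) (isClassFunction_br hHN hf')),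
    ← Finset.sum_sub_distrib]
  refine memLocalIdeal_sum fun c _ => ?_
  obtain ⟨a, ha⟩ := exists_br_conv (p := p) hP hCH hf hf' hfi hfi' c
  rw [← sub_mul, ha]
  exact memLocalIdeal_mul_right (memLocalIdeal_mul_right (memLocalIdeal_p hM)
    (memLocalRing_algInt a)) (memLocalRing_of_isIntegral (isIntegral_centralChar hξ c))

end Brauer

end Cfsg.Agent.Blocks.BrauerMap
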