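import Mathlib
import Cfsg.Prelude.Def_Blocks
import Cfsg.Agent.Blocks.Basic
import Cfsg.Agent.Blocks.GroupAlg
import Cfsg.Agent.Blocks.Twist
set_option linter.all false

/-!
# The Second Main Theorem, idempotent form

Given: the idempotent coefficients of the blocks involved are local integers (Osima).
-/

set_option autoImplicit false
set_option linter.unusedSectionVars false

open scoped ComplexConjugate
open Cfsg Cfsg.Agent.Characters.Core Cfsg.Agent.Blocks.LocalRing Cfsg.Agent.Blocks.GroupAlg
  Cfsg.Agent.Blocks.Twist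

namespace Cfsg.Agent.Blocks.SecondMain

variable {p : ℕ} {M : Ideal AlgInt} {G : Type*} [Group G]

/-! ### Existence of the p-part -/

theorem exists_isPPart [Finite G] (hp : p.Prime) (g : G) : ∃ x, IsPPart p g x := by
  have hn : orderOf g ≠ 0 := (orderOf_pos g).ne'
  obtain ⟨k, m, hm, hnk⟩ := Nat.exists_eq_pow_mul_and_not_dvd hn p hp.ne_one
  have hcop : IsCoprime (m : ℤ) ((p ^ k : ℕ) : ℤ) := by
    rw [Nat.isCoprime_iff_coprime]
    exact (Nat.Coprime.pow_left k ((Nat.Prime.coprime_iff_not_dvd hp).2 hm)).symm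
  obtain ⟨u, v, huv⟩ := hcop
  refine ⟨g ^ (u * m), g ^ (v * (p ^ k : ℕ)), ?_, ?_, ?_, ?_⟩
  · rw [← zpow_add, huv, zpow_one]
  · exact (Commute.refl g).zpow_zpow _ _
  · have h1 : (g ^ (u * (m : ℤ))) ^ (p ^ k) = 1 := by
      rw [← zpow_natCast, ← zpow_mul, mul_assoc, mul_comm (m : ℤ), ← Nat.cast_mul, ← hnk,
        mul_comm, zpow_mul, zpow_natCast, pow_orderOf_eq_one, one_zpow]
    obtain ⟨j, _, hj⟩ := (Nat.dvd_prime_pow hp).1 (orderOf_dvd_of_pow_eq_one h1)
    exact ⟨j, hj⟩
  · have h1 : (g ^ (v * ((p ^ k : ℕ) : ℤ))) ^ m = 1 := by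
      rw [← zpow_natCast, ← zpow_mul, mul_assoc, ← Nat.cast_mul, ← hnk,
        mul_comm, zpow_mul, zpow_natCast, pow_orderOf_eq_one, one_zpow]
    exact fun h => hm (h.trans (orderOf_dvd_of_pow_eq_one h1))

/-! ### Central elements with all central characters in the local ideal are nilpotent mod `J` -/

/-- A central element over the local ring all of whose central characters are in the local ideal
is nilpotent modulo the local ideal. -/
theorem exists_memJ_pow [Finite G] (hM : IsPModular p M) {z : MonoidAlgebra ℂ G}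
    (hz : z ∈ Subalgebra.center ℂ (MonoidAlgebra ℂ G)) (hzR : MemR M z)
    (h : ∀ ξ : G → ℂ, IsIrrCharacter G ξ → MemLocalIdeal M (omega ξ z)) :
    ∃ m : ℕ, MemJ M (z ^ m) := by
  classical
  have := finite_irr (G := G)
  have := Fintype.ofFinite (IrrCharacter G)
  have key : ∀ S : Finset (IrrCharacter G),
      MemJ M (Polynomial.aeval z (∏ ξ ∈ S, (Polynomial.X - Polynomial.C
        (omega (ξ : G → ℂ) z))) - z ^ S.card) := by
    intro S
    induction S using Finset.induction_on with
    | empty => simpa using memJ_zero hM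
    | insert ξ S hξ ih =>
      rw [Finset.prod_insert hξ, Finset.card_insert_of_notMem hξ, map_mul]
      set Q := Polynomial.aeval z (∏ ξ ∈ S, (Polynomial.X - Polynomial.C
        (omega (ξ : G → ℂ) z))) with hQ
      set c := omega (ξ : G → ℂ) z with hc
      have hcI : MemLocalIdeal M c := h _ ξ.2
      have h1 : Polynomial.aeval z (Polynomial.X - Polynomial.C c) = z - c • 1 := by
        rw [map_sub, Polynomial.aeval_X, Polynomial.aeval_C, Algebra.algebraMap_eq_smul_one]
      have hQR : MemR M Q := by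
        have h2 := memR_add hM ih.memR (memR_pow hM hzR S.card)
        rwa [sub_add_cancel] at h2
      have h3 : (z - c • 1) * Q - z ^ (S.card + 1) = z * (Q - z ^ S.card) - c • Q := by
        rw [pow_succ', sub_mul, mul_sub, smul_mul_assoc, one_mul]
        abel
      rw [h1, h3]
      exact memJ_sub hM (memJ_mul_left hM hzR ih) (memJ_smul hM hcI hQR)
  have h0 : Polynomial.aeval z (∏ ξ : IrrCharacter G, (Polynomial.X - Polynomial.C
        (omega (ξ : G → ℂ) z))) = 0 := by
    refine eq_zero_of_omega ?_ fun χ hχ => ?_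
    · have h2 := Polynomial.aeval_algHom_apply (Subalgebra.center ℂ (MonoidAlgebra ℂ G)).val
        (⟨z, hz⟩ : Subalgebra.center ℂ (MonoidAlgebra ℂ G)) (∏ ξ : IrrCharacter G,
          (Polynomial.X - Polynomial.C (omega (ξ : G → ℂ) z)))
      change Polynomial.aeval z _ = _ at h2
      rw [h2]
      exact SetLike.coe_mem _
    · rw [omega_aeval hχ hz, Polynomial.eval_prod]
      exact Finset.prod_eq_zero (Finset.mem_univ (⟨χ, hχ⟩ : IrrCharacter G)) (by simp)
  have h1 := key Finset.univ
  rw [h0, zero_sub] at h1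
  refine ⟨(Finset.univ : Finset (IrrCharacter G)).card, fun s => ?_⟩
  have := h1 s
  rw [MonoidAlgebra.coeff_neg, Finsupp.neg_apply, memLocalIdeal_neg_iff] at this
  exact this

/-! ### Extension and restriction between a subgroup and the group -/

section Sub

variable (H : Subgroup G)

/-- The embedding of the group algebra of a subgroup. -/
noncomputable def ext : MonoidAlgebra ℂ H →+* MonoidAlgebra ℂ G :=
  MonoidAlgebra.mapDomainRingHom ℂ H.subtype

theorem ext_single (k : H) (r : ℂ) :
    ext H (MonoidAlgebra.single k r) = MonoidAlgebra.single (k : G) r :=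
  MonoidAlgebra.mapDomain_single

theorem coeff_ext (a : MonoidAlgebra ℂ H) :
    (ext H a).coeff = Finsupp.mapDomain (H.subtype) a.coeff := rfl

theorem coeff_ext_coe (a : MonoidAlgebra ℂ H) (k : H) : (ext H a).coeff (k : G) = a.coeff k := by
  rw [coeff_ext]
  exact Finsupp.mapDomain_apply H.subtype_injective _ _

theorem coeff_ext_of_notMem (a : MonoidAlgebra ℂ H) {g : G} (hg : g ∉ H) :
    (ext H a).coeff g = 0 := by
  rw [coeff_ext]
  apply Finsupp.mapDomain_of_notMem_range
  rintro ⟨k, rfl⟩
  exact hg k.2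

theorem memR_ext (hM : IsPModular p M) {a : MonoidAlgebra ℂ H} (ha : MemR M a) :
    MemR M (ext H a) := by
  intro g
  by_cases hg : g ∈ H
  · have := coeff_ext_coe H a ⟨g, hg⟩
    rw [this]
    exact ha _
  · rw [coeff_ext_of_notMem H a hg]
    exact memLocalRing_zero hM

theorem memJ_ext (hM : IsPModular p M) {a : MonoidAlgebra ℂ H} (ha : MemJ M a) :
    MemJ M (ext H a) := by
  intro g
  by_cases hg : g ∈ H
  · have := coeff_ext_coe H a ⟨g, hg⟩
    rw [this]
    exact ha _
  · rw [coeff_ext_of_notMem H a hg]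
    exact memLocalIdeal_zero hM

/-- An element of the image times an element supported off `H` is supported off `H`. -/
theorem coeff_ext_mul_of_mem [Finite G] (a : MonoidAlgebra ℂ H) {b : MonoidAlgebra ℂ G}
    (hb : ∀ g ∈ H, b.coeff g = 0) {g : G} (hg : g ∈ H) : (ext H a * b).coeff g = 0 := by
  have := Fintype.ofFinite G
  rw [coeff_mul_eq_sum]
  refine Finset.sum_eq_zero fun t _ => ?_
  by_cases ht : t ∈ H
  · rw [hb _ (H.mul_mem (H.inv_mem ht) hg), mul_zero]
  · rw [coeff_ext_of_notMem H a ht, zero_mul]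

/-- The restriction of an element of the group algebra to a subgroup. -/
noncomputable def res [Finite G] (a : MonoidAlgebra ℂ G) : MonoidAlgebra ℂ H :=
  .ofCoeff (Finsupp.equivFunOnFinite.symm fun k : H => a.coeff (k : G))

theorem coeff_res [Finite G] (a : MonoidAlgebra ℂ G) (k : H) :
    (res H a).coeff k = a.coeff (k : G) := rfl

theorem memR_res [Finite G] {a : MonoidAlgebra ℂ G} (ha : MemR M a) : MemR M (res H a) :=
  fun k => ha (k : G)

theorem res_mem_center [Finite G] {a : MonoidAlgebra ℂ G}
    (ha : a ∈ Subalgebra.center ℂ (MonoidAlgebra ℂ G)) :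
    res H a ∈ Subalgebra.center ℂ (MonoidAlgebra ℂ H) := by
  rw [mem_center_iff] at ha ⊢
  intro k x
  exact ha (k : G) (x : G)

theorem coeff_sub_ext_res [Finite G] (a : MonoidAlgebra ℂ G) {g : G} (hg : g ∈ H) :
    (a - ext H (res H a)).coeff g = 0 := by
  have := coeff_ext_coe H (res H a) ⟨g, hg⟩
  rw [coeff_res] at this
  rw [MonoidAlgebra.coeff_sub, Finsupp.sub_apply]
  exact sub_eq_zero.2 this.symm

end Sub

/-! ### Central characters and induced central characters of class functions -/

section Classes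

open Classical in
/-- A sum over the group as a sum over class representatives. -/
theorem sum_eq_sum_classes [Fintype G] [Fintype (ConjClasses G)] (F : G → ℂ) :
    ∑ g : G, F g = ∑ c : ConjClasses G, ∑ g ∈ Finset.univ.filter (fun g : G => IsConj (Quotient.out c) g), F g := by
  rw [← Finset.sum_fiberwise Finset.univ (ConjClasses.mk) F]
  refine Finset.sum_congr rfl fun c _ => ?_
  congr 1
  ext g
  simp only [Finset.mem_filter, Finset.mem_univ, true_and]
  rw [← ConjClasses.mk_eq_mk_iff_isConj]
  have : ConjClasses.mk (Quotient.out c) = c := Quotient.out_eq c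
  rw [this, eq_comm]

theorem omega_eq_sum_classes [Fintype G] [Fintype (ConjClasses G)] {χ : G → ℂ}
    (hχ : IsIrrCharacter G χ) {a : MonoidAlgebra ℂ G}
    (ha : a ∈ Subalgebra.center ℂ (MonoidAlgebra ℂ G)) :
    omega χ a = ∑ c : ConjClasses G,
      a.coeff (Quotient.out c) * centralChar χ (Quotient.out c) := by
  classical
  rw [mem_center_iff] at ha
  rw [omega_def, lin_apply, sum_eq_sum_classes, Finset.sum_div]
  refine Finset.sum_congr rfl fun c _ => ?_
  have h1 : ∀ g ∈ Finset.univ.filter (fun g : G => IsConj (Quotient.out c) g),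
      a.coeff g * χ g = a.coeff (Quotient.out c) * χ (Quotient.out c) := by
    intro g hg
    have hg' := (Finset.mem_filter.1 hg).2
    obtain ⟨x, hx⟩ := isConj_iff.1 hg'
    have e1 : a.coeff g = a.coeff (Quotient.out c) := by
      have := ha (Quotient.out c) x
      simp only [hx] at this
      exact this
    have e2 : χ g = χ (Quotient.out c) := by
      have := isIrr_isClassFunction hχ (Quotient.out c) x
      rwa [hx] at this
    rw [e1, e2]
  rw [Finset.sum_congr rfl h1, Finset.sum_const, nsmul_eq_mul]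
  have h2 : (Finset.univ.filter (fun g : G => IsConj (Quotient.out c) g)).card =
      (Subgroup.centralizer ({Quotient.out c} : Set G)).index := by
    rw [Basic.index_centralizer_eq_ncard, Set.ncard_eq_toFinset_card']
    congr 1
    ext g
    simp
  rw [h2, Basic.centralChar_def]
  ring

theorem omega_res_eq_sum_classes [Fintype G] [Fintype (ConjClasses G)] (H : Subgroup G)
    (ξ : H → ℂ) {a : MonoidAlgebra ℂ G} (ha : a ∈ Subalgebra.center ℂ (MonoidAlgebra ℂ G)) :
    omega ξ (res H a) = ∑ c : ConjClasses G,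
      a.coeff (Quotient.out c) * inducedCentralChar H ξ (Quotient.out c) := by
  classical
  have := Fintype.ofFinite H
  rw [mem_center_iff] at ha
  rw [omega_def, lin_apply]
  have h0 : ∑ k : H, (res H a).coeff k * ξ k = ∑ c : ConjClasses G,
      ∑ k ∈ Finset.univ.filter (fun k : H => IsConj (Quotient.out c) (k : G)),
        a.coeff (k : G) * ξ k := by
    rw [← Finset.sum_fiberwise Finset.univ (fun k : H => ConjClasses.mk (k : G))]
    refine Finset.sum_congr rfl fun c _ => ?_
    refine Finset.sum_congr ?_ fun _ _ => rfl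
    ext g
    simp only [Finset.mem_filter, Finset.mem_univ, true_and]
    rw [← ConjClasses.mk_eq_mk_iff_isConj]
    have : ConjClasses.mk (Quotient.out c) = c := Quotient.out_eq c
    rw [this, eq_comm]
  rw [h0, Finset.sum_div]
  refine Finset.sum_congr rfl fun c _ => ?_
  rw [Basic.inducedCentralChar_def, finsum_mem_eq_toFinset_sum, Finset.mul_sum, Finset.sum_div]
  refine Finset.sum_congr (by ext; simp) fun k hk => ?_
  have hk' : IsConj (Quotient.out c) (k : G) := by simpa using hk
  obtain ⟨x, hx⟩ := isConj_iff.1 hk'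
  have e1 : a.coeff (k : G) = a.coeff (Quotient.out c) := by
    have := ha (Quotient.out c) x
    simp only [hx] at this
    exact this
  rw [e1, mul_div_assoc]

/-- If `b` induces `B`, then evaluating `ξ ∈ b` on the restriction to `H` of a central element
over the local ring agrees modulo the local ideal with evaluating `χ ∈ B` on it. -/
theorem omega_res_sub_omega [Finite G] (hM : IsPModular p M) {H : Subgroup G}
    {b : Set (IrrCharacter H)} {B : Set (IrrCharacter G)} (hind : IsInducedBlock M H b B)
    {ξ : IrrCharacter H} (hξ : ξ ∈ b) {χ : IrrCharacter G} (hχ : χ ∈ B) {a : MonoidAlgebra ℂ G}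
    (ha : a ∈ Subalgebra.center ℂ (MonoidAlgebra ℂ G)) (haR : MemR M a) :
    MemLocalIdeal M (omega (ξ : H → ℂ) (res H a) - omega (χ : G → ℂ) a) := by
  classical
  have := Fintype.ofFinite G
  have := Fintype.ofFinite (ConjClasses G)
  rw [omega_res_eq_sum_classes H _ ha, omega_eq_sum_classes χ.2 ha, ← Finset.sum_sub_distrib]
  refine memLocalIdeal_sum hM _ _ fun c _ => ?_
  rw [← mul_sub]
  exact memLocalIdeal_mul_left hM (haR _) (hind.2.2 ξ hξ χ hχ _)

end Classes

/-! ### The theorem -/

/-- **Second Main Theorem, idempotent form**, given that the idempotent coefficients of `b` and of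
the block of `χ` are local integers. -/
theorem sum_blockCoeff_mul_eq_zero [Finite G] (hM : IsPModular p M) (H : Subgroup G)
    (b : Set (IrrCharacter H)) (B : Set (IrrCharacter G)) (hind : IsInducedBlock M H b B) (h : H)
    (hC : ∀ z : G, IsPPart p (h : G) z → Subgroup.centralizer ({z} : Set G) ≤ H)
    (χ : IrrCharacter G) (hχ : χ ∉ B) (hb : ∀ k, MemLocalRing M (blockCoeff b k))
    (hB : ∀ g, MemLocalRing M (blockCoeff (blockOf M (χ : G → ℂ)) g)) :
    ∑ᶠ k : H, blockCoeff b k * (χ : G → ℂ) ((k : G) * (h : G)) = 0 := by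
  classical
  have hMp := isPrime hM
  have := Fintype.ofFinite G
  have := Fintype.ofFinite H
  obtain ⟨x, hx⟩ := exists_isPPart hM.1 (h : G)
  have hxH := hC x hx
  set eb : MonoidAlgebra ℂ H := idem b with heb
  set E : MonoidAlgebra ℂ G := idem (blockOf M (χ : G → ℂ)) with hE
  have hebc : eb ∈ Subalgebra.center ℂ (MonoidAlgebra ℂ H) := idem_mem_center b
  have hEc : E ∈ Subalgebra.center ℂ (MonoidAlgebra ℂ G) := idem_mem_center _
  have hebR : MemR M eb := hb
  have hER : MemR M E := hB
  have hEcomm : ∀ a, a * E = E * a := Subalgebra.mem_center_iff.1 hEc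
  have hebcomm : ∀ a, a * eb = eb * a := Subalgebra.mem_center_iff.1 hebc
  -- the central element `z` of the group algebra of `H`
  set z : MonoidAlgebra ℂ H := eb * res H E with hz
  have hresc := res_mem_center H hEc
  have hzc : z ∈ Subalgebra.center ℂ (MonoidAlgebra ℂ H) := Subalgebra.mul_mem _ hebc hresc
  have hzR : MemR M z := memR_mul hM hebR (memR_res H hER)
  obtain ⟨χ', hχ'⟩ := Basic.isPBlock_nonempty hind.2.1
  have hχ'n : χ' ∉ blockOf M (χ : G → ℂ) := fun hc =>
    hχ ((Basic.isPBlock_mem_iff hind.2.1 hχ').2 (Basic.sameBlock_symm hc))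
  have hzω : ∀ ξ : H → ℂ, IsIrrCharacter H ξ → MemLocalIdeal M (omega ξ z) := by
    intro ξ hξ
    rw [hz, omega_mul hξ hebc]
    have h1 := omega_idem b (⟨ξ, hξ⟩ : IrrCharacter H)
    simp only at h1
    rw [heb, h1]
    split_ifs with hb'
    · rw [one_mul]
      have h2 := omega_res_sub_omega hM hind hb' hχ' hEc hER
      rw [hE, omega_idem, if_neg hχ'n, sub_zero] at h2
      exact h2
    · rw [zero_mul]
      exact memLocalIdeal_zero hM
  obtain ⟨m, hm⟩ := exists_memJ_pow hM hzc hzR hzω
  -- the idempotent `π` and its part off `H`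
  set π : MonoidAlgebra ℂ G := ext H eb * E with hπ
  set Z : MonoidAlgebra ℂ G := ext H z with hZ
  set r : MonoidAlgebra ℂ G := ext H eb * (E - ext H (res H E)) with hr
  have hπr : π - Z = r := by rw [hπ, hZ, hz, hr, map_mul, mul_sub]
  have hππ : π * π = π := by
    calc π * π = ext H eb * (E * ext H eb) * E := by rw [hπ]; simp only [mul_assoc]
      _ = (ext H eb * ext H eb) * (E * E) := by rw [← hEcomm]; simp only [mul_assoc]
      _ = π := by rw [← map_mul, heb, idem_mul_idem, hE, idem_mul_idem]
  have hgE : MonoidAlgebra.single (h : G) 1 * E = E * MonoidAlgebra.single (h : G) 1 := hEcomm _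
  have hgeb : MonoidAlgebra.single (h : G) 1 * ext H eb =
      ext H eb * MonoidAlgebra.single (h : G) 1 := by
    rw [← ext_single, ← map_mul, ← map_mul, hebcomm]
  have hgZ : MonoidAlgebra.single (h : G) 1 * Z = Z * MonoidAlgebra.single (h : G) 1 := by
    rw [hZ, ← ext_single, ← map_mul, ← map_mul, Subalgebra.mem_center_iff.1 hzc]
  have hgπ : MonoidAlgebra.single (h : G) 1 * π = π * MonoidAlgebra.single (h : G) 1 := by
    rw [hπ, ← mul_assoc, hgeb, mul_assoc, hgE, mul_assoc]
  have hgr : MonoidAlgebra.single (h : G) 1 * r = r * MonoidAlgebra.single (h : G) 1 := by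
    rw [← hπr, mul_sub, sub_mul, hgπ, hgZ]
  have hπZ : Commute π Z := by
    rw [commute_iff_eq]
    calc π * Z = ext H eb * (E * Z) := by rw [hπ, mul_assoc]
      _ = (ext H eb * Z) * E := by rw [← hEcomm, mul_assoc]
      _ = (Z * ext H eb) * E := by
        rw [hZ, ← map_mul, ← map_mul, Subalgebra.mem_center_iff.1 hzc eb]
      _ = Z * π := by rw [hπ, mul_assoc]
  have hπR : MemR M π := memR_mul hM (memR_ext H hM hebR) hER
  have hZR : MemR M Z := memR_ext H hM hzR
  have hrR : MemR M r := by rw [← hπr]; exact memR_sub hM hπR hZR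
  have hZm : MemJ M (Z ^ (m + 1)) := by
    rw [hZ, ← map_pow, pow_succ]
    exact memJ_ext H hM (memJ_mul_right hM hm hzR)
  have hπm : ∀ n : ℕ, π ^ (n + 1) = π := by
    intro n
    induction n with
    | zero => rw [zero_add, pow_one]
    | succ n ih => rw [pow_succ, ih, hππ]
  set w : MonoidAlgebra ℂ G := ∑ i ∈ Finset.range (m + 1), π ^ i * Z ^ (m + 1 - 1 - i) with hw
  have hrw : r * w = π - Z ^ (m + 1) := by
    rw [hw, ← hπr, hπZ.mul_geom_sum₂, hπm]
  have hwR : MemR M w := memR_sum hM _ _ fun i _ =>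
    memR_mul hM (memR_pow hM hπR i) (memR_pow hM hZR _)
  have hgw : MonoidAlgebra.single (h : G) 1 * w = w * MonoidAlgebra.single (h : G) 1 := by
    have h1 : Commute (MonoidAlgebra.single (h : G) (1 : ℂ)) w := by
      rw [hw]
      refine Commute.sum_right _ _ _ fun i _ => ?_
      exact ((show Commute (MonoidAlgebra.single (h : G) (1 : ℂ)) π from hgπ).pow_right i).mul_right
        ((show Commute (MonoidAlgebra.single (h : G) (1 : ℂ)) Z from hgZ).pow_right _)
    exact h1
  have hc : ∀ s, Commute x s → MemLocalIdeal M (r.coeff s) := by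
    intro s hs
    have hsH : s ∈ H := hxH (Subgroup.mem_centralizer_singleton_iff.2 hs.symm.eq)
    rw [hr, coeff_ext_mul_of_mem H eb (fun g hg => coeff_sub_ext_res H E hg) hsH]
    exact memLocalIdeal_zero hM
  have hcw : MemJ M (r * w - π) := by
    rw [hrw, sub_sub_cancel_left]
    intro s
    rw [MonoidAlgebra.coeff_neg, Finsupp.neg_apply, memLocalIdeal_neg_iff]
    exact hZm s
  have hχcomm : ∀ g h, (χ : G → ℂ) (g * h) = (χ : G → ℂ) (h * g) := fun g h =>
    Basic.irr_mul_comm χ.2 g h
  have hmain := trace_single_mul_eq_zero hM hx hππ hgπ hgr hgw hπR hrR hwR hc hcw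
    (lin (χ : G → ℂ)) (lin_mul_comm hχcomm)
  -- evaluate
  have h1 : lin (χ : G → ℂ) (MonoidAlgebra.single (h : G) 1 * π) =
      lin (χ : G → ℂ) (ext H (eb * MonoidAlgebra.single h 1)) := by
    rw [hπ, ← mul_assoc, hEcomm, lin_mul_of_mem_center χ.2 hEc, hE, omega_idem,
      if_pos (Basic.mem_blockOf_self χ), one_mul, hgeb, RingHom.map_mul, ext_single]
  rw [h1] at hmain
  rw [finsum_eq_sum_of_fintype, ← hmain, lin_apply]
  -- sum over G of an element supported on H
  rw [← Finset.sum_subset (Finset.subset_univ (Finset.univ.filter (· ∈ H)))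
    (fun g _ hg => by
      rw [coeff_ext_of_notMem H _ (fun hgH => hg (Finset.mem_filter.2 ⟨Finset.mem_univ _, hgH⟩)),
        zero_mul])]
  rw [Finset.sum_subtype (Finset.univ.filter (· ∈ H)) (p := (· ∈ H)) (by simp)]
  symm
  rw [← Equiv.sum_comp (Equiv.mulRight h)]
  refine Finset.sum_congr rfl fun k _ => ?_
  have h2 := coeff_ext_coe H (eb * MonoidAlgebra.single h 1) (k * h)
  rw [MonoidAlgebra.coeff_mul_single_apply, mul_one, mul_inv_cancel_right, heb, coeff_idem] at h2
  rw [Equiv.coe_mulRight, heb, h2]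
  rfl

end Cfsg.Agent.Blocks.SecondMain
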