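import Cfsg.Prelude.Def_Blocks
import Cfsg.Agent.Characters.Core
import Cfsg.Agent.Characters.Central
import Cfsg.Agent.Blocks.Basic
import Cfsg.Agent.Blocks.PPart
import Cfsg.Agent.S0145
import Cfsg.Agent.S0923
import Cfsg.Agent.S0925
set_option linter.all false

/-!
# Sums over a block at a `p`-section

For a `p`-element `z` with centralizer `H`, a block `B` of `G` and `p`-regular `y, y' ∈ H`, the sum over
`ζ ∈ B` of `ζ (z y) * conj (ζ (z y'))` is the sum of `ξ y * conj (ξ y')` over the irreducible characters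
`ξ` of `H` whose block induces `B`.
-/

set_option autoImplicit false

open Cfsg Cfsg.Agent.Blocks.Basic Cfsg.Agent.Blocks.Local
open scoped ComplexConjugate

namespace Cfsg.Agent.Blocks.CentralizerSum

section Prep

variable {G : Type*} [Group G]

/-- Central elements act by a scalar of absolute value one. -/
theorem exists_central_scalar [Finite G] {ξ : G → ℂ} (hξ : IsIrrCharacter G ξ) {z : G}
    (hz : z ∈ Subgroup.center G) : ∃ c : ℂ, c * conj c = 1 ∧ ∀ h : G, ξ (z * h) = c * ξ h := by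
  obtain ⟨n, ρ, hρ, rfl⟩ := hξ
  obtain ⟨c, hc⟩ := Characters.Central.exists_smul_of_comm ρ hρ (ρ z) (fun g => by
    rw [← map_mul, ← map_mul, Subgroup.mem_center_iff.1 hz g])
  have h1 : ∀ h : G, ρ.character (z * h) = c * ρ.character h := by
    intro h
    change LinearMap.trace ℂ _ (ρ (z * h)) = c * LinearMap.trace ℂ _ (ρ h)
    rw [map_mul, hc, smul_mul_assoc, one_mul, map_smul, smul_eq_mul]
  refine ⟨c, ?_, h1⟩
  have h2 : ∀ m : ℕ, ρ.character (z ^ m) = c ^ m * ρ.character 1 := by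
    intro m
    induction m with
    | zero => simp
    | succ m ih => rw [pow_succ', h1, ih, pow_succ']; ring
  have h3 : c ^ orderOf z = 1 := by
    have := h2 (orderOf z)
    rw [pow_orderOf_eq_one] at this
    have h4 := Characters.Central.char_one_ne_zero ρ hρ
    field_simp at this
    exact this.symm
  have h4 : ‖c‖ = 1 := Complex.norm_eq_one_of_pow_eq_one h3 (orderOf_pos z).ne'
  rw [Complex.mul_conj, Complex.normSq_eq_norm_sq, h4]
  norm_num

open Classical in
/-- If the sums over all the blocks inside a union of blocks vanish, so does the total sum. -/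
theorem sum_filter_eq_zero [Fintype (IrrCharacter G)] {M : Ideal AlgInt} [M.IsPrime]
    (P : IrrCharacter G → Prop) [DecidablePred P]
    (hP : ∀ ξ ξ' : IrrCharacter G, SameBlock M (ξ : G → ℂ) (ξ' : G → ℂ) → P ξ → P ξ')
    (f : IrrCharacter G → ℂ)
    (h : ∀ b : Set (IrrCharacter G), IsPBlock M b → (∀ ξ ∈ b, P ξ) → ∑ᶠ ξ ∈ b, f ξ = 0) :
    ∑ ξ with P ξ, f ξ = 0 := by
  let r : Setoid (IrrCharacter G) :=
    { r := fun a b => SameBlock M (a : G → ℂ) (b : G → ℂ)
      iseqv := ⟨fun a => sameBlock_refl _, fun h => sameBlock_symm h,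
        fun h h' => sameBlock_trans h h'⟩ }
  rw [Finset.sum_partition r]
  refine Finset.sum_eq_zero fun c hc => ?_
  obtain ⟨ξ, hξ, rfl⟩ := Finset.mem_image.1 hc
  have hξP : P ξ := by simpa using hξ
  have h1 := h (blockOf M (ξ : G → ℂ)) (isPBlock_blockOf ξ) (fun ξ' hξ' => hP ξ ξ' hξ' hξP)
  rw [finsum_mem_eq_toFinset_sum] at h1
  rw [← h1]
  refine Finset.sum_congr ?_ fun _ _ => rfl
  ext ξ'
  simp only [Finset.mem_filter, Finset.mem_univ, true_and, Set.mem_toFinset]
  constructor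
  · rintro ⟨_, h2⟩
    exact sameBlock_symm (Quotient.exact h2)
  · intro h2
    exact ⟨hP ξ ξ' h2 hξP, Quotient.sound (sameBlock_symm h2)⟩

/-- A block of a subgroup induces at most one block. -/
theorem inducedBlock_unique {M : Ideal AlgInt} [M.IsPrime] {H : Subgroup G}
    {b : Set (IrrCharacter H)} {B B' : Set (IrrCharacter G)} (h : IsInducedBlock M H b B)
    (h' : IsInducedBlock M H b B') : B = B' := by
  obtain ⟨ξ, hξ⟩ := isPBlock_nonempty h.1
  obtain ⟨χ, hχ⟩ := isPBlock_nonempty h.2.1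
  obtain ⟨χ', hχ'⟩ := isPBlock_nonempty h'.2.1
  refine isPBlock_eq_of_sameBlock h.2.1 h'.2.1 hχ hχ' fun g => ?_
  have h1 := h.2.2 ξ hξ χ hχ g
  have h2 := h'.2.2 ξ hξ χ' hχ' g
  exact memLocalIdeal_sub_trans (memLocalIdeal_sub_comm h1) h2

theorem blockPart_eq [Fintype G] (B : Set (IrrCharacter G)) (ϑ : G → ℂ) (g : G) :
    blockPart B ϑ g = ∑ᶠ χ ∈ B, classInner ϑ (χ : G → ℂ) * (χ : G → ℂ) g := by
  have h : ‹Fintype G› = Fintype.ofFinite G := Subsingleton.elim _ _
  rw [h]
  rfl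

end Prep

section Main

variable {G : Type*} [Group G] [Finite G] {p : ℕ} [Fact p.Prime] {M : Ideal AlgInt}

theorem secondMain (hM : IsPModular p M) {z : G} (hz : ∃ k : ℕ, orderOf z = p ^ k) {H : Subgroup G}
    (hH : H = Subgroup.centralizer ({z} : Set G)) {B : Set (IrrCharacter G)}
    (hB : IsPBlock M B) (χ : IrrCharacter G) (hχ : χ ∈ B) {b : Set (IrrCharacter H)}
    (hb : IsPBlock M b) (hnot : ¬ IsInducedBlock M H b B) (y : H) (hy : ¬ p ∣ orderOf y) :
    blockPart b (fun c : H => (χ : G → ℂ) (z * (c : G))) y = 0 := by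
  subst hH
  exact S0923.result p M hM z hz B hB χ hχ b hb hnot y hy

open Classical in
/-- The components of `c ↦ ζ (z c)` in the blocks of `H = C_G(z)` inducing `B`. -/
theorem sum_components [Fintype G] (hM : IsPModular p M) (z : G) (hz : ∃ k : ℕ, orderOf z = p ^ k)
    {H : Subgroup G} (hH : H = Subgroup.centralizer ({z} : Set G))
    {B : Set (IrrCharacter G)} (hB : IsPBlock M B) {A : Set (IrrCharacter H)}
    (hA : ∀ ξ : IrrCharacter H, ξ ∈ A ↔ IsInducedBlock M H (blockOf M (ξ : H → ℂ)) B)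
    [Fintype (IrrCharacter H)] [Fintype H] (y : H) (hy : ¬ p ∣ orderOf y) (ζ : IrrCharacter G) :
    ∑ ξ with ξ ∈ A, classInner (fun c : H => (ζ : G → ℂ) (z * (c : G))) (ξ : H → ℂ) *
      (ξ : H → ℂ) y = if ζ ∈ B then (ζ : G → ℂ) (z * (y : G)) else 0 := by
  have := isPrime_of_isPModular hM
  have hcf : IsClassFunction H (fun c : H => (ζ : G → ℂ) (z * (c : G))) := by
    intro g h
    have h1 : z * ((h * g * h⁻¹ : H) : G) = (h : G) * (z * (g : G)) * (h : G)⁻¹ := by
      have h2 : (h : G) * z = z * (h : G) :=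
        Subgroup.mem_centralizer_singleton_iff.1 (hH ▸ h.2)
      push_cast
      rw [← mul_assoc, ← mul_assoc, ← mul_assoc, h2]
    change (ζ : G → ℂ) (z * ((h * g * h⁻¹ : H) : G)) = (ζ : G → ℂ) (z * (g : G))
    rw [h1, irr_conj ζ.2]
  have hexp := congrFun (Characters.Core.classFunction_eq_sum hcf) y
  rw [Finset.sum_apply] at hexp
  simp only [Pi.smul_apply, smul_eq_mul] at hexp
  have hmemA : ∀ ξ ξ' : IrrCharacter H, SameBlock M (ξ : H → ℂ) (ξ' : H → ℂ) → (ξ ∈ A ↔ ξ' ∈ A) := by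
    intro ξ ξ' h
    rw [hA, hA, blockOf_eq_of_sameBlock h]
  split_ifs with hζ
  · rw [hexp, ← Finset.sum_filter_add_sum_filter_not Finset.univ (fun ξ : IrrCharacter H => ξ ∈ A),
      left_eq_add]
    refine sum_filter_eq_zero (M := M) (fun ξ : IrrCharacter H => ξ ∉ A)
      (fun ξ ξ' h h1 h2 => h1 ((hmemA ξ ξ' h).2 h2)) _ fun b hb hbA => ?_
    obtain ⟨ξ, hξ⟩ := isPBlock_nonempty hb
    have h1 : ¬ IsInducedBlock M H b B := by
      intro h1
      apply hbA ξ hξ
      rw [hA, ← isPBlock_eq_blockOf hb hξ]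
      exact h1
    rw [← secondMain hM hz hH hB ζ hζ hb h1 y hy, blockPart_eq]
  · refine sum_filter_eq_zero (M := M) (fun ξ : IrrCharacter H => ξ ∈ A)
      (fun ξ ξ' h h1 => (hmemA ξ ξ' h).1 h1) _ fun b hb hbA => ?_
    obtain ⟨ξ, hξ⟩ := isPBlock_nonempty hb
    have h1 : ¬ IsInducedBlock M H b (blockOf M (ζ : G → ℂ)) := by
      intro h1
      have h2 := (hA ξ).1 (hbA ξ hξ)
      rw [← isPBlock_eq_blockOf hb hξ] at h2
      apply hζ
      rw [inducedBlock_unique h2 h1]
      exact mem_blockOf_self ζ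
    rw [← secondMain hM hz hH (isPBlock_blockOf ζ) ζ (mem_blockOf_self ζ) hb h1 y hy, blockPart_eq]

open Classical in
/-- The sum over a block of `ζ (z y) * conj (ζ (z y'))`. -/
theorem sum_section (hM : IsPModular p M) (z : G) (hz : ∃ k : ℕ, orderOf z = p ^ k)
    {H : Subgroup G} (hH : H = Subgroup.centralizer ({z} : Set G))
    {B : Set (IrrCharacter G)} (hB : IsPBlock M B) {A : Set (IrrCharacter H)}
    (hA : ∀ ξ : IrrCharacter H, ξ ∈ A ↔ IsInducedBlock M H (blockOf M (ξ : H → ℂ)) B)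
    (y y' : H) (hy : ¬ p ∣ orderOf y) (hy' : ¬ p ∣ orderOf y') :
    ∑ᶠ ζ ∈ B, (ζ : G → ℂ) (z * (y : G)) * conj ((ζ : G → ℂ) (z * (y' : G))) =
      ∑ᶠ ξ ∈ A, (ξ : H → ℂ) y * conj ((ξ : H → ℂ) y') := by
  have := isPrime_of_isPModular hM
  have := Fintype.ofFinite G
  have := Fintype.ofFinite H
  have : Finite (IrrCharacter G) := Characters.Core.finite_irr
  have : Finite (IrrCharacter H) := Characters.Core.finite_irr
  have := Fintype.ofFinite (IrrCharacter G)
  have := Fintype.ofFinite (IrrCharacter H)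
  -- the element `z` of `H`
  obtain ⟨zH, hzH⟩ : ∃ zH : H, (zH : G) = z :=
    ⟨⟨z, hH ▸ Subgroup.mem_centralizer_singleton_iff.2 rfl⟩, rfl⟩
  have hzc : zH ∈ Subgroup.center H := by
    rw [Subgroup.mem_center_iff]
    intro g
    apply Subtype.ext
    rw [Subgroup.coe_mul, Subgroup.coe_mul, hzH]
    exact Subgroup.mem_centralizer_singleton_iff.1 (hH ▸ g.2)
  have hordz : ∃ k : ℕ, orderOf zH = p ^ k := by
    obtain ⟨k, hk⟩ := hz
    exact ⟨k, by rw [← Subgroup.orderOf_coe, hzH, hk]⟩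
  have hpp : ∀ w : H, ¬ p ∣ orderOf w → IsPPart p (zH * w) zH := fun w hw =>
    PPart.isPPart_mul (Subgroup.mem_center_iff.1 hzc w).symm hordz hw
  -- scalars
  have hsc : ∀ ξ : IrrCharacter H, ∃ c : ℂ, c * conj c = 1 ∧ ∀ h : H,
      (ξ : H → ℂ) (zH * h) = c * (ξ : H → ℂ) h := fun ξ => exists_central_scalar ξ.2 hzc
  let Φ : H → ℂ := fun c => ∑ ξ with ξ ∈ A, (ξ : H → ℂ) c * conj ((ξ : H → ℂ) (zH * y))
  have hmemA : ∀ ξ ξ' : IrrCharacter H, SameBlock M (ξ : H → ℂ) (ξ' : H → ℂ) → (ξ ∈ A ↔ ξ' ∈ A) := by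
    intro ξ ξ' h
    rw [hA, hA, blockOf_eq_of_sameBlock h]
  have hΦ : ∀ c : H, ¬ IsPPart p c zH → Φ c = 0 := by
    intro c hc
    refine sum_filter_eq_zero (M := M) (fun ξ : IrrCharacter H => ξ ∈ A)
      (fun ξ ξ' h h1 => (hmemA ξ ξ' h).1 h1) _ fun b hb hbA => ?_
    obtain ⟨x, hx⟩ := PPart.exists_isPPart p c
    have hne : ¬ IsConj x zH := by
      intro h
      obtain ⟨w, hw⟩ := isConj_iff.1 h.symm
      apply hc
      have : x = zH := by
        rw [← hw, Subgroup.mem_center_iff.1 hzc w]; group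
      rwa [← this]
    have h1 := (S0925.result p M hM (G := H)).2 c (zH * y) x zH hx (hpp y hy) hne b hb
    rw [← h1]
    refine finsum_mem_congr rfl fun ξ _ => ?_
    rw [Characters.Core.isCharacter_apply_inv (irr_isCharacter ξ.2)]
  have hcard : (Nat.card H : ℂ) ≠ 0 := by exact_mod_cast Nat.card_pos.ne'
  -- step 2
  have hT : ∀ ζ : IrrCharacter G, (if ζ ∈ B then (ζ : G → ℂ) (z * (y : G)) else 0) =
      (Nat.card H : ℂ)⁻¹ * ∑ c : H, (ζ : G → ℂ) (c : G) * conj (Φ c) := by
    intro ζ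
    rw [← sum_components hM z hz hH hB hA y hy ζ]
    have h1 : ∀ ξ : IrrCharacter H, classInner (fun c : H => (ζ : G → ℂ) (z * (c : G)))
        (ξ : H → ℂ) * (ξ : H → ℂ) y = (Nat.card H : ℂ)⁻¹ *
          ∑ c : H, (ζ : G → ℂ) (c : G) * (conj ((ξ : H → ℂ) c) * (ξ : H → ℂ) (zH * y)) := by
      intro ξ
      obtain ⟨l, hl, hl'⟩ := hsc ξ
      rw [classInner_def, mul_assoc, Finset.sum_mul]
      congr 1
      rw [← Equiv.sum_comp (Equiv.mulLeft zH)
        (fun c : H => (ζ : G → ℂ) (c : G) * (conj ((ξ : H → ℂ) c) * (ξ : H → ℂ) (zH * y)))]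
      refine Finset.sum_congr rfl fun c _ => ?_
      rw [Equiv.coe_mulLeft, hl', hl', map_mul, Subgroup.coe_mul, hzH]
      linear_combination (-(ζ : G → ℂ) (z * (c : G)) * conj ((ξ : H → ℂ) c) * (ξ : H → ℂ) y) * hl
    rw [Finset.sum_congr rfl fun ξ _ => h1 ξ, ← Finset.mul_sum]
    congr 1
    rw [Finset.sum_comm]
    refine Finset.sum_congr rfl fun c _ => ?_
    rw [← Finset.mul_sum]
    congr 1
    simp only [Φ, map_sum, map_mul, Complex.conj_conj]
  -- step 5
  have hcol : ∀ c : H, IsPPart p c zH →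
      ∑ ζ : IrrCharacter G, (ζ : G → ℂ) (c : G) * conj ((ζ : G → ℂ) (z * (y' : G))) =
      ∑ ξ : IrrCharacter H, (ξ : H → ℂ) c * conj ((ξ : H → ℂ) (zH * y')) := by
    intro c hc
    rw [S0145.sum_irr_mul_conj, S0145.sum_irr_mul_conj]
    have hzy : z * (y' : G) = ((zH * y' : H) : G) := by rw [Subgroup.coe_mul, hzH]
    rw [hzy]
    have hc' : IsPPart p (c : G) z := by
      have := PPart.isPPart_coe hc
      rwa [hzH] at this
    have hy'' : IsPPart p ((zH * y' : H) : G) z := by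
      have := PPart.isPPart_coe (hpp y' hy')
      rwa [hzH] at this
    have hiff : IsConj (c : G) ((zH * y' : H) : G) ↔ IsConj c (zH * y') := by
      constructor
      · intro h
        obtain ⟨w, hw⟩ := isConj_iff.1 h
        have hwH : w ∈ H := hH ▸ PPart.mem_centralizer_of_conj hc' hy'' hw
        refine isConj_iff.2 ⟨⟨w, hwH⟩, Subtype.ext ?_⟩
        simpa using hw
      · intro h
        obtain ⟨w, hw⟩ := isConj_iff.1 h
        refine isConj_iff.2 ⟨w, ?_⟩
        rw [← hw]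
        simp
    have hcen : Nat.card (Subgroup.centralizer ({((zH * y' : H) : G)} : Set G)) =
        Nat.card (Subgroup.centralizer ({zH * y'} : Set H)) := by
      have hmap : Subgroup.centralizer ({((zH * y' : H) : G)} : Set G) =
          (Subgroup.centralizer ({zH * y'} : Set H)).map H.subtype := by
        ext w
        constructor
        · intro hw
          have h1 : w * ((zH * y' : H) : G) * w⁻¹ = ((zH * y' : H) : G) := by
            rw [Subgroup.mem_centralizer_singleton_iff.1 hw]; group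
          have hwH : w ∈ H := hH ▸ PPart.mem_centralizer_of_conj hy'' hy'' h1
          refine ⟨⟨w, hwH⟩, ?_, rfl⟩
          refine Subgroup.mem_centralizer_singleton_iff.2 (Subtype.ext ?_)
          exact Subgroup.mem_centralizer_singleton_iff.1 hw
        · rintro ⟨w, hw, rfl⟩
          rw [Subgroup.mem_centralizer_singleton_iff]
          exact congrArg Subtype.val (Subgroup.mem_centralizer_singleton_iff.1 hw)
      rw [hmap]
      exact (Nat.card_congr ((Subgroup.centralizer ({zH * y'} : Set H)).equivMapOfInjective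
        H.subtype H.subtype_injective).toEquiv).symm
    rw [hcen]
    simp only [hiff]
  -- inner products
  have hinner : ∀ ξ : IrrCharacter H, (Nat.card H : ℂ)⁻¹ * ∑ c : H, (ξ : H → ℂ) c * conj (Φ c) =
      if ξ ∈ A then (ξ : H → ℂ) (zH * y) else 0 := by
    intro ξ
    have h1 : (Nat.card H : ℂ)⁻¹ * ∑ c : H, (ξ : H → ℂ) c * conj (Φ c) =
        ∑ η with η ∈ A, (η : H → ℂ) (zH * y) * classInner (ξ : H → ℂ) (η : H → ℂ) := by
      simp only [Φ, map_sum, map_mul, Complex.conj_conj, classInner_def, Finset.mul_sum]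
      rw [Finset.sum_comm]
      refine Finset.sum_congr rfl fun η _ => Finset.sum_congr rfl fun c _ => ?_
      ring
    rw [h1]
    have h2 : ∀ η : IrrCharacter H, (η : H → ℂ) (zH * y) * classInner (ξ : H → ℂ) (η : H → ℂ) =
        if η = ξ then (ξ : H → ℂ) (zH * y) else 0 := by
      intro η
      rw [Characters.Core.classInner_irr ξ.2 η.2]
      by_cases h : η = ξ
      · subst h; simp
      · rw [if_neg (fun h1 => h (Subtype.ext h1.symm)), if_neg h, mul_zero]
    rw [Finset.sum_congr rfl fun η _ => h2 η, Finset.sum_ite_eq']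
    simp
  -- main computation
  have hmain : ∑ ζ : IrrCharacter G, (if ζ ∈ B then (ζ : G → ℂ) (z * (y : G)) else 0) *
      conj ((ζ : G → ℂ) (z * (y' : G))) =
      ∑ ξ : IrrCharacter H, (if ξ ∈ A then (ξ : H → ℂ) (zH * y) else 0) *
        conj ((ξ : H → ℂ) (zH * y')) := by
    calc ∑ ζ : IrrCharacter G, (if ζ ∈ B then (ζ : G → ℂ) (z * (y : G)) else 0) *
          conj ((ζ : G → ℂ) (z * (y' : G)))
        = (Nat.card H : ℂ)⁻¹ * ∑ c : H, conj (Φ c) *
            ∑ ζ : IrrCharacter G, (ζ : G → ℂ) (c : G) * conj ((ζ : G → ℂ) (z * (y' : G))) := by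
          rw [Finset.sum_congr rfl fun ζ _ => by rw [hT ζ, mul_assoc, Finset.sum_mul],
            ← Finset.mul_sum, Finset.sum_comm]
          congr 1
          refine Finset.sum_congr rfl fun c _ => ?_
          rw [Finset.mul_sum]
          exact Finset.sum_congr rfl fun ζ _ => by ring
      _ = (Nat.card H : ℂ)⁻¹ * ∑ c : H, conj (Φ c) *
            ∑ ξ : IrrCharacter H, (ξ : H → ℂ) c * conj ((ξ : H → ℂ) (zH * y')) := by
          congr 1
          refine Finset.sum_congr rfl fun c _ => ?_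
          by_cases hc : IsPPart p c zH
          · rw [hcol c hc]
          · rw [hΦ c hc, map_zero, zero_mul, zero_mul]
      _ = ∑ ξ : IrrCharacter H, (if ξ ∈ A then (ξ : H → ℂ) (zH * y) else 0) *
            conj ((ξ : H → ℂ) (zH * y')) := by
          symm
          rw [Finset.sum_congr rfl fun ξ _ => by rw [← hinner ξ, mul_assoc, Finset.sum_mul],
            ← Finset.mul_sum, Finset.sum_comm]
          congr 1
          refine Finset.sum_congr rfl fun c _ => ?_
          rw [Finset.mul_sum]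
          exact Finset.sum_congr rfl fun ζ _ => by ring
  rw [finsum_mem_eq_toFinset_sum, finsum_mem_eq_toFinset_sum]
  have e1 : ∑ ζ ∈ B.toFinset, (ζ : G → ℂ) (z * (y : G)) * conj ((ζ : G → ℂ) (z * (y' : G))) =
      ∑ ζ : IrrCharacter G, (if ζ ∈ B then (ζ : G → ℂ) (z * (y : G)) else 0) *
      conj ((ζ : G → ℂ) (z * (y' : G))) := by
    simp only [ite_mul, zero_mul]
    rw [← Finset.sum_filter]
    exact Finset.sum_congr (by ext; simp) fun _ _ => rfl
  have e2 : ∑ ξ ∈ A.toFinset, (ξ : H → ℂ) y * conj ((ξ : H → ℂ) y') =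
      ∑ ξ : IrrCharacter H, (if ξ ∈ A then (ξ : H → ℂ) (zH * y) else 0) *
        conj ((ξ : H → ℂ) (zH * y')) := by
    simp only [ite_mul, zero_mul]
    rw [← Finset.sum_filter]
    refine Finset.sum_congr (by ext; simp) fun ξ _ => ?_
    obtain ⟨l, hl, hl'⟩ := hsc ξ
    rw [hl', hl', map_mul]
    linear_combination (-(ξ : H → ℂ) y * conj ((ξ : H → ℂ) y')) * hl
  rw [e1, e2, hmain]

end Main

end Cfsg.Agent.Blocks.CentralizerSum
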