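import Mathlib
import Cfsg.Prelude.Def_Blocks
set_option linter.all false

/-!
# Integrality of averaged character values

If `x` centralizes the finite subgroup `P` then `|P|⁻¹ Σ_{u ∈ P} χ (x u)` (the trace of `x` on the
fixed points of `P`) is an algebraic integer.
-/

set_option autoImplicit false

namespace Cfsg.Agent.Blocks.AvgTrace

open Module

/-- If `f ^ (n + 1) = f` then the trace of `f` is an algebraic integer. -/
theorem isIntegral_trace_of_pow_succ {V : Type*} [AddCommGroup V] [Module ℂ V]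
    [FiniteDimensional ℂ V] {f : Module.End ℂ V} {n : ℕ} (hn : n ≠ 0) (hf : f ^ (n + 1) = f) :
    IsIntegral ℤ (LinearMap.trace ℂ V f) := by
  rw [Module.End.trace_eq_sum_roots_charpoly_of_splits (IsAlgClosed.splits _)]
  apply IsIntegral.multiset_sum
  intro z hz
  have hroot : f.charpoly.IsRoot z := (Polynomial.mem_roots'.1 hz).2
  have hev : f.HasEigenvalue z := (Module.End.hasEigenvalue_iff_isRoot_charpoly f z).2 hroot
  obtain ⟨v, hv⟩ := hev.exists_hasEigenvector
  have h2 := hv.apply_eq_smul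
  have h3 : (f ^ (n + 1)) v = z ^ (n + 1) • v := hv.pow_apply (n + 1)
  rw [hf, h2] at h3
  have h4 : (z - z ^ (n + 1)) • v = 0 := by
    rw [sub_smul, ← h3, sub_self]
  have h5 : z - z ^ (n + 1) = 0 := by
    rcases smul_eq_zero.1 h4 with h | h
    · exact h
    · exact absurd h hv.2
  by_cases hz0 : z = 0
  · rw [hz0]; exact isIntegral_zero
  · have h6 : z ^ n = 1 := by
      have : z * (1 - z ^ n) = 0 := by rw [← h5]; ring
      rcases mul_eq_zero.1 this with h | h
      · exact absurd h hz0
      · exact (sub_eq_zero.1 h).symm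
    refine IsIntegral.of_pow (n := n) (Nat.pos_of_ne_zero hn) ?_
    rw [h6]
    exact isIntegral_one

variable {G : Type*} [Group G]

/-- The trace of `x` on the `P`-fixed points is an algebraic integer. -/
theorem isIntegral_avg_rep [Finite G] {V : Type*} [AddCommGroup V] [Module ℂ V]
    [FiniteDimensional ℂ V] (ρ : Representation ℂ G V) (P : Subgroup G) [Fintype P] (x : G)
    (hx : ∀ u ∈ P, Commute x u) :
    IsIntegral ℤ ((Nat.card P : ℂ)⁻¹ * ∑ u : P, ρ.character (x * u)) := by
  classical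
  have hP : (Nat.card P : ℂ) ≠ 0 := by exact_mod_cast Nat.card_pos.ne'
  set E : Module.End ℂ V := (Nat.card P : ℂ)⁻¹ • ∑ u : P, ρ (u : G) with hE
  have hmul : ∀ v : P, ρ (v : G) * ∑ u : P, ρ (u : G) = ∑ u : P, ρ (u : G) := by
    intro v
    rw [Finset.mul_sum]
    refine Fintype.sum_equiv (Equiv.mulLeft v) _ _ ?_
    intro u
    simp
  have hEE : E * E = E := by
    rw [hE, smul_mul_smul_comm, Finset.sum_mul, Finset.sum_congr rfl (fun v _ => hmul v),
      Finset.sum_const, Finset.card_univ, ← Nat.card_eq_fintype_card, ← Nat.cast_smul_eq_nsmul ℂ,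
      smul_smul]
    congr 1
    field_simp
  have hcomm : ρ x * E = E * ρ x := by
    rw [hE, mul_smul_comm, smul_mul_assoc, Finset.mul_sum, Finset.sum_mul]
    congr 1
    refine Finset.sum_congr rfl fun u _ => ?_
    rw [← map_mul, ← map_mul, (hx u u.2).eq]
  have hEpow : ∀ n : ℕ, E ^ (n + 1) = E := by
    intro n
    induction n with
    | zero => simp
    | succ n ih => rw [pow_succ, ih, hEE]
  have hn : orderOf x ≠ 0 := (orderOf_pos x).ne'
  have hpow : (ρ x * E) ^ (orderOf x + 1) = ρ x * E := by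
    have hc : Commute (ρ x) E := hcomm
    rw [hc.mul_pow, hEpow, ← map_pow, pow_succ, pow_orderOf_eq_one, one_mul]
  have htr : LinearMap.trace ℂ V (ρ x * E) =
      (Nat.card P : ℂ)⁻¹ * ∑ u : P, ρ.character (x * u) := by
    rw [hE, mul_smul_comm, Finset.mul_sum, map_smul, map_sum, smul_eq_mul]
    congr 1
    refine Finset.sum_congr rfl fun u _ => ?_
    rw [← map_mul]
    rfl
  rw [← htr]
  exact isIntegral_trace_of_pow_succ hn hpow

/-- The averaged value `|P|⁻¹ Σ_{u ∈ P} χ (x u)` of a character, for `x` centralizing `P`. -/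
theorem isIntegral_avg [Finite G] {χ : G → ℂ} (hχ : Cfsg.IsCharacter G χ) (P : Subgroup G)
    [Fintype P] (x : G) (hx : ∀ u ∈ P, Commute x u) :
    IsIntegral ℤ ((Nat.card P : ℂ)⁻¹ * ∑ u : P, χ (x * u)) := by
  obtain ⟨n, ρ, rfl⟩ := hχ
  exact isIntegral_avg_rep ρ P x hx

end Cfsg.Agent.Blocks.AvgTrace
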