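import Mathlib
import Cfsg.Prelude.Def_Blocks
import Cfsg.Agent.Blocks.Local
import Cfsg.Agent.Blocks.ClassSum
import Cfsg.Agent.Blocks.AvgTrace
import Cfsg.Agent.Characters.Core
import Cfsg.Agent.Characters.Values
import Cfsg.Agent.S0141
import Cfsg.Agent.S0145
import Cfsg.Agent.S0906
import Cfsg.Agent.S0907
import Cfsg.Agent.S0952
set_option linter.all false

/-!
# Characters of height zero and the scalar product over the p-regular elements

`regSum p ζ χ = ∑_{x p-regular} conj (χ x) * (ζ x / ζ 1)` is the value of the central character of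
`ζ` at `∑_{x p-regular} conj (χ x) x`.

* `regSum_eq_zero`: it is zero when `ζ`, `χ` are in different blocks (weak block orthogonality);
* `memLocalIdeal_regSum_sub`: modulo `M` it depends only on the block of `ζ`;
* `not_memLocalIdeal_regSum`: if `χ` has height zero in its block `B` and `ζ ∈ B`, it is a unit.
-/

set_option autoImplicit false

namespace Cfsg.Agent.Blocks.HeightZero

open Cfsg
open scoped ComplexConjugate

variable {G : Type*} [Group G]

/-- coefficients of the central element attached to `χ` -/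
noncomputable def regCoeff (p : ℕ) (χ : G → ℂ) : G → ℂ :=
  open Classical in fun x => if p ∣ orderOf x then 0 else conj (χ x)

theorem regCoeff_of_dvd {p : ℕ} (χ : G → ℂ) {x : G} (h : p ∣ orderOf x) :
    regCoeff p χ x = 0 := by
  simp [regCoeff, h]

theorem regCoeff_of_not_dvd {p : ℕ} (χ : G → ℂ) {x : G} (h : ¬ p ∣ orderOf x) :
    regCoeff p χ x = conj (χ x) := by
  simp [regCoeff, h]

/-- value of the central character of `ζ` at the central element attached to `χ` -/
noncomputable def regSum [Fintype G] (p : ℕ) (ζ χ : G → ℂ) : ℂ :=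
  ∑ x : G, regCoeff p χ x * (ζ x / ζ 1)

theorem orderOf_conj (g h : G) : orderOf (h * g * h⁻¹) = orderOf g := by
  have := orderOf_injective (MulAut.conj h).toMonoidHom (MulAut.conj h).injective g
  simpa using this

theorem orderOf_eq_of_isConj {g h : G} (hc : IsConj g h) : orderOf h = orderOf g := by
  obtain ⟨c, rfl⟩ := isConj_iff.1 hc
  exact orderOf_conj g c

theorem isClassFunction_regCoeff {p : ℕ} {χ : G → ℂ} (hχ : IsClassFunction G χ) :
    IsClassFunction G (regCoeff p χ) := by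
  intro g h
  by_cases hg : p ∣ orderOf g
  · rw [regCoeff_of_dvd χ hg, regCoeff_of_dvd χ (by rwa [orderOf_conj])]
  · rw [regCoeff_of_not_dvd χ hg, regCoeff_of_not_dvd χ (by rwa [orderOf_conj]), hχ]

theorem isIntegral_conj {z : ℂ} (h : IsIntegral ℤ z) : IsIntegral ℤ (conj z) := by
  exact h.map (starRingEnd ℂ : ℂ →+* ℂ).toIntAlgHom

theorem isIntegral_character {χ : G → ℂ} [Finite G] (hχ : IsCharacter G χ) (g : G) :
    IsIntegral ℤ (χ g) := by
  obtain ⟨n, ρ, rfl⟩ := hχ
  exact Characters.Values.character_isIntegral ρ g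

theorem memLocalRing_regCoeff {p : ℕ} {M : Ideal AlgInt} [M.IsPrime] [Finite G] {χ : G → ℂ}
    (hχ : IsCharacter G χ) (g : G) : MemLocalRing M (regCoeff p χ g) := by
  by_cases hg : p ∣ orderOf g
  · rw [regCoeff_of_dvd χ hg]
    exact Local.memLocalRing_zero
  · rw [regCoeff_of_not_dvd χ hg]
    exact Local.memLocalRing_of_isIntegral (isIntegral_conj (isIntegral_character hχ g))

theorem isIntegral_centralChar [Finite G] (χ : IrrCharacter G) (g : G) :
    IsIntegral ℤ (centralChar (χ : G → ℂ) g) := by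
  obtain ⟨χ, n, ρ, hρ, rfl⟩ := χ
  have := S0141.result ρ g
  unfold centralChar
  simpa using this

theorem irr_isClassFunction (χ : IrrCharacter G) : IsClassFunction G (χ : G → ℂ) :=
  Characters.Core.isIrr_isClassFunction χ.2

theorem memLocalIdeal_regSum_sub {p : ℕ} {M : Ideal AlgInt} [M.IsPrime] [Fintype G]
    (ζ ζ' χ : IrrCharacter G) (h : SameBlock M (ζ : G → ℂ) (ζ' : G → ℂ)) :
    MemLocalIdeal M (regSum p (ζ : G → ℂ) (χ : G → ℂ) - regSum p (ζ' : G → ℂ) (χ : G → ℂ)) :=
  ClassSum.memLocalIdeal_of_sameBlock (irr_isClassFunction ζ) (irr_isClassFunction ζ') h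
    (isClassFunction_regCoeff (irr_isClassFunction χ))
    (memLocalRing_regCoeff (Characters.Core.isIrr_isCharacter χ.2))

theorem memLocalRing_regSum {p : ℕ} {M : Ideal AlgInt} [M.IsPrime] [Fintype G]
    (ζ χ : IrrCharacter G) : MemLocalRing M (regSum p (ζ : G → ℂ) (χ : G → ℂ)) :=
  ClassSum.memLocalRing_sum (irr_isClassFunction ζ)
    (fun g => Local.memLocalRing_of_isIntegral (isIntegral_centralChar ζ g))
    (isClassFunction_regCoeff (irr_isClassFunction χ))
    (memLocalRing_regCoeff (Characters.Core.isIrr_isCharacter χ.2))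

theorem regSum_eq_finsum [Fintype G] (p : ℕ) (ζ χ : G → ℂ) :
    regSum p ζ χ = (∑ᶠ x ∈ {x : G | ¬ p ∣ orderOf x}, ζ x * conj (χ x)) / ζ 1 := by
  classical
  rw [finsum_mem_eq_finite_toFinset_sum _ (Set.toFinite _), Finset.sum_div]
  unfold regSum
  symm
  have : ∀ x ∈ (Set.toFinite {x : G | ¬ p ∣ orderOf x}).toFinset,
      ζ x * conj (χ x) / ζ 1 = regCoeff p χ x * (ζ x / ζ 1) := by
    intro x hx
    have hx' : ¬ p ∣ orderOf x := by simpa using hx
    rw [regCoeff_of_not_dvd χ hx']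
    ring
  rw [Finset.sum_congr rfl this]
  refine Finset.sum_subset (Finset.subset_univ _) ?_
  intro x _ hx
  have hx' : p ∣ orderOf x := by simpa using hx
  rw [regCoeff_of_dvd χ hx', zero_mul]

/-- weak block orthogonality -/
theorem regSum_eq_zero [Fintype G] {p : ℕ} [Fact p.Prime] {M : Ideal AlgInt} (hM : IsPModular p M)
    (ζ χ : IrrCharacter G) (h : ¬ SameBlock M (ζ : G → ℂ) (χ : G → ℂ)) :
    regSum p (ζ : G → ℂ) (χ : G → ℂ) = 0 := by
  rw [regSum_eq_finsum, S0952.result p M hM ζ χ h, zero_div]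

theorem irr_apply_one_ne_zero (χ : IrrCharacter G) : (χ : G → ℂ) 1 ≠ 0 := by
  obtain ⟨n, hn, h⟩ := Characters.Core.isIrr_apply_one χ.2
  rw [h]
  exact_mod_cast hn.ne'

/-- symmetry -/
theorem mul_regSum_comm [Fintype G] (p : ℕ) (ζ χ : IrrCharacter G) :
    (ζ : G → ℂ) 1 * regSum p (ζ : G → ℂ) (χ : G → ℂ) =
      (χ : G → ℂ) 1 * regSum p (χ : G → ℂ) (ζ : G → ℂ) := by
  have h1 : ∀ ζ χ : IrrCharacter G, (ζ : G → ℂ) 1 * regSum p (ζ : G → ℂ) (χ : G → ℂ) =
      ∑ x : G, regCoeff p (χ : G → ℂ) x * (ζ : G → ℂ) x := by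
    intro ζ χ
    unfold regSum
    rw [Finset.mul_sum]
    refine Finset.sum_congr rfl fun x _ => ?_
    have := irr_apply_one_ne_zero ζ
    field_simp
  rw [h1, h1]
  refine Fintype.sum_equiv (Equiv.inv G) _ _ ?_
  intro x
  simp only [Equiv.inv_apply]
  by_cases hx : p ∣ orderOf x
  · rw [regCoeff_of_dvd _ hx, regCoeff_of_dvd _ (by rwa [orderOf_inv]), zero_mul, zero_mul]
  · rw [regCoeff_of_not_dvd _ hx, regCoeff_of_not_dvd _ (by rwa [orderOf_inv]),
      Characters.Core.isCharacter_apply_inv (Characters.Core.isIrr_isCharacter ζ.2),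
      Characters.Core.isCharacter_apply_inv (Characters.Core.isIrr_isCharacter χ.2),
      Complex.conj_conj, mul_comm]

/-- For `x` `p`-regular, the indicator of the class of `x` among the `p`-regular elements is a
combination of the `conj χ` with coefficients in the local ring. -/
theorem exists_coeff [Fintype G] [Fintype (IrrCharacter G)] {p : ℕ} [Fact p.Prime]
    {M : Ideal AlgInt} (hM : IsPModular p M) (x : G) (hx : ¬ p ∣ orderOf x) :
    ∃ c : IrrCharacter G → ℂ, (∀ χ, MemLocalRing M (c χ)) ∧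
      ∀ y : G, ¬ p ∣ orderOf y →
        (IsConj x y → ∑ χ : IrrCharacter G, c χ * conj ((χ : G → ℂ) y) = 1) ∧
        (¬ IsConj x y → ∑ χ : IrrCharacter G, c χ * conj ((χ : G → ℂ) y) = 0) := by
  classical
  have hMp : M.IsPrime := Local.isPrime_of_isPModular hM
  set C := Subgroup.centralizer ({x} : Set G) with hC
  obtain ⟨P⟩ : Nonempty (Sylow p C) := inferInstance
  set Q : Subgroup G := (P : Subgroup C).map C.subtype with hQ
  have hQcard : Nat.card Q = Nat.card P :=
    Subgroup.card_map_of_injective C.subtype_injective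
  have hQp : IsPGroup p Q := P.isPGroup'.map _
  have hQC : Q ≤ C := Subgroup.map_subtype_le _
  have hcomm : ∀ u ∈ Q, Commute x u := by
    intro u hu
    exact (Subgroup.mem_centralizer_singleton_iff.1 (hQC hu)).symm
  have hord : ∀ u : Q, u ≠ 1 → p ∣ orderOf (x * (u : G)) := by
    intro u hu
    obtain ⟨k, hk⟩ := IsPGroup.iff_orderOf.1 hQp u
    have hk' : orderOf (u : G) = p ^ k := by rw [Subgroup.orderOf_coe, hk]
    have hk0 : k ≠ 0 := by
      rintro rfl
      rw [pow_zero, orderOf_eq_one_iff] at hk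
      exact hu hk
    have hcop : (orderOf x).Coprime (orderOf (u : G)) := by
      rw [hk']
      exact Nat.Coprime.pow_right _ ((Nat.Prime.coprime_iff_not_dvd hM.1).2 hx).symm
    rw [(hcomm u u.2).orderOf_mul_eq_mul_orderOf_of_coprime hcop, hk']
    exact Dvd.dvd.mul_left (dvd_pow_self p hk0) _
  have hCpos : (Nat.card C : ℂ) ≠ 0 := by exact_mod_cast Nat.card_pos.ne'
  refine ⟨fun χ => (Nat.card C : ℂ)⁻¹ * ∑ u : Q, (χ : G → ℂ) (x * u), ?_, ?_⟩
  · intro χ
    have hidx : Nat.card C = (P : Subgroup C).index * Nat.card Q := by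
      rw [hQcard]
      exact (Subgroup.index_mul_card _).symm
    have hnd : ¬ p ∣ (P : Subgroup C).index := P.not_dvd_index
    have : (Nat.card C : ℂ)⁻¹ * ∑ u : Q, (χ : G → ℂ) (x * u) =
        ((P : Subgroup C).index : ℂ)⁻¹ * ((Nat.card Q : ℂ)⁻¹ * ∑ u : Q, (χ : G → ℂ) (x * u)) := by
      rw [hidx]
      push_cast
      rw [mul_inv]
      ring
    show MemLocalRing M ((Nat.card C : ℂ)⁻¹ * ∑ u : Q, (χ : G → ℂ) (x * u))
    rw [this]
    exact Local.memLocalRing_mul (Local.memLocalRing_inv_natCast hM hnd)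
      (Local.memLocalRing_of_isIntegral
        (AvgTrace.isIntegral_avg (Characters.Core.isIrr_isCharacter χ.2) Q x hcomm))
  · intro y hy
    show (IsConj x y → ∑ χ : IrrCharacter G, ((Nat.card C : ℂ)⁻¹ *
      ∑ u : Q, (χ : G → ℂ) (x * u)) * conj ((χ : G → ℂ) y) = 1) ∧
        (¬ IsConj x y → ∑ χ : IrrCharacter G, ((Nat.card C : ℂ)⁻¹ *
      ∑ u : Q, (χ : G → ℂ) (x * u)) * conj ((χ : G → ℂ) y) = 0)
    have key : ∑ χ : IrrCharacter G, ((Nat.card C : ℂ)⁻¹ * ∑ u : Q, (χ : G → ℂ) (x * u)) *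
        conj ((χ : G → ℂ) y) = (Nat.card C : ℂ)⁻¹ * ∑ u : Q,
          ∑ χ : IrrCharacter G, (χ : G → ℂ) (x * u) * conj ((χ : G → ℂ) y) := by
      rw [Finset.sum_comm, Finset.mul_sum]
      refine Finset.sum_congr rfl fun χ _ => ?_
      rw [mul_assoc, Finset.sum_mul]
    have key2 : ∑ u : Q, ∑ χ : IrrCharacter G, (χ : G → ℂ) (x * u) * conj ((χ : G → ℂ) y) =
        ∑ χ : IrrCharacter G, (χ : G → ℂ) x * conj ((χ : G → ℂ) y) := by
      rw [Finset.sum_eq_single (1 : Q)]
      · simp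
      · intro u _ hu
        rw [S0145.sum_irr_mul_conj, if_neg]
        intro hc
        apply hy
        rw [orderOf_eq_of_isConj hc]
        exact hord u hu
      · intro h; exact absurd (Finset.mem_univ _) h
    rw [key, key2, S0145.sum_irr_mul_conj]
    refine ⟨fun hc => ?_, fun hc => ?_⟩
    · rw [if_pos hc]
      have h1 : Nat.card (Subgroup.centralizer ({y} : Set G)) = Nat.card C := by
        have e1 := S0145.card_centralizer_mul_card_class x
        have e2 := S0145.card_centralizer_mul_card_class y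
        have e3 : (Finset.univ.filter (fun z : G => IsConj z x)) =
            Finset.univ.filter (fun z : G => IsConj z y) := by
          ext z
          simp only [Finset.mem_filter, Finset.mem_univ, true_and]
          exact ⟨fun h => h.trans hc, fun h => h.trans hc.symm⟩
        rw [e3, ← e2] at e1
        refine (Nat.eq_of_mul_eq_mul_right ?_ e1).symm
        apply Finset.card_pos.2
        exact ⟨y, Finset.mem_filter.2 ⟨Finset.mem_univ _, IsConj.refl y⟩⟩
      rw [h1]
      exact inv_mul_cancel₀ hCpos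
    · rw [if_neg hc, mul_zero]

/-- Every irreducible character `ζ` has some `χ` with `regSum p ζ χ` a unit. -/
theorem exists_not_memLocalIdeal_regSum [Fintype G] {p : ℕ} [Fact p.Prime] {M : Ideal AlgInt}
    (hM : IsPModular p M) (ζ : IrrCharacter G) :
    ∃ χ : IrrCharacter G, SameBlock M (ζ : G → ℂ) (χ : G → ℂ) ∧
      ¬ MemLocalIdeal M (regSum p (ζ : G → ℂ) (χ : G → ℂ)) := by
  classical
  have hMp : M.IsPrime := Local.isPrime_of_isPModular hM
  have hfin : Finite (IrrCharacter G) := Characters.Core.finite_irr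
  have : Fintype (IrrCharacter G) := Fintype.ofFinite _
  have hζ : ζ ∈ blockOf M (ζ : G → ℂ) := Induced.sameBlock_refl hMp _
  obtain ⟨x, hx1, hx2, hx3⟩ := S0906.result p M hM (blockOf M (ζ : G → ℂ)) ⟨ζ, rfl⟩
  have hxreg : ¬ p ∣ orderOf x := by
    intro hdvd
    apply hx2
    have h0 := S0907.result p M hM (blockOf M (ζ : G → ℂ)) ⟨ζ, rfl⟩ 1 x
      (by rw [orderOf_one]; exact fun h => hM.1.one_lt.ne' (Nat.dvd_one.1 h)) hdvd
    unfold blockCoeff
    rw [h0, mul_zero]
    exact Local.memLocalIdeal_zero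
  obtain ⟨c, hcR, hc⟩ := exists_coeff hM x hxreg
  have hsum : centralChar (ζ : G → ℂ) x =
      ∑ χ : IrrCharacter G, c χ * regSum p (ζ : G → ℂ) (χ : G → ℂ) := by
    have h1 : ∑ χ : IrrCharacter G, c χ * regSum p (ζ : G → ℂ) (χ : G → ℂ) =
        ∑ y : G, (∑ χ : IrrCharacter G, c χ * regCoeff p (χ : G → ℂ) y) *
          ((ζ : G → ℂ) y / (ζ : G → ℂ) 1) := by
      unfold regSum
      rw [Finset.sum_congr rfl (fun χ _ => Finset.mul_sum _ _ _), Finset.sum_comm]
      refine Finset.sum_congr rfl fun y _ => ?_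
      rw [Finset.sum_mul]
      refine Finset.sum_congr rfl fun χ _ => ?_
      ring
    have h2 : ∀ y : G, ∑ χ : IrrCharacter G, c χ * regCoeff p (χ : G → ℂ) y =
        if IsConj x y then 1 else 0 := by
      intro y
      by_cases hy : p ∣ orderOf y
      · have hnc : ¬ IsConj x y := by
          intro hcj
          apply hxreg
          rwa [orderOf_eq_of_isConj hcj] at hy
        rw [if_neg hnc]
        refine Finset.sum_eq_zero fun χ _ => ?_
        rw [regCoeff_of_dvd _ hy, mul_zero]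
      · have h3 : ∑ χ : IrrCharacter G, c χ * regCoeff p (χ : G → ℂ) y =
            ∑ χ : IrrCharacter G, c χ * conj ((χ : G → ℂ) y) := by
          refine Finset.sum_congr rfl fun χ _ => ?_
          rw [regCoeff_of_not_dvd _ hy]
        rw [h3]
        split_ifs with hcj
        · exact (hc y hy).1 hcj
        · exact (hc y hy).2 hcj
    rw [h1, Finset.sum_congr rfl (fun y _ => by rw [h2 y])]
    rw [← ClassSum.finsum_conj_div (irr_isClassFunction ζ) x,
      finsum_mem_eq_finite_toFinset_sum _ (Set.toFinite _)]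
    have h4 : ∀ y : G, (if IsConj x y then (1 : ℂ) else 0) * ((ζ : G → ℂ) y / (ζ : G → ℂ) 1) =
        if IsConj x y then ((ζ : G → ℂ) y / (ζ : G → ℂ) 1) else 0 := by
      intro y
      split_ifs <;> simp
    rw [Finset.sum_congr rfl (fun y _ => h4 y), ← Finset.sum_filter]
    refine Finset.sum_congr ?_ fun _ _ => rfl
    ext y
    simp
  have hne : ¬ MemLocalIdeal M (centralChar (ζ : G → ℂ) x) := hx3 ζ hζ
  rw [hsum] at hne
  obtain ⟨χ, -, hχ⟩ := Local.exists_not_memLocalIdeal_of_sum hne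
  have hχ' : ¬ MemLocalIdeal M (regSum p (ζ : G → ℂ) (χ : G → ℂ)) :=
    fun h => hχ (Local.memLocalIdeal_mul_left (hcR χ) h)
  refine ⟨χ, ?_, hχ'⟩
  by_contra hns
  apply hχ'
  rw [regSum_eq_zero hM ζ χ hns]
  exact Local.memLocalIdeal_zero

theorem sameBlock_symm {M : Ideal AlgInt} [M.IsPrime] {χ ψ : G → ℂ} (h : SameBlock M χ ψ) :
    SameBlock M ψ χ := fun g => Local.memLocalIdeal_sub_comm (h g)

theorem sameBlock_trans {M : Ideal AlgInt} [M.IsPrime] {χ ψ θ : G → ℂ} (h : SameBlock M χ ψ)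
    (h' : SameBlock M ψ θ) : SameBlock M χ θ := fun g => Local.memLocalIdeal_sub_trans (h g) (h' g)

theorem charDegree_cast (χ : IrrCharacter G) : ((charDegree (χ : G → ℂ) : ℕ) : ℂ) =
    (χ : G → ℂ) 1 ∧ charDegree (χ : G → ℂ) ≠ 0 := by
  obtain ⟨n, hn, h⟩ := Characters.Core.isIrr_apply_one χ.2
  have : charDegree (χ : G → ℂ) = n := by
    unfold charDegree
    rw [h]
    simp
  rw [this, h]
  exact ⟨rfl, hn.ne'⟩

theorem factorization_le_of_blockHeight_eq_zero {p : ℕ} {B : Set (IrrCharacter G)}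
    {χ : G → ℂ} (h0 : blockHeight p B χ = 0) {ψ : IrrCharacter G} (hψ : ψ ∈ B) :
    (charDegree χ).factorization p ≤ (charDegree (ψ : G → ℂ)).factorization p := by
  have h1 := Nat.sub_eq_zero_iff_le.1 h0
  exact h1.trans (Nat.sInf_le ⟨ψ, hψ, rfl⟩)

/-- If `regSum p ζ χ` is a unit then so is `regSum p χ ζ`, provided `ν(ζ(1)) ≤ ν(χ(1))`. -/
theorem not_memLocalIdeal_regSum_symm [Fintype G] {p : ℕ} [Fact p.Prime] {M : Ideal AlgInt}
    (hM : IsPModular p M) (ζ χ : IrrCharacter G)
    (hle : (charDegree (ζ : G → ℂ)).factorization p ≤ (charDegree (χ : G → ℂ)).factorization p)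
    (h : ¬ MemLocalIdeal M (regSum p (ζ : G → ℂ) (χ : G → ℂ))) :
    ¬ MemLocalIdeal M (regSum p (χ : G → ℂ) (ζ : G → ℂ)) := by
  have hMp : M.IsPrime := Local.isPrime_of_isPModular hM
  intro hcon
  have hcomm := mul_regSum_comm p ζ χ
  obtain ⟨hζ1, hζ0⟩ := charDegree_cast ζ
  obtain ⟨hχ1, hχ0⟩ := charDegree_cast χ
  set m := charDegree (ζ : G → ℂ) with hm
  set n := charDegree (χ : G → ℂ) with hn
  set a := m.factorization p with ha
  set b := n.factorization p with hb
  have hm' : m = p ^ a * (m / p ^ a) := (Nat.ordProj_mul_ordCompl_eq_self m p).symm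
  have hn' : n = p ^ b * (n / p ^ b) := (Nat.ordProj_mul_ordCompl_eq_self n p).symm
  have hmnd : ¬ p ∣ m / p ^ a := Nat.not_dvd_ordCompl hM.1 hζ0
  rw [← hζ1, ← hχ1, hm', hn'] at hcomm
  have hp0 : (p : ℂ) ^ a ≠ 0 := pow_ne_zero _ (by exact_mod_cast hM.1.ne_zero)
  have hpow : (p : ℂ) ^ b = (p : ℂ) ^ a * (p : ℂ) ^ (b - a) := by
    rw [← pow_add, Nat.add_sub_cancel' hle]
  push_cast at hcomm
  rw [hpow] at hcomm
  have h2 : ((m / p ^ a : ℕ) : ℂ) * regSum p (ζ : G → ℂ) (χ : G → ℂ) =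
      (p : ℂ) ^ (b - a) * ((n / p ^ b : ℕ) : ℂ) * regSum p (χ : G → ℂ) (ζ : G → ℂ) := by
    apply mul_left_cancel₀ hp0
    linear_combination hcomm
  have h3 : MemLocalIdeal M (((m / p ^ a : ℕ) : ℂ) * regSum p (ζ : G → ℂ) (χ : G → ℂ)) := by
    rw [h2]
    exact Local.memLocalIdeal_mul_left (Local.memLocalRing_mul
      (Local.memLocalRing_pow (Local.memLocalRing_natCast p) _)
      (Local.memLocalRing_natCast _)) hcon
  rcases Local.memLocalIdeal_or_of_mul (Local.memLocalRing_natCast _)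
    (memLocalRing_regSum ζ χ) h3 with h4 | h4
  · exact hmnd ((Local.memLocalIdeal_natCast_iff hM _).1 h4)
  · exact h h4

/-- If `χ` has height zero in its block, and `ζ` is in the block of `χ`, then `regSum p ζ χ` is a
unit modulo `M`. -/
theorem not_memLocalIdeal_regSum [Fintype G] {p : ℕ} [Fact p.Prime] {M : Ideal AlgInt}
    (hM : IsPModular p M) (ζ χ : IrrCharacter G)
    (h0 : blockHeight p (blockOf M (χ : G → ℂ)) (χ : G → ℂ) = 0)
    (h : SameBlock M (χ : G → ℂ) (ζ : G → ℂ)) :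
    ¬ MemLocalIdeal M (regSum p (ζ : G → ℂ) (χ : G → ℂ)) := by
  have hMp : M.IsPrime := Local.isPrime_of_isPModular hM
  obtain ⟨θ, hθ, hunit⟩ := exists_not_memLocalIdeal_regSum hM χ
  have h1 := not_memLocalIdeal_regSum_symm hM χ θ
    (factorization_le_of_blockHeight_eq_zero h0 hθ) hunit
  intro hcon
  apply h1
  have h2 : SameBlock M (θ : G → ℂ) (ζ : G → ℂ) := sameBlock_trans (sameBlock_symm hθ) h
  exact (Local.memLocalIdeal_iff_of_sub (memLocalIdeal_regSum_sub θ ζ χ h2)).2 hcon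

/-- A partial converse: if `regSum p ζ χ` is a unit for one `ζ` in the block of `χ`, then `χ` has
the smallest `p`-part of the degree in its block. -/
theorem factorization_le_of_not_memLocalIdeal_regSum [Fintype G] {p : ℕ} [Fact p.Prime]
    {M : Ideal AlgInt} (hM : IsPModular p M) (ζ χ η : IrrCharacter G)
    (h : SameBlock M (χ : G → ℂ) (ζ : G → ℂ)) (h' : SameBlock M (χ : G → ℂ) (η : G → ℂ))
    (hunit : ¬ MemLocalIdeal M (regSum p (ζ : G → ℂ) (χ : G → ℂ))) :
    (charDegree (χ : G → ℂ)).factorization p ≤ (charDegree (η : G → ℂ)).factorization p := by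
  have hMp : M.IsPrime := Local.isPrime_of_isPModular hM
  have hη : ¬ MemLocalIdeal M (regSum p (η : G → ℂ) (χ : G → ℂ)) := fun hcon => hunit
    ((Local.memLocalIdeal_iff_of_sub
      (memLocalIdeal_regSum_sub ζ η χ (sameBlock_trans (sameBlock_symm h) h'))).2 hcon)
  by_contra hlt
  push Not at hlt
  apply hη
  have hcomm := mul_regSum_comm p η χ
  obtain ⟨hη1, hη0⟩ := charDegree_cast η
  obtain ⟨hχ1, hχ0⟩ := charDegree_cast χ
  set m := charDegree (η : G → ℂ) with hm
  set n := charDegree (χ : G → ℂ) with hn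
  set a := m.factorization p with ha
  set b := n.factorization p with hb
  have hm' : m = p ^ a * (m / p ^ a) := (Nat.ordProj_mul_ordCompl_eq_self m p).symm
  have hn' : n = p ^ b * (n / p ^ b) := (Nat.ordProj_mul_ordCompl_eq_self n p).symm
  have hmnd : ¬ p ∣ m / p ^ a := Nat.not_dvd_ordCompl hM.1 hη0
  rw [← hη1, ← hχ1, hm', hn'] at hcomm
  have hp0 : (p : ℂ) ^ a ≠ 0 := pow_ne_zero _ (by exact_mod_cast hM.1.ne_zero)
  obtain ⟨k, hk⟩ : ∃ k, b = a + (k + 1) := ⟨b - a - 1, by omega⟩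
  have hpow : (p : ℂ) ^ b = (p : ℂ) ^ a * ((p : ℂ) * (p : ℂ) ^ k) := by
    rw [hk]; ring
  push_cast at hcomm
  rw [hpow] at hcomm
  have h2 : ((m / p ^ a : ℕ) : ℂ) * regSum p (η : G → ℂ) (χ : G → ℂ) =
      (p : ℂ) * ((p : ℂ) ^ k * ((n / p ^ b : ℕ) : ℂ) * regSum p (χ : G → ℂ) (η : G → ℂ)) := by
    apply mul_left_cancel₀ hp0
    linear_combination hcomm
  have h3 : MemLocalIdeal M (((m / p ^ a : ℕ) : ℂ) * regSum p (η : G → ℂ) (χ : G → ℂ)) := by
    rw [h2]
    exact Local.memLocalIdeal_mul_right (Local.memLocalIdeal_p hM)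
      (Local.memLocalRing_mul (Local.memLocalRing_mul
      (Local.memLocalRing_pow (Local.memLocalRing_natCast p) _)
      (Local.memLocalRing_natCast _)) (memLocalRing_regSum χ η))
  rcases Local.memLocalIdeal_or_of_mul (Local.memLocalRing_natCast _)
    (memLocalRing_regSum η χ) h3 with h4 | h4
  · exact absurd ((Local.memLocalIdeal_natCast_iff hM _).1 h4) hmnd
  · exact h4

end Cfsg.Agent.Blocks.HeightZero
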