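import Cfsg.Prelude.Def_Blocks
import Cfsg.Prelude.Def_Solvable
import Cfsg.Agent.Lib.Cores
import Cfsg.Agent.Blocks.CentralizerSum
import Cfsg.Agent.OddOrderCharacters.InducedSum
import Cfsg.Agent.S0919
import Cfsg.Agent.S0936
import Cfsg.Agent.S0939
set_option linter.all false

/-!
# The principal block at a `p`-section

* `mem_principalBlock_iff_induced` : for the centralizer `H` of a `p`-element, the block of `ξ ∈ Irr H` induces the
  principal block of `G` iff `ξ` is in the principal block of `H`.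
* `sum_principalBlock_section` : the sum of `ζ (z y) * conj (ζ (z y'))` over the principal block of `G` is the sum
  of `ξ y * conj (ξ y')` over the principal block of `C_G(z)`.
* `sum_principalBlock_of_pComplement` : the latter sum for a group with a normal `p`-complement.
-/

set_option autoImplicit false

open Cfsg Cfsg.Agent.Blocks.Basic Cfsg.Agent.Blocks.Local
open scoped ComplexConjugate

namespace Cfsg.Agent.Blocks.PrincipalSection

variable {G : Type*} [Group G] [Finite G] {p : ℕ} [Fact p.Prime] {M : Ideal AlgInt}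

theorem isPBlock_principalBlock {K : Type*} [Group K] {M : Ideal AlgInt} :
    IsPBlock M (principalBlock M K) :=
  ⟨⟨fun _ => 1, isIrrCharacter_one⟩, rfl⟩

theorem mem_principalBlock_iff {K : Type*} [Group K] {M : Ideal AlgInt} {ξ : IrrCharacter K} :
    ξ ∈ principalBlock M K ↔ SameBlock M (fun _ : K => (1 : ℂ)) (ξ : K → ℂ) := Iff.rfl

theorem one_mem_principalBlock {K : Type*} [Group K] {M : Ideal AlgInt} [M.IsPrime] :
    (⟨fun _ => 1, isIrrCharacter_one⟩ : IrrCharacter K) ∈ principalBlock M K :=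
  sameBlock_refl _

theorem mem_principalBlock_iff_induced (hM : IsPModular p M) (z : G)
    (hz : ∃ k : ℕ, orderOf z = p ^ k) {H : Subgroup G}
    (hH : H = Subgroup.centralizer ({z} : Set G)) (ξ : IrrCharacter H) :
    ξ ∈ principalBlock M H ↔
      IsInducedBlock M H (blockOf M (ξ : H → ℂ)) (principalBlock M G) := by
  have := isPrime_of_isPModular hM
  obtain ⟨k, hk⟩ := hz
  have hzH : z ∈ H := hH ▸ Subgroup.mem_centralizer_singleton_iff.2 rfl
  have hP : IsPGroup p (Subgroup.zpowers z) := by
    refine IsPGroup.of_card (n := k) ?_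
    rw [Nat.card_zpowers, hk]
  have hcent : Subgroup.centralizer ((Subgroup.zpowers z : Subgroup G) : Set G) = H := by
    rw [hH]
    ext x
    rw [Subgroup.mem_centralizer_singleton_iff]
    constructor
    · intro h
      exact (Subgroup.mem_centralizer_iff.1 h z (Subgroup.mem_zpowers z)).symm
    · intro h
      rw [Subgroup.mem_centralizer_iff]
      rintro w ⟨n, rfl⟩
      exact (show Commute z x from h.symm).zpow_left n
  have hdef := S0919.result p M hM (Subgroup.zpowers z) H hP
    ((Subgroup.zpowers_le).2 hzH) hcent.le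
    (by rw [← hcent]; exact Subgroup.centralizer_le_normalizer _)
    (blockOf M (ξ : H → ℂ)) (isPBlock_blockOf ξ)
  rw [S0936.result p M hM H _ hdef]
  constructor
  · intro h
    exact (blockOf_eq_of_sameBlock (mem_principalBlock_iff.1 h)).symm
  · intro h
    rw [← h]
    exact mem_blockOf_self ξ

theorem sum_principalBlock_section (hM : IsPModular p M) (z : G)
    (hz : ∃ k : ℕ, orderOf z = p ^ k) {H : Subgroup G}
    (hH : H = Subgroup.centralizer ({z} : Set G)) (y y' : H) (hy : ¬ p ∣ orderOf y)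
    (hy' : ¬ p ∣ orderOf y') :
    ∑ᶠ ζ ∈ principalBlock M G, (ζ : G → ℂ) (z * (y : G)) * conj ((ζ : G → ℂ) (z * (y' : G))) =
      ∑ᶠ ξ ∈ principalBlock M H, (ξ : H → ℂ) y * conj ((ξ : H → ℂ) y') :=
  CentralizerSum.sum_section hM z hz hH isPBlock_principalBlock
    (mem_principalBlock_iff_induced hM z hz hH) y y' hy hy'

/-- `p`-regular elements of a group with a normal `p`-complement lie in the complement. -/
theorem mem_pPrimeCore_of_regular {K : Type*} [Group K] [Finite K]
    (hnc : ∃ k : ℕ, (pPrimeCore p K).index = p ^ k) {y : K} (hy : ¬ p ∣ orderOf y) :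
    y ∈ pPrimeCore p K := by
  have hp : p.Prime := Fact.out
  have hN : (pPrimeCore p K).Normal := Lib.Cores.pPrimeCore_normal p
  obtain ⟨k, hk⟩ := hnc
  rw [← QuotientGroup.eq_one_iff]
  have h1 : orderOf (y : K ⧸ pPrimeCore p K) ∣ orderOf y :=
    orderOf_map_dvd (QuotientGroup.mk' (pPrimeCore p K)) y
  have h2 : orderOf (y : K ⧸ pPrimeCore p K) ∣ p ^ k := by
    rw [← hk, Subgroup.index]
    exact orderOf_dvd_natCard _
  have h3 : Nat.Coprime (orderOf y) (p ^ k) :=
    (Nat.Coprime.pow_left _ ((Nat.Prime.coprime_iff_not_dvd hp).2 hy)).symm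
  exact orderOf_eq_one_iff.1 (Nat.eq_one_of_dvd_coprimes h3 h1 h2)

/-- The index of the `p'`-core, when a power of `p`, is the `p`-part of the order. -/
theorem index_pPrimeCore_eq {K : Type*} [Group K] [Finite K]
    (hnc : ∃ k : ℕ, (pPrimeCore p K).index = p ^ k) :
    (pPrimeCore p K).index = p ^ (Nat.card K).factorization p := by
  have hp : p.Prime := Fact.out
  obtain ⟨k, hk⟩ := hnc
  have h1 := (pPrimeCore p K).card_mul_index
  have h2 : ¬ p ∣ Nat.card (pPrimeCore p K) :=
    (Nat.Prime.coprime_iff_not_dvd hp).1 (Lib.Cores.pPrimeCore_coprime p).symm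
  rw [← h1, Nat.factorization_mul Nat.card_pos.ne' (by rw [hk]; exact pow_ne_zero _ hp.ne_zero),
    Finsupp.add_apply, Nat.factorization_eq_zero_of_not_dvd h2, zero_add, hk,
    Nat.factorization_pow_self hp]

theorem sum_principalBlock_of_pComplement {K : Type*} [Group K] [Finite K] (hM : IsPModular p M)
    (hnc : ∃ k : ℕ, (pPrimeCore p K).index = p ^ k) {y y' : K} (hy : ¬ p ∣ orderOf y)
    (hy' : ¬ p ∣ orderOf y') :
    ∑ᶠ ξ ∈ principalBlock M K, (ξ : K → ℂ) y * conj ((ξ : K → ℂ) y') =
      ((p ^ (Nat.card K).factorization p : ℕ) : ℂ) := by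
  classical
  have := Fintype.ofFinite K
  have : Finite (IrrCharacter K) := Characters.Core.finite_irr
  have := Fintype.ofFinite (IrrCharacter K)
  have hN : (pPrimeCore p K).Normal := Lib.Cores.pPrimeCore_normal p
  have h1 := OddOrderCharacters.InducedSum.sum_above (pPrimeCore p K) 1
  rw [if_pos (one_mem _), index_pPrimeCore_eq hnc] at h1
  rw [← h1, finsum_mem_eq_toFinset_sum, ← Finset.sum_filter]
  refine Finset.sum_congr ?_ ?_
  · ext ξ
    rw [Set.mem_toFinset, S0939.result p M hM hnc]
    simp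
  · intro ξ hξ
    have h2 : ∀ n ∈ pPrimeCore p K, (ξ : K → ℂ) n = (ξ : K → ℂ) 1 := by simpa using hξ
    rw [h2 y (mem_pPrimeCore_of_regular hnc hy), h2 y' (mem_pPrimeCore_of_regular hnc hy')]
    obtain ⟨n, -, hn⟩ := irr_one_eq_natCast ξ.2
    rw [hn]
    simp

/-- Norm form of a block sum. -/
theorem finsum_norm_sq {K : Type*} [Group K] [Finite K] (B : Set (IrrCharacter K)) (y : K) :
    ((∑ᶠ ξ ∈ B, ‖(ξ : K → ℂ) y‖ ^ 2 : ℝ) : ℂ) =
      ∑ᶠ ξ ∈ B, (ξ : K → ℂ) y * conj ((ξ : K → ℂ) y) := by
  classical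
  have : Finite (IrrCharacter K) := Characters.Core.finite_irr
  have := Fintype.ofFinite (IrrCharacter K)
  rw [finsum_mem_eq_toFinset_sum, finsum_mem_eq_toFinset_sum, Complex.ofReal_sum]
  refine Finset.sum_congr rfl fun ξ _ => ?_
  rw [Complex.mul_conj, Complex.normSq_eq_norm_sq]

end Cfsg.Agent.Blocks.PrincipalSection
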