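import Mathlib
import Cfsg.Prelude.Def_Blocks
import Cfsg.Agent.Characters.Central
set_option linter.all false

/-!
# Irreducible characters with a normal subgroup in the kernel

* `exists_deflation` : if `∑ n : N, χ n ≠ 0` for an irreducible character `χ` and a normal subgroup
  `N` then `χ` is inflated from an irreducible character of `G ⧸ N`.
* `exists_deflation_of_ker` : the same if `χ n = χ 1` on `N`... via the sum.
-/

set_option autoImplicit false

namespace Cfsg.Agent.Blocks.Deflate

open Cfsg Representation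

variable {G : Type*} [Group G]

/-- A representation trivial on `N` factors through `G ⧸ N`, and irreducibility is kept. -/
theorem isIrreducible_of_comp {H V : Type*} [Group H] [AddCommGroup V] [Module ℂ V]
    (f : G →* H) (ρ : Representation ℂ H V)
    (h : IsIrreducible (ρ.comp f : Representation ℂ G V)) : ρ.IsIrreducible := by
  have hinj : ∀ σ : Subrepresentation ρ, ∃ τ : Subrepresentation (ρ.comp f : Representation ℂ G V),
      τ.toSubmodule = σ.toSubmodule := fun σ =>
    ⟨⟨σ.toSubmodule, fun g v hv => σ.apply_mem_toSubmodule (f g) hv⟩, rfl⟩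
  have hn := h.toNontrivial
  refine { exists_pair_ne := ?_, eq_bot_or_eq_top := ?_ }
  · refine ⟨⊥, ⊤, fun hbt => ?_⟩
    have h1 : (⊥ : Subrepresentation ρ).toSubmodule = (⊤ : Subrepresentation ρ).toSubmodule := by
      rw [hbt]
    have h2 : (⊥ : Subrepresentation (ρ.comp f : Representation ℂ G V)) = ⊤ :=
      Subrepresentation.toSubmodule_injective h1
    exact bot_ne_top h2
  · intro σ
    obtain ⟨τ, hτ⟩ := hinj σ
    rcases h.eq_bot_or_eq_top τ with h0 | h0
    · left
      apply Subrepresentation.toSubmodule_injective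
      rw [← hτ, h0]
      rfl
    · right
      apply Subrepresentation.toSubmodule_injective
      rw [← hτ, h0]
      rfl

/-- If the sum of an irreducible character over a normal subgroup `N` does not vanish, the
character is inflated from `G ⧸ N`. -/
theorem exists_deflation [Finite G] (N : Subgroup G) [N.Normal] [Fintype N] (χ : G → ℂ)
    (hχ : IsIrrCharacter G χ) (hsum : ∑ n : N, χ n ≠ 0) :
    ∃ χ' : IrrCharacter (G ⧸ N), χ = (χ' : G ⧸ N → ℂ) ∘ QuotientGroup.mk := by
  obtain ⟨n, ρ, hρ, rfl⟩ := hχ
  set P : Module.End ℂ (Fin n → ℂ) := ∑ m : N, ρ m with hP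
  have hcomm : ∀ g, P * ρ g = ρ g * P := by
    intro g
    rw [hP, Finset.sum_mul, Finset.mul_sum]
    refine Fintype.sum_equiv (MulAut.conjNormal g⁻¹ : MulAut N).toEquiv _ _ fun m => ?_
    rw [← map_mul, ← map_mul]
    congr 1
    simp only [MulEquiv.toEquiv_eq_coe, EquivLike.coe_coe, MulAut.conjNormal_apply]
    group
  obtain ⟨c, hc⟩ := Cfsg.Agent.Characters.Central.exists_smul_of_comm ρ hρ P hcomm
  have hc0 : c ≠ 0 := by
    rintro rfl
    apply hsum
    have h1 : LinearMap.trace ℂ _ P = ∑ m : N, ρ.character m := by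
      rw [hP, map_sum]
      rfl
    rw [← h1, hc]
    simp
  have hker : ∀ m ∈ N, ρ m = 1 := by
    intro m hm
    have h1 : ρ m * P = P := by
      rw [hP, Finset.mul_sum]
      refine Fintype.sum_equiv (Equiv.mulLeft (⟨m, hm⟩ : N)) _ _ fun x => ?_
      rw [← map_mul]
      rfl
    rw [hc, mul_smul_comm, mul_one] at h1
    exact smul_right_injective _ hc0 h1
  let ρ' : Representation ℂ (G ⧸ N) (Fin n → ℂ) :=
    QuotientGroup.lift N (ρ : G →* Module.End ℂ (Fin n → ℂ)) hker
  have hρ' : (ρ'.comp (QuotientGroup.mk' N) : Representation ℂ G (Fin n → ℂ)) = ρ := by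
    ext g : 1
    rfl
  have hirr : ρ'.IsIrreducible := by
    refine isIrreducible_of_comp (QuotientGroup.mk' N) ρ' ?_
    rw [hρ']
    exact hρ
  exact ⟨⟨ρ'.character, n, ρ', hirr, rfl⟩, rfl⟩

end Cfsg.Agent.Blocks.Deflate
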