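import Mathlib
import Cfsg.Prelude.Def_Blocks
import Cfsg.Agent.Blocks.ClassScalar
import Cfsg.Agent.Blocks.NormalPSubgroup
set_option linter.all false

/-!
A finite group with a self-centralizing normal `p`-subgroup has exactly one `p`-block.
-/

set_option autoImplicit false

namespace Cfsg.Agent.Blocks.UniqueBlock

open Cfsg Cfsg.Agent.Blocks.ClassScalar Cfsg.Agent.Blocks.NormalPSubgroup

universe u

variable {G : Type u} [Group G]

theorem isConj_conj_iff (g x h : G) : IsConj g (h * x * h⁻¹) ↔ IsConj g x := by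
  have h2 : IsConj x (h * x * h⁻¹) := isConj_iff.mpr ⟨h, rfl⟩
  exact ⟨fun h3 => h3.trans h2.symm, fun h3 => h3.trans h2⟩

theorem centralizer_normal (P : Subgroup G) [P.Normal] :
    (Subgroup.centralizer (P : Set G)).Normal := inferInstance

open Classical in
/-- If the class of `g` avoids the centralizer of the normal `p`-subgroup `P`, its intersection
with every coset of `P` has order divisible by `p`. -/
theorem dvd_card_class_inter_coset [Fintype G] {p : ℕ} [Fact p.Prime] (P : Subgroup G) [P.Normal]
    (hP : IsPGroup p P) (g : G) (hg : g ∉ Subgroup.centralizer (P : Set G)) (q : G ⧸ P) :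
    p ∣ Nat.card {x : G // IsConj g x ∧ (QuotientGroup.mk x : G ⧸ P) = q} := by
  have hmk : ∀ (u : P) (x : G), (QuotientGroup.mk ((u : G) * x * (u : G)⁻¹) : G ⧸ P) =
      QuotientGroup.mk x := by
    intro u x
    rw [QuotientGroup.mk_mul, QuotientGroup.mk_mul, QuotientGroup.mk_inv,
      (QuotientGroup.eq_one_iff (u : G)).mpr u.2]
    simp
  let act : MulAction P {x : G // IsConj g x ∧ (QuotientGroup.mk x : G ⧸ P) = q} :=
    { smul := fun u x => ⟨(u : G) * x.1 * (u : G)⁻¹, (isConj_conj_iff g x.1 u).mpr x.2.1,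
        (hmk u x.1).trans x.2.2⟩
      one_smul := by
        intro x
        apply Subtype.ext
        show ((1 : P) : G) * x.1 * ((1 : P) : G)⁻¹ = x.1
        simp
      mul_smul := by
        intro u v x
        apply Subtype.ext
        show ((u * v : P) : G) * x.1 * ((u * v : P) : G)⁻¹ =
          (u : G) * ((v : G) * x.1 * (v : G)⁻¹) * (u : G)⁻¹
        rw [Subgroup.coe_mul]
        group }
  have h := hP.card_modEq_card_fixedPoints {x : G // IsConj g x ∧ (QuotientGroup.mk x : G ⧸ P) = q}
  have hempty : IsEmpty (MulAction.fixedPoints P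
      {x : G // IsConj g x ∧ (QuotientGroup.mk x : G ⧸ P) = q}) := by
    refine ⟨fun x => hg ?_⟩
    obtain ⟨⟨x, hx, hxq⟩, hfix⟩ := x
    have hxC : x ∈ Subgroup.centralizer (P : Set G) := by
      rw [Subgroup.mem_centralizer_iff]
      intro u hu
      have h1 : (u : G) * x * (u : G)⁻¹ = x := congrArg Subtype.val (hfix ⟨u, hu⟩)
      exact mul_inv_eq_iff_eq_mul.mp h1
    obtain ⟨c, hc⟩ := isConj_iff.mp hx.symm
    rw [← hc]
    exact (centralizer_normal P).conj_mem x hxC c
  rw [@Nat.card_of_isEmpty _ hempty] at h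
  exact (Nat.modEq_zero_iff_dvd).mp h

open Classical in
/-- For a normal `p`-subgroup `P` containing its centralizer, and any `g`, the central characters
at `g` are all congruent modulo `M` to one integer. -/
theorem exists_int_forall_centralChar [Finite G] {p : ℕ} {M : Ideal AlgInt}
    (hM : IsPModular p M) (P : Subgroup G) [P.Normal] (hP : IsPGroup p P)
    (hC : Subgroup.centralizer (P : Set G) ≤ P) (g : G) :
    ∃ c : ℤ, ∀ χ : IrrCharacter G, ∃ α : AlgInt, α ∈ M ∧
      (α : ℂ) = centralChar (χ : G → ℂ) g - c := by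
  have hF : Fintype G := Fintype.ofFinite G
  have hp : Fact p.Prime := ⟨hM.1⟩
  let c : ℤ := if g ∈ Subgroup.centralizer (P : Set G) then (Nat.card {x : G // IsConj g x} : ℤ) else 0
  refine ⟨c, ?_⟩
  rintro ⟨χ, hχ⟩
  obtain ⟨n, ρ, hρ, rfl⟩ := hχ
  show ∃ α : AlgInt, α ∈ M ∧ (α : ℂ) = centralChar ρ.character g - c
  have hnt : Nontrivial (Fin n → ℂ) := by
    have := finrank_ne_zero ρ hρ
    exact Module.nontrivial_of_finrank_pos (R := ℂ) (Nat.pos_of_ne_zero this)
  apply exists_mem_of_fiber_sum hM P hP ρ
    (fun x => (if IsConj g x then (1 : ℤ) else 0) - (if x = 1 then c else 0))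
  · intro x h
    have h1 : h * x * h⁻¹ = 1 ↔ x = 1 := by
      constructor
      · intro h2
        have : x = h⁻¹ * (h * x * h⁻¹) * h := by group
        rw [this, h2]; group
      · rintro rfl; group
    simp only [isConj_conj_iff, h1]
  · intro q
    rw [Finset.sum_sub_distrib]
    have h1 : ∑ x ∈ Finset.univ.filter (fun x : G => (QuotientGroup.mk x : G ⧸ P) = q),
        (if IsConj g x then (1 : ℤ) else 0) =
        (Nat.card {x : G // IsConj g x ∧ (QuotientGroup.mk x : G ⧸ P) = q} : ℤ) := by
      rw [← Finset.sum_filter, Finset.filter_filter, Finset.sum_const, nsmul_eq_mul, mul_one,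
        Nat.card_eq_fintype_card, Fintype.card_subtype]
      congr 3
      ext x
      exact and_comm
    have h2 : ∑ x ∈ Finset.univ.filter (fun x : G => (QuotientGroup.mk x : G ⧸ P) = q),
        (if x = 1 then c else 0) = if q = 1 then c else 0 := by
      rw [Finset.sum_ite_eq']
      congr 1
      rw [Finset.mem_filter]
      simp only [Finset.mem_univ, true_and, QuotientGroup.mk_one, eq_iff_iff]
      exact eq_comm
    rw [h1, h2]
    by_cases hg : g ∈ Subgroup.centralizer (P : Set G)
    · have hK : ∀ x : G, IsConj g x → (QuotientGroup.mk x : G ⧸ P) = 1 := by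
        intro x hx
        obtain ⟨y, hy⟩ := isConj_iff.mp hx
        rw [QuotientGroup.eq_one_iff, ← hy]
        exact hC ((centralizer_normal P).conj_mem g hg y)
      have hc : c = (Nat.card {x : G // IsConj g x} : ℤ) := if_pos hg
      by_cases hq : q = 1
      · rw [if_pos hq, hc]
        have : Nat.card {x : G // IsConj g x ∧ (QuotientGroup.mk x : G ⧸ P) = q} =
            Nat.card {x : G // IsConj g x} := by
          apply Nat.card_congr
          apply Equiv.subtypeEquivRight
          intro x
          rw [hq]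
          exact ⟨fun h => h.1, fun h => ⟨h, hK x h⟩⟩
        rw [this, sub_self]
        exact dvd_zero _
      · rw [if_neg hq, sub_zero]
        have : IsEmpty {x : G // IsConj g x ∧ (QuotientGroup.mk x : G ⧸ P) = q} := by
          refine ⟨fun x => hq ?_⟩
          rw [← x.2.2]
          exact hK x.1 x.2.1
        rw [Nat.card_of_isEmpty]
        exact dvd_zero _
    · have hc : c = 0 := if_neg hg
      rw [hc, ite_self, sub_zero]
      exact_mod_cast dvd_card_class_inter_coset P hP g hg q
  · have h3 : ∀ x : G, (((if IsConj g x then (1 : ℤ) else 0) - (if x = 1 then c else 0) : ℤ) : ℂ) • ρ x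
        = (if IsConj g x then (1 : ℂ) else 0) • ρ x - (if x = 1 then (c : ℂ) else 0) • ρ x := by
      intro x
      have h4 : (((if IsConj g x then (1 : ℤ) else 0) - (if x = 1 then c else 0) : ℤ) : ℂ) =
        (if IsConj g x then (1 : ℂ) else 0) - (if x = 1 then (c : ℂ) else 0) := by
        push_cast
        rfl
      rw [h4]
      exact sub_smul (if IsConj g x then (1 : ℂ) else 0) (if x = 1 then (c : ℂ) else 0)
        (ρ x : Module.End ℂ (Fin n → ℂ))
    have h5 : ∀ T : Module.End ℂ (Fin n → ℂ), (centralChar ρ.character g - (c : ℂ)) • T =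
      centralChar ρ.character g • T - (c : ℂ) • T := fun T =>
        sub_smul (centralChar ρ.character g) (c : ℂ) T
    rw [Finset.sum_congr rfl fun x _ => h3 x, Finset.sum_sub_distrib, sum_class_eq ρ hρ g, h5]
    congr 1
    rw [Finset.sum_eq_single (1 : G)]
    · rw [if_pos rfl, map_one]
    · intro b _ hb
      rw [if_neg hb, zero_smul]
    · intro h
      exact absurd (Finset.mem_univ _) h

/-- A finite group with a normal `p`-subgroup containing its centralizer has a single `p`-block. -/
theorem sameBlock_of_centralizer_le [Finite G] {p : ℕ} {M : Ideal AlgInt}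
    (hM : IsPModular p M) (P : Subgroup G) [P.Normal] (hP : IsPGroup p P)
    (hC : Subgroup.centralizer (P : Set G) ≤ P) (χ ψ : IrrCharacter G) :
    SameBlock M (χ : G → ℂ) (ψ : G → ℂ) := by
  intro g
  obtain ⟨c, hc⟩ := exists_int_forall_centralChar hM P hP hC g
  obtain ⟨α, hα, hα'⟩ := hc χ
  obtain ⟨β, hβ, hβ'⟩ := hc ψ
  refine ⟨α - β, 1, M.sub_mem hα hβ, ?_, ?_⟩
  · exact fun h => hM.2.1.ne_top (M.eq_top_of_isUnit_mem h isUnit_one)
  · push_cast
    rw [hα', hβ', div_one]
    ring

end Cfsg.Agent.Blocks.UniqueBlock
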