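import Mathlib
import Cfsg.Prelude.Def_Blocks
import Cfsg.Agent.Blocks.LocalRing
import Cfsg.Agent.Blocks.Basic
import Cfsg.Agent.Blocks.AvgIntegral
import Cfsg.Agent.Characters.Core
set_option linter.all false

/-!
# The order of a defect group

Everything is reduced to weak block orthogonality at `x = 1`, which enters as the hypothesis
`hvan : ∀ y, p ∣ orderOf y → ∑ᶠ χ ∈ B, χ 1 * conj (χ y) = 0`.
-/

set_option autoImplicit false

open scoped ComplexConjugate

namespace Cfsg.Agent.Blocks.DefectCard

open Cfsg Cfsg.Agent.Blocks.LocalRing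

variable {p : ℕ} {M : Ideal AlgInt}

/-- A quotient of natural numbers of positive `p`-valuation lies in the local ideal. -/
theorem memLocalIdeal_natDiv (hM : IsPModular p M) {a b : ℕ} (hb : b ≠ 0)
    (h : b.factorization p < a.factorization p) : MemLocalIdeal M ((a : ℂ) / (b : ℂ)) := by
  have hp : p.Prime := hM.1
  have ha : a ≠ 0 := by rintro rfl; simp at h
  have ha' := Nat.ordProj_mul_ordCompl_eq_self a p
  have hb' := Nat.ordProj_mul_ordCompl_eq_self b p
  have hbc : ¬ p ∣ b / p ^ b.factorization p := Nat.not_dvd_ordCompl hp hb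
  set a' := a / p ^ a.factorization p with ha'd
  set b' := b / p ^ b.factorization p with hb'd
  obtain ⟨s, hs⟩ := Nat.exists_eq_add_of_lt h
  have hp0 : (p : ℂ) ≠ 0 := by exact_mod_cast hp.ne_zero
  have hb0 : (b' : ℂ) ≠ 0 := by
    intro h0
    apply hbc
    have : b' = 0 := by exact_mod_cast h0
    rw [this]; exact dvd_zero _
  refine ⟨((p ^ (s + 1) * a' : ℕ) : AlgInt), (b' : AlgInt), ?_, ?_, ?_⟩
  · rw [natCast_mem_iff hM]
    exact Dvd.dvd.mul_right (dvd_pow_self p (Nat.succ_ne_zero s)) _
  · rw [natCast_mem_iff hM]; exact hbc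
  · have e1 : (a : ℂ) = (p : ℂ) ^ a.factorization p * (a' : ℂ) := by
      exact_mod_cast ha'.symm
    have e2 : (b : ℂ) = (p : ℂ) ^ b.factorization p * (b' : ℂ) := by
      exact_mod_cast hb'.symm
    rw [e1, e2, hs]
    push_cast
    field_simp
    ring

/-- A quotient of natural numbers of nonnegative `p`-valuation lies in the local ring. -/
theorem memLocalRing_natDiv (hM : IsPModular p M) {a b : ℕ} (hb : b ≠ 0)
    (h : b.factorization p ≤ a.factorization p) : MemLocalRing M ((a : ℂ) / (b : ℂ)) := by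
  have hp : p.Prime := hM.1
  by_cases ha : a = 0
  · subst ha; simpa using memLocalRing_zero hM
  have ha' := Nat.ordProj_mul_ordCompl_eq_self a p
  have hb' := Nat.ordProj_mul_ordCompl_eq_self b p
  have hbc : ¬ p ∣ b / p ^ b.factorization p := Nat.not_dvd_ordCompl hp hb
  set a' := a / p ^ a.factorization p with ha'd
  set b' := b / p ^ b.factorization p with hb'd
  obtain ⟨s, hs⟩ := Nat.exists_eq_add_of_le h
  have hp0 : (p : ℂ) ≠ 0 := by exact_mod_cast hp.ne_zero
  have hb0 : (b' : ℂ) ≠ 0 := by
    intro h0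
    apply hbc
    have : b' = 0 := by exact_mod_cast h0
    rw [this]; exact dvd_zero _
  refine ⟨((p ^ s * a' : ℕ) : AlgInt), (b' : AlgInt), ?_, ?_⟩
  · rw [natCast_mem_iff hM]; exact hbc
  · have e1 : (a : ℂ) = (p : ℂ) ^ a.factorization p * (a' : ℂ) := by
      exact_mod_cast ha'.symm
    have e2 : (b : ℂ) = (p : ℂ) ^ b.factorization p * (b' : ℂ) := by
      exact_mod_cast hb'.symm
    rw [e1, e2, hs]
    push_cast
    field_simp
    ring

theorem isIntegral_conj {z : ℂ} (hz : IsIntegral ℤ z) : IsIntegral ℤ (conj z) :=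
  hz.map (RingHom.toIntAlgHom (starRingEnd ℂ))

variable {G : Type*} [Group G] [Finite G]

theorem isIntegral_irr {χ : G → ℂ} (hχ : IsIrrCharacter G χ) (g : G) : IsIntegral ℤ (χ g) := by
  obtain ⟨n, ρ, -, rfl⟩ := hχ
  exact Cfsg.Agent.Characters.Values.character_isIntegral ρ g

/-- If the central character at `g` is nonzero modulo the local ideal, the `p`-part of the class
size divides the degree. -/
theorem factorization_index_le (hM : IsPModular p M) {χ : G → ℂ} (hχ : IsIrrCharacter G χ) (g : G)
    (hg : ¬ MemLocalIdeal M (centralChar χ g)) :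
    (Subgroup.centralizer ({g} : Set G)).index.factorization p ≤ (charDegree χ).factorization p := by
  by_contra h
  push Not at h
  apply hg
  rw [Basic.centralChar_def, Basic.irr_one_eq_charDegree hχ, mul_comm, mul_div_assoc]
  exact memLocalIdeal_mul_left hM (memLocalRing_of_isIntegral hM (isIntegral_irr hχ g))
    (memLocalIdeal_natDiv hM (Basic.charDegree_pos hχ).ne' h)

/-- Upper bound: if the idempotent coefficient at `g` is not in the local ideal, the least exponent
of `p` in the degrees is at most that of the class size of `g`. -/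
theorem le_factorization_index (hM : IsPModular p M) (B : Set (IrrCharacter G))
    (hvan : ∀ y : G, p ∣ orderOf y → ∑ᶠ χ ∈ B, (χ : G → ℂ) 1 * conj ((χ : G → ℂ) y) = 0)
    (g : G) (hg : ¬ MemLocalIdeal M (blockCoeff B g)) (m : ℕ)
    (hm : ∀ χ ∈ B, m ≤ (charDegree (χ : G → ℂ)).factorization p) :
    m ≤ (Subgroup.centralizer ({g} : Set G)).index.factorization p := by
  classical
  have hp : p.Prime := hM.1
  have hfact : Fact p.Prime := ⟨hp⟩
  have hfin : Finite (IrrCharacter G) := Cfsg.Agent.Characters.Core.finite_irr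
  have hBfin : B.Finite := Set.toFinite B
  by_contra hlt
  push Not at hlt
  apply hg
  have hp0 : (p : ℂ) ≠ 0 := by exact_mod_cast hp.ne_zero
  -- `g` is `p`-regular
  have hreg : ¬ p ∣ orderOf g := by
    intro h
    apply hg
    rw [Basic.blockCoeff_def, hvan g h, mul_zero]
    exact memLocalIdeal_zero hM
  -- the auxiliary function
  let c : IrrCharacter G → ℕ := fun χ => charDegree (χ : G → ℂ) / p ^ m
  have hc : ∀ χ ∈ B, ((χ : G → ℂ) 1) = (p : ℂ) ^ m * (c χ : ℂ) := by
    intro χ hχ
    have h1 : p ^ m ∣ charDegree (χ : G → ℂ) :=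
      (hp.pow_dvd_iff_le_factorization (Basic.charDegree_pos χ.2).ne').2 (hm χ hχ)
    rw [Basic.irr_one_eq_charDegree χ.2]
    have h2 : charDegree (χ : G → ℂ) = p ^ m * c χ := (Nat.mul_div_cancel' h1).symm
    conv_lhs => rw [h2]
    push_cast
    rfl
  let θ : G → ℂ := fun y => ∑ χ ∈ hBfin.toFinset, (c χ : ℂ) * (χ : G → ℂ) y
  have hθ : ∀ y : G, ∑ᶠ χ ∈ B, (χ : G → ℂ) 1 * conj ((χ : G → ℂ) y) = (p : ℂ) ^ m * conj (θ y) := by
    intro y
    rw [finsum_mem_eq_finite_toFinset_sum _ hBfin, map_sum, Finset.mul_sum]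
    refine Finset.sum_congr rfl fun χ hχ => ?_
    rw [hc χ ((Set.Finite.mem_toFinset _).1 hχ), map_mul, Complex.conj_natCast, mul_assoc]
  have hθvan : ∀ y : G, p ∣ orderOf y → θ y = 0 := by
    intro y hy
    have h1 := hθ y
    rw [hvan y hy] at h1
    have h2 : conj (θ y) = 0 := by
      rcases mul_eq_zero.1 h1.symm with h3 | h3
      · exact absurd h3 (pow_ne_zero _ hp0)
      · exact h3
    simpa using h2
  set C := Subgroup.centralizer ({g} : Set G) with hC
  let P : Sylow p C := default
  let Q : Subgroup G := (P : Subgroup C).map C.subtype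
  have hQp : IsPGroup p Q := P.isPGroup'.map _
  have hQc : ∀ q ∈ Q, g * q = q * g := by
    rintro _ ⟨q, -, rfl⟩
    exact (Subgroup.mem_centralizer_singleton_iff.1 q.2).symm
  have hint : IsIntegral ℤ (θ g / Nat.card Q) := by
    refine AvgIntegral.isIntegral_div_card_of_vanish hp hθvan Q hQp g hreg hQc ?_
    intro _
    have h1 : (Nat.card Q : ℂ)⁻¹ * ∑ q : Q, θ (g * q) =
        ∑ χ ∈ hBfin.toFinset, (c χ : ℂ) * ((Nat.card Q : ℂ)⁻¹ * ∑ q : Q, (χ : G → ℂ) (g * q)) := by
      simp only [θ]
      rw [Finset.sum_comm, Finset.mul_sum]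
      refine Finset.sum_congr rfl fun χ _ => ?_
      rw [← Finset.mul_sum]
      ring
    rw [h1]
    refine IsIntegral.sum _ fun χ _ => ?_
    refine IsIntegral.mul ?_ (AvgIntegral.isIntegral_avg (Basic.irr_isCharacter χ.2) Q g hQc)
    simpa using (isIntegral_algebraMap (R := ℤ) (A := ℂ) (x := (c χ : ℤ)))
  have hQcard : Nat.card Q = p ^ (Nat.card C).factorization p := by
    have h1 : Nat.card Q = Nat.card P :=
      Nat.card_congr ((P : Subgroup C).equivMapOfInjective C.subtype C.subtype_injective).toEquiv.symm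
    rw [h1]
    exact P.card_eq_multiplicity
  have hcardC : Nat.card C * C.index = Nat.card G := C.card_mul_index
  have hC0 : Nat.card C ≠ 0 := Nat.card_pos.ne'
  have hI0 : C.index ≠ 0 := Subgroup.index_ne_zero_of_finite
  have hG0 : Nat.card G ≠ 0 := Nat.card_pos.ne'
  have hfac : (Nat.card G).factorization p = (Nat.card C).factorization p + C.index.factorization p := by
    rw [← hcardC, Nat.factorization_mul hC0 hI0]; rfl
  have hQ0 : (Nat.card Q : ℂ) ≠ 0 := by
    have : Nat.card Q ≠ 0 := Nat.card_pos.ne'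
    exact_mod_cast this
  have key : blockCoeff B g =
      ((p ^ m * Nat.card Q : ℕ) : ℂ) / (Nat.card G : ℂ) * conj (θ g / Nat.card Q) := by
    rw [Basic.blockCoeff_def, hθ g, map_div₀, Complex.conj_natCast]
    push_cast
    field_simp
  rw [key]
  refine memLocalIdeal_mul_right hM (memLocalIdeal_natDiv hM hG0 ?_)
    (memLocalRing_of_isIntegral hM (isIntegral_conj hint))
  rw [hQcard, ← pow_add, hp.factorization_pow, Finsupp.single_eq_same, hfac]
  omega

/-- The order of a defect group, given that the block idempotent vanishes off `p`-regular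
elements. -/
theorem card_defectGroup (hM : IsPModular p M) (B : Set (IrrCharacter G)) (hB : IsPBlock M B)
    (hvan : ∀ y : G, p ∣ orderOf y → ∑ᶠ χ ∈ B, (χ : G → ℂ) 1 * conj ((χ : G → ℂ) y) = 0)
    (D : Subgroup G) (hD : IsDefectGroup p M B D) : Nat.card D = p ^ blockDefect p B := by
  classical
  have hp : p.Prime := hM.1
  have hfact : Fact p.Prime := ⟨hp⟩
  have hprime : M.IsPrime := isPrime hM
  obtain ⟨g, ⟨hg1, hg2, hg3⟩, P, rfl⟩ := hD
  have hub : ∀ m : ℕ, (∀ χ ∈ B, m ≤ (charDegree (χ : G → ℂ)).factorization p) →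
      m ≤ (Subgroup.centralizer ({g} : Set G)).index.factorization p :=
    fun m hm => le_factorization_index hM B hvan g hg2 m hm
  have hlb : ∀ χ ∈ B, (Subgroup.centralizer ({g} : Set G)).index.factorization p ≤
      (charDegree (χ : G → ℂ)).factorization p :=
    fun χ hχ => factorization_index_le hM χ.2 g (hg3 χ hχ)
  generalize hC : Subgroup.centralizer ({g} : Set G) = C at P hub hlb ⊢
  have hQcard : Nat.card ((P : Subgroup C).map C.subtype) = p ^ (Nat.card C).factorization p := by
    have h1 : Nat.card ((P : Subgroup C).map C.subtype) = Nat.card P :=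
      Nat.card_congr ((P : Subgroup C).equivMapOfInjective C.subtype C.subtype_injective).toEquiv.symm
    rw [h1]
    exact P.card_eq_multiplicity
  have hcardC : Nat.card C * C.index = Nat.card G := C.card_mul_index
  have hC0 : Nat.card C ≠ 0 := Nat.card_pos.ne'
  have hI0 : C.index ≠ 0 := Subgroup.index_ne_zero_of_finite
  have hfac : (Nat.card G).factorization p = (Nat.card C).factorization p + C.index.factorization p := by
    rw [← hcardC, Nat.factorization_mul hC0 hI0]; rfl
  obtain ⟨χ₀, hχ₀⟩ := Basic.isPBlock_nonempty hB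
  have hinf : sInf ((fun χ : IrrCharacter G => (charDegree (χ : G → ℂ)).factorization p) '' B) =
      C.index.factorization p := by
    apply le_antisymm
    · refine hub _ fun χ hχ => ?_
      exact Nat.sInf_le ⟨χ, hχ, rfl⟩
    · have hne : ((fun χ : IrrCharacter G => (charDegree (χ : G → ℂ)).factorization p) '' B).Nonempty :=
        ⟨_, χ₀, hχ₀, rfl⟩
      obtain ⟨χ, hχ, hχe⟩ := Nat.sInf_mem hne
      rw [← hχe]
      exact hlb χ hχ
  rw [hQcard, Basic.blockDefect_def, hinf, hfac, Nat.add_sub_cancel]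

end Cfsg.Agent.Blocks.DefectCard
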