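import Mathlib
import Cfsg.Prelude.Def_Blocks
import Cfsg.Agent.Blocks.BlockIdem
set_option linter.all false

/-!
# Truncation of class functions to the centralizer of a `p`-subgroup

For `P ≤ H ≤ N_G(P)` with `C_G(P) ≤ H` and a class function `e` on `G`, its truncation to `C_G(P)`
is a class function on `H`; the central characters of `H` on it are given by `brauerCentralChar`;
truncation is multiplicative modulo `p`.
-/

set_option autoImplicit false

namespace Cfsg.Agent.Blocks.BrauerTrunc

open Cfsg
open scoped ComplexConjugate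
open Cfsg.Agent.Blocks.LocalRing Cfsg.Agent.Blocks.ConvCentral Cfsg.Agent.Blocks.BlockIdem
open Cfsg.Agent.Blocks.Basic (blockCoeff_def centralChar_def irr_isClassFunction
  brauerCentralChar_def inducedCentralChar_def blockCoeff_isConj index_centralizer_eq_ncard)

variable {p : ℕ} {M : Ideal AlgInt} {G : Type*} [Group G]

/-- A representative of a conjugacy class. -/
noncomputable def rep (c : ConjClasses G) : G := Quotient.out c

theorem mk_rep (c : ConjClasses G) : ConjClasses.mk (rep c) = c := Quotient.out_eq c

theorem isConj_rep_iff {c : ConjClasses G} {g : G} : IsConj (rep c) g ↔ ConjClasses.mk g = c := by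
  rw [← ConjClasses.mk_eq_mk_iff_isConj, mk_rep]
  exact eq_comm

theorem isConj_rep_mk (g : G) : IsConj (rep (ConjClasses.mk g)) g := isConj_rep_iff.2 rfl

theorem classFun_isConj {f : G → ℂ} (hf : IsClassFunction G f) {g h : G} (hgh : IsConj g h) :
    f g = f h := by
  obtain ⟨c, rfl⟩ := isConj_iff.1 hgh
  exact (hf g c).symm

/-- The value of a class function on a central element as a sum over all classes. -/
theorem lin_div_eq_sum [Fintype G] [Fintype (ConjClasses G)] {θ f : G → ℂ}
    (hθ : IsClassFunction G θ) (hf : IsClassFunction G f) :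
    lin θ f / θ 1 = ∑ c : ConjClasses G, f (rep c) * centralChar θ (rep c) := by
  classical
  rw [lin_def, ← Finset.sum_fiberwise (Finset.univ) (ConjClasses.mk) (fun g : G => f g * θ g),
    Finset.sum_div]
  refine Finset.sum_congr rfl fun c _ => ?_
  have h1 : ∀ g ∈ Finset.univ.filter (fun g : G => ConjClasses.mk g = c),
      f g * θ g = f (rep c) * θ (rep c) := by
    intro g hg
    have h2 : IsConj (rep c) g := isConj_rep_iff.2 (Finset.mem_filter.1 hg).2
    rw [classFun_isConj hf h2, classFun_isConj hθ h2]
  rw [Finset.sum_congr rfl h1, Finset.sum_const, nsmul_eq_mul]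
  have hcard : (Finset.univ.filter fun g : G => ConjClasses.mk g = c).card =
      (Subgroup.centralizer ({rep c} : Set G)).index := by
    rw [index_centralizer_eq_ncard, Set.ncard_eq_toFinset_card _ (Set.toFinite _)]
    congr 1
    ext y
    simp only [Finset.mem_filter, Finset.mem_univ, true_and, Set.Finite.mem_toFinset,
      Set.mem_ofPred_eq]
    exact isConj_rep_iff.symm
  rw [hcard, centralChar_def]
  ring

open Classical in
/-- Truncation of a function to the centralizer of `P`, as a function on `H`. -/
noncomputable def trunc (P H : Subgroup G) (e : G → ℂ) : H → ℂ := fun h =>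
  if (h : G) ∈ Subgroup.centralizer (P : Set G) then e h else 0

theorem trunc_of_mem {P H : Subgroup G} (e : G → ℂ) {h : H}
    (hh : (h : G) ∈ Subgroup.centralizer (P : Set G)) : trunc P H e h = e h := by
  rw [trunc, if_pos hh]

theorem trunc_of_notMem {P H : Subgroup G} (e : G → ℂ) {h : H}
    (hh : (h : G) ∉ Subgroup.centralizer (P : Set G)) : trunc P H e h = 0 := by
  rw [trunc, if_neg hh]

theorem mul_mem_centralizer_iff {P H : Subgroup G} (hHN : H ≤ Subgroup.normalizer (P : Set G))
    {h : G} (hh : h ∈ H) {g : G} : h * g * h⁻¹ ∈ Subgroup.centralizer (P : Set G) ↔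
      g ∈ Subgroup.centralizer (P : Set G) := by
  have key : ∀ h ∈ H, ∀ g ∈ Subgroup.centralizer (P : Set G),
      h * g * h⁻¹ ∈ Subgroup.centralizer (P : Set G) := by
    intro h hh g hg
    rw [Subgroup.mem_centralizer_iff] at hg ⊢
    intro u hu
    have h1 : h⁻¹ * u * h ∈ P := (Subgroup.mem_normalizer_iff''.1 (hHN hh) u).1 hu
    have h2 := hg _ h1
    calc u * (h * g * h⁻¹) = h * ((h⁻¹ * u * h) * g) * h⁻¹ := by group
      _ = h * (g * (h⁻¹ * u * h)) * h⁻¹ := by rw [h2]
      _ = h * g * h⁻¹ * u := by group
  refine ⟨fun h1 => ?_, key h hh g⟩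
  have := key h⁻¹ (H.inv_mem hh) _ h1
  convert this using 1
  group

theorem isClassFunction_trunc {P H : Subgroup G} (hHN : H ≤ Subgroup.normalizer (P : Set G))
    {e : G → ℂ} (he : IsClassFunction G e) : IsClassFunction H (trunc P H e) := by
  intro g h
  have hiff := mul_mem_centralizer_iff hHN h.2 (g := (g : G))
  by_cases hg : (g : G) ∈ Subgroup.centralizer (P : Set G)
  · have h2 : ((h * g * h⁻¹ : H) : G) ∈ Subgroup.centralizer (P : Set G) := by
      simpa using hiff.2 hg
    rw [trunc_of_mem e hg, trunc_of_mem e h2]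
    simpa using he (g : G) (h : G)
  · have h2 : ((h * g * h⁻¹ : H) : G) ∉ Subgroup.centralizer (P : Set G) := by
      intro h3
      exact hg (hiff.1 (by simpa using h3))
    rw [trunc_of_notMem e hg, trunc_of_notMem e h2]

/-- The central characters of `H` on a truncation. -/
theorem lin_trunc_div_eq_sum [Finite G] [Fintype (ConjClasses G)] (P H : Subgroup G) [Fintype H]
    {e : G → ℂ} (he : IsClassFunction G e) (ξ : H → ℂ) :
    lin ξ (trunc P H e) / ξ 1 =
      ∑ c : ConjClasses G, e (rep c) * brauerCentralChar P H ξ (rep c) := by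
  classical
  have h1 : ∀ c : ConjClasses G, brauerCentralChar P H ξ (rep c) =
      ∑ h : H, if ConjClasses.mk (h : G) = c ∧ (h : G) ∈ Subgroup.centralizer (P : Set G) then
        ξ h / ξ 1 else 0 := by
    intro c
    rw [brauerCentralChar_def, finsum_mem_eq_toFinset_sum, ← Finset.sum_filter]
    refine Finset.sum_congr ?_ fun _ _ => rfl
    ext h
    simp only [Set.mem_toFinset, Set.mem_ofPred_eq, Finset.mem_filter, Finset.mem_univ, true_and,
      isConj_rep_iff]
  simp_rw [h1, Finset.mul_sum]
  rw [Finset.sum_comm, lin_def, Finset.sum_div]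
  refine Finset.sum_congr rfl fun h _ => ?_
  rw [Finset.sum_eq_single (ConjClasses.mk (h : G))]
  · by_cases hh : (h : G) ∈ Subgroup.centralizer (P : Set G)
    · rw [trunc_of_mem e hh, if_pos ⟨rfl, hh⟩, classFun_isConj he (isConj_rep_mk (h : G))]
      ring
    · rw [trunc_of_notMem e hh, if_neg (fun h' => hh h'.2)]
      ring
  · intro c _ hc
    rw [if_neg (fun h' => hc h'.1.symm), mul_zero]
  · intro h'
    exact absurd (Finset.mem_univ _) h'

/-- If the Brauer-map central character of `ξ` agrees mod `M` with the central character of `χ`,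
then so do the values on the truncation of a central element of the group ring over the local
ring. -/
theorem memLocalIdeal_lin_trunc_sub [Fintype G] (hM : IsPModular p M) (P H : Subgroup G)
    [Fintype H] {e : G → ℂ} (he : IsClassFunction G e) (heR : ∀ g, MemLocalRing M (e g))
    {ξ : H → ℂ} {χ : G → ℂ} (hχ : IsClassFunction G χ)
    (h : ∀ g : G, MemLocalIdeal M (brauerCentralChar P H ξ g - centralChar χ g)) :
    MemLocalIdeal M (lin ξ (trunc P H e) / ξ 1 - lin χ e / χ 1) := by
  have : Fintype (ConjClasses G) := Fintype.ofFinite _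
  rw [lin_trunc_div_eq_sum P H he, lin_div_eq_sum hχ he, ← Finset.sum_sub_distrib]
  refine memLocalIdeal_sum hM _ _ fun c _ => ?_
  rw [← mul_sub]
  exact memLocalIdeal_mul_left hM (heR _) (h _)

/-- Truncation is multiplicative modulo the local ideal. -/
theorem memLocalIdeal_conv_trunc_sub [Fintype G] (hM : IsPModular p M) [Fact p.Prime]
    (P H : Subgroup G) [Fintype H] (hP : IsPGroup p P)
    (hCH : Subgroup.centralizer (P : Set G) ≤ H)
    {e f : G → ℂ} (he : IsClassFunction G e) (hf : IsClassFunction G f)
    (heR : ∀ g, MemLocalRing M (e g)) (hfR : ∀ g, MemLocalRing M (f g)) (g : H) :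
    MemLocalIdeal M (conv (trunc P H e) (trunc P H f) g - trunc P H (conv e f) g) := by
  classical
  by_cases hg : (g : G) ∈ Subgroup.centralizer (P : Set G)
  · -- the sum over `G` reduces mod `p` to the sum over `C_G(P)`
    let F : G → locRing hM := fun x => ⟨e x * f (x⁻¹ * g), memLocalRing_mul hM (heR _) (hfR _)⟩
    obtain ⟨a, ha⟩ := Cfsg.Agent.Blocks.OrbitSum.sum_eq_sum_centralizer_add_smul P hP F (by
      intro u hu x
      apply Subtype.ext
      change e (u * x * u⁻¹) * f ((u * x * u⁻¹)⁻¹ * g) = e x * f (x⁻¹ * g)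
      have h1 : (u * x * u⁻¹)⁻¹ * (g : G) = u * (x⁻¹ * g) * u⁻¹ := by
        have h2 : u * (g : G) = g * u := (Subgroup.mem_centralizer_iff.1 hg) u hu
        calc (u * x * u⁻¹)⁻¹ * (g : G) = u * x⁻¹ * (u⁻¹ * g) := by group
          _ = u * x⁻¹ * (g * u⁻¹) := by
            congr 1
            rw [inv_mul_eq_iff_eq_mul, ← mul_assoc, h2, mul_inv_cancel_right]
          _ = u * (x⁻¹ * g) * u⁻¹ := by group
      rw [h1, he, hf])
    have ha' := congrArg (Subtype.val) ha
    have h1 : ((∑ x, F x : locRing hM) : ℂ) = conv e f g := by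
      rw [AddSubmonoidClass.coe_finsetSum, conv_apply]
    have h2 : ((∑ x ∈ Finset.univ.filter (· ∈ Subgroup.centralizer (P : Set G)), F x : locRing hM) :
        ℂ) = conv (trunc P H e) (trunc P H f) g := by
      rw [AddSubmonoidClass.coe_finsetSum, conv_apply]
      have h3 : ∀ x : H, trunc P H e x * trunc P H f (x⁻¹ * g) =
          if (x : G) ∈ Subgroup.centralizer (P : Set G) then
            e (x : G) * f ((x : G)⁻¹ * g) else 0 := by
        intro x
        by_cases hx : (x : G) ∈ Subgroup.centralizer (P : Set G)
        · have h4 : ((x⁻¹ * g : H) : G) ∈ Subgroup.centralizer (P : Set G) :=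
            (Subgroup.centralizer (P : Set G)).mul_mem
              ((Subgroup.centralizer (P : Set G)).inv_mem hx) hg
          rw [if_pos hx, trunc_of_mem e hx, trunc_of_mem f h4]
          rfl
        · rw [if_neg hx, trunc_of_notMem e hx, zero_mul]
      rw [Finset.sum_congr rfl fun x _ => h3 x, ← Finset.sum_filter]
      symm
      refine Finset.sum_bij (fun x _ => (x : G)) ?_ ?_ ?_ ?_
      · intro x hx
        simpa using hx
      · intro x _ y _ hxy
        exact Subtype.ext hxy
      · intro x hx
        have hx' : x ∈ Subgroup.centralizer (P : Set G) := by simpa using hx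
        exact ⟨⟨x, hCH hx'⟩, by simpa using hx', rfl⟩
      · intro x _
        rfl
    rw [trunc_of_mem _ hg, ← h1, ← h2, ha']
    have h5 : ((∑ x ∈ Finset.univ.filter (· ∈ Subgroup.centralizer (P : Set G)), F x : locRing hM) :
        ℂ) - (((∑ x ∈ Finset.univ.filter (· ∈ Subgroup.centralizer (P : Set G)), F x) + p • a :
          locRing hM) : ℂ) = -((p : ℂ) * (a : ℂ)) := by
      push_cast
      rw [nsmul_eq_mul]
      ring
    rw [h5]
    exact memLocalIdeal_neg (memLocalIdeal_mul_right hM (memLocalIdeal_prime hM) a.2)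
  · have h1 : conv (trunc P H e) (trunc P H f) g = 0 := by
      rw [conv_apply]
      refine Finset.sum_eq_zero fun x _ => ?_
      by_cases hx : (x : G) ∈ Subgroup.centralizer (P : Set G)
      · have h4 : ((x⁻¹ * g : H) : G) ∉ Subgroup.centralizer (P : Set G) := by
          intro h5
          apply hg
          have h6 := (Subgroup.centralizer (P : Set G)).mul_mem hx h5
          simpa using h6
        rw [trunc_of_notMem f h4, mul_zero]
      · rw [trunc_of_notMem e hx, zero_mul]
    rw [h1, trunc_of_notMem _ hg, sub_zero]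
    exact memLocalIdeal_zero hM

end Cfsg.Agent.Blocks.BrauerTrunc
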