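import Cfsg.Agent.Characters.Core
import Cfsg.Agent.Characters.AverageRoots
import Cfsg.Agent.Blocks.Local
import Cfsg.Agent.Blocks.Central
import Cfsg.Agent.S0952
set_option linter.all false

/-!
# Height zero characters and the pairing over `p`-regular elements
-/

set_option autoImplicit false

open Cfsg
open scoped ComplexConjugate

namespace Cfsg.Agent.Blocks.Blau

open Cfsg.Agent.Blocks.Local Cfsg.Agent.Characters

section padic

variable {p : ℕ} {M : Ideal AlgInt}

theorem memLocalRing_natCast_div (hM : IsPModular p M) {n m : ℕ} (hm : m ≠ 0)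
    (h : m.factorization p ≤ n.factorization p) : MemLocalRing M ((n : ℂ) / (m : ℂ)) := by
  have := isPrime_of_isPModular hM
  rcases Nat.eq_zero_or_pos n with rfl | hn
  · simpa using memLocalRing_zero (M := M)
  have hp : p.Prime := hM.1
  obtain ⟨m', hm'⟩ : ∃ m', m = p ^ m.factorization p * m' :=
    ⟨m / p ^ m.factorization p, (Nat.ordProj_mul_ordCompl_eq_self m p).symm⟩
  obtain ⟨n', hn'⟩ : p ^ m.factorization p ∣ n :=
    (hp.pow_dvd_iff_le_factorization hn.ne').2 h
  have hm'p : ¬ p ∣ m' := by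
    have := Nat.not_dvd_ordCompl hp hm
    rwa [Nat.div_eq_of_eq_mul_right (pow_pos hp.pos _) hm'] at this
  have hp0 : ((p : ℂ) ^ m.factorization p) ≠ 0 := pow_ne_zero _ (by exact_mod_cast hp.ne_zero)
  have hm0 : (m' : ℂ) ≠ 0 := by
    rintro h0
    apply hm'p
    have : m' = 0 := by exact_mod_cast h0
    rw [this]; exact dvd_zero _
  have hmC : (m : ℂ) = (p : ℂ) ^ m.factorization p * (m' : ℂ) := by exact_mod_cast hm'
  have hnC : (n : ℂ) = (p : ℂ) ^ m.factorization p * (n' : ℂ) := by exact_mod_cast hn'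
  have e : (n : ℂ) / (m : ℂ) = (n' : ℂ) * (m' : ℂ)⁻¹ := by
    generalize (p : ℂ) ^ m.factorization p = q at hmC hnC hp0
    rw [hnC, hmC]
    field_simp
  rw [e]
  exact memLocalRing_mul (memLocalRing_natCast _) (memLocalRing_inv_natCast hM hm'p)

theorem memLocalIdeal_natCast_div (hM : IsPModular p M) {n m : ℕ} (hm : m ≠ 0)
    (h : m.factorization p < n.factorization p) : MemLocalIdeal M ((n : ℂ) / (m : ℂ)) := by
  have := isPrime_of_isPModular hM
  have hp : p.Prime := hM.1
  have hn : n ≠ 0 := by rintro rfl; simp at h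
  obtain ⟨k, rfl⟩ : p ∣ n := by
    rw [← pow_one p]
    exact (hp.pow_dvd_iff_le_factorization hn).2 (by omega)
  have hk : k ≠ 0 := by rintro rfl; simp at hn
  have h1 : m.factorization p ≤ k.factorization p := by
    rw [Nat.factorization_mul hp.ne_zero hk] at h
    simp [hp.factorization_self] at h
    omega
  have e : ((p * k : ℕ) : ℂ) / (m : ℂ) = (p : ℂ) * ((k : ℂ) / (m : ℂ)) := by
    push_cast; ring
  rw [e]
  exact memLocalIdeal_mul_right (memLocalIdeal_p hM) (memLocalRing_natCast_div hM hm h1)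

end padic

section classes

variable {G : Type*} [Group G]

/-- The function equal to `f` on the elements of order prime to `p`, and `0` elsewhere. -/
noncomputable def regPart (p : ℕ) (f : G → ℂ) : G → ℂ :=
  fun x => if p ∣ orderOf x then 0 else f x

theorem regPart_of_dvd {p : ℕ} {f : G → ℂ} {x : G} (h : p ∣ orderOf x) : regPart p f x = 0 :=
  if_pos h

theorem regPart_of_not_dvd {p : ℕ} {f : G → ℂ} {x : G} (h : ¬ p ∣ orderOf x) :
    regPart p f x = f x := if_neg h

theorem orderOf_conj_eq (g h : G) : orderOf (h * g * h⁻¹) = orderOf g := by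
  have := orderOf_injective (MulAut.conj h).toMonoidHom (MulAut.conj h).injective g
  simpa using this

theorem regPart_isClassFunction {p : ℕ} {f : G → ℂ} (hf : IsClassFunction G f) :
    IsClassFunction G (regPart p f) := by
  intro g h
  unfold regPart
  rw [orderOf_conj_eq, hf g h]

theorem isClassFunction_conj {f : G → ℂ} (hf : IsClassFunction G f) :
    IsClassFunction G (fun x => conj (f x)) := fun g h => by
  show conj (f (h * g * h⁻¹)) = conj (f g)
  rw [hf g h]

theorem classFunction_eq_of_isConj {f : G → ℂ} (hf : IsClassFunction G f) {a b : G}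
    (h : IsConj a b) : f a = f b := by
  obtain ⟨c, hc⟩ := isConj_iff.1 h
  rw [← hc, hf a c]

/-- A representative of a conjugacy class. -/
noncomputable def rep (c : ConjClasses G) : G := Classical.choose (ConjClasses.exists_rep c)

theorem mk_rep (c : ConjClasses G) : ConjClasses.mk (rep c) = c :=
  Classical.choose_spec (ConjClasses.exists_rep c)

theorem classFunction_eq_rep {f : G → ℂ} (hf : IsClassFunction G f) {x : G}
    {c : ConjClasses G} (h : ConjClasses.mk x = c) : f x = f (rep c) := by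
  apply classFunction_eq_of_isConj hf
  rw [← ConjClasses.mk_eq_mk_iff_isConj, h, mk_rep]

/-- Summation over conjugacy classes. -/
theorem sum_eq_sum_conjClasses [Fintype (ConjClasses G)] [DecidableEq (ConjClasses G)] {X : Type*} [Fintype X]
    (φ : X → G) {F : G → ℂ} (hF : IsClassFunction G F) (v : X → ℂ) :
    ∑ x, F (φ x) * v x =
      ∑ c : ConjClasses G, F (rep c) * ∑ x with ConjClasses.mk (φ x) = c, v x := by
  rw [← Finset.sum_fiberwise Finset.univ (fun x => ConjClasses.mk (φ x))]
  refine Finset.sum_congr rfl fun c _ => ?_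
  rw [Finset.mul_sum]
  refine Finset.sum_congr rfl fun x hx => ?_
  rw [Finset.mem_filter] at hx
  rw [classFunction_eq_rep hF hx.2]

theorem index_centralizer_eq [Finite G] (g : G) :
    (Subgroup.centralizer ({g} : Set G)).index = Set.ncard {x : G | IsConj g x} := by
  have h1 := MulAction.index_stabilizer (ConjAct G) g
  have h2 : (MulAction.orbit (ConjAct G) g) = {x : G | IsConj g x} := by
    ext x
    rw [ConjAct.mem_orbit_conjAct]
    exact isConj_comm
  rw [h2] at h1
  rw [← h1, ConjAct.stabilizer_eq_centralizer]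
  rfl

theorem sum_div_eq_centralChar [Fintype G] {ψ : G → ℂ} (hψ : IsClassFunction G ψ)
    [DecidableEq (ConjClasses G)] (c : ConjClasses G) :
    ∑ x ∈ Finset.univ.filter (fun x : G => ConjClasses.mk x = c), ψ x / ψ 1 =
      centralChar ψ (rep c) := by
  classical
  have h : ∀ x ∈ Finset.univ.filter (fun x : G => ConjClasses.mk x = c), ψ x / ψ 1 =
      ψ (rep c) / ψ 1 := by
    intro x hx
    rw [Finset.mem_filter] at hx
    rw [classFunction_eq_rep hψ hx.2]
  rw [Finset.sum_congr rfl h, Finset.sum_const, nsmul_eq_mul]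
  unfold centralChar
  rw [index_centralizer_eq, mul_div_assoc]
  congr 2
  rw [Set.ncard_eq_toFinset_card']
  congr 1
  ext x
  simp only [Finset.mem_filter, Finset.mem_univ, true_and, Set.mem_toFinset, Set.mem_ofPred_eq]
  rw [← ConjClasses.mk_eq_mk_iff_isConj]
  rw [mk_rep, eq_comm]

theorem sum_div_eq_inducedCentralChar (H : Subgroup G) [Fintype H] (ξ : H → ℂ)
    [DecidableEq (ConjClasses G)] (c : ConjClasses G) :
    ∑ h ∈ Finset.univ.filter (fun h : H => ConjClasses.mk (h : G) = c), ξ h / ξ 1 =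
      inducedCentralChar H ξ (rep c) := by
  unfold inducedCentralChar
  rw [finsum_mem_eq_finite_toFinset_sum _ (Set.toFinite _)]
  refine Finset.sum_congr ?_ fun _ _ => rfl
  ext h
  simp only [Finset.mem_filter, Finset.mem_univ, true_and, Set.Finite.mem_toFinset,
    Set.mem_ofPred_eq]
  rw [← ConjClasses.mk_eq_mk_iff_isConj]
  rw [mk_rep, eq_comm]

end classes

section pairing

variable {G : Type*} [Group G]

/-- The sum of `f x * conj (g x)` over the elements `x` of order prime to `p`. -/
noncomputable def pair [Fintype G] (p : ℕ) (f g : G → ℂ) : ℂ :=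
  ∑ x : G, regPart p (fun x => conj (g x)) x * f x

theorem pair_def [Fintype G] (p : ℕ) (f g : G → ℂ) :
    pair p f g = ∑ x : G, regPart p (fun x => conj (g x)) x * f x := rfl

theorem finsum_eq_pair [Fintype G] (p : ℕ) (f g : G → ℂ) :
    ∑ᶠ x ∈ {x : G | ¬ p ∣ orderOf x}, f x * conj (g x) = pair p f g := by
  classical
  rw [finsum_mem_eq_finite_toFinset_sum _ (Set.toFinite _), pair_def]
  rw [← Finset.sum_subset (Finset.subset_univ _)]
  · refine Finset.sum_congr rfl fun x hx => ?_
    rw [Set.Finite.mem_toFinset] at hx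
    rw [regPart_of_not_dvd hx, mul_comm]
  · intro x _ hx
    rw [Set.Finite.mem_toFinset] at hx
    have hx' : p ∣ orderOf x := by
      by_contra h
      exact hx h
    rw [regPart_of_dvd hx', zero_mul]

theorem pair_comm [Fintype G] (p : ℕ) {f g : G → ℂ} (hf : ∀ x, f x⁻¹ = conj (f x))
    (hg : ∀ x, g x⁻¹ = conj (g x)) : pair p f g = pair p g f := by
  rw [pair_def, pair_def, ← Equiv.sum_comp (Equiv.inv G)]
  refine Finset.sum_congr rfl fun x _ => ?_
  by_cases h : p ∣ orderOf x
  · rw [regPart_of_dvd h, Equiv.inv_apply, regPart_of_dvd (by rwa [orderOf_inv])]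
    simp
  · rw [regPart_of_not_dvd h, Equiv.inv_apply, regPart_of_not_dvd (by rwa [orderOf_inv])]
    rw [hf, hg, Complex.conj_conj, mul_comm]

theorem pair_sum_smul_right [Fintype G] (p : ℕ) (f : G → ℂ) {ι : Type*} (s : Finset ι)
    (n : ι → ℕ) (g : ι → G → ℂ) :
    pair p f (∑ i ∈ s, n i • g i) = ∑ i ∈ s, (n i : ℂ) * pair p f (g i) := by
  simp_rw [pair_def, Finset.mul_sum]
  rw [Finset.sum_comm]
  refine Finset.sum_congr rfl fun x _ => ?_
  by_cases h : p ∣ orderOf x
  · rw [regPart_of_dvd h, zero_mul]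
    symm
    refine Finset.sum_eq_zero fun i _ => ?_
    rw [regPart_of_dvd h]
    simp
  · rw [regPart_of_not_dvd h, Finset.sum_apply, map_sum, Finset.sum_mul]
    refine Finset.sum_congr rfl fun i _ => ?_
    rw [regPart_of_not_dvd h]
    simp [mul_assoc]

theorem pair_div_eq [Fintype G] [Fintype (ConjClasses G)] (p : ℕ) {ψ χ : G → ℂ}
    (hψ : IsClassFunction G ψ) (hχ : IsClassFunction G χ) :
    pair p ψ χ / ψ 1 = ∑ c : ConjClasses G,
      regPart p (fun x => conj (χ x)) (rep c) * centralChar ψ (rep c) := by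
  classical
  rw [pair_def, Finset.sum_div]
  simp_rw [mul_div_assoc]
  rw [sum_eq_sum_conjClasses (fun x : G => x) (regPart_isClassFunction (isClassFunction_conj hχ))]
  refine Finset.sum_congr rfl fun c _ => ?_
  exact congrArg _ (sum_div_eq_centralChar hψ c)

theorem pair_div_eq_induced [Finite G] [Fintype (ConjClasses G)] (p : ℕ) (H : Subgroup G)
    [Fintype H] (ξ : H → ℂ) {χ : G → ℂ} (hχ : IsClassFunction G χ) :
    pair p ξ (fun h : H => χ h) / ξ 1 = ∑ c : ConjClasses G,
      regPart p (fun x => conj (χ x)) (rep c) * inducedCentralChar H ξ (rep c) := by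
  classical
  rw [pair_def, Finset.sum_div]
  simp_rw [mul_div_assoc]
  have h1 : ∀ h : H, regPart p (fun x : H => conj (χ x)) h =
      regPart p (fun x => conj (χ x)) (h : G) := by
    intro h
    unfold regPart
    rw [Subgroup.orderOf_coe]
  simp_rw [h1]
  rw [sum_eq_sum_conjClasses (fun x : H => (x : G))
    (regPart_isClassFunction (isClassFunction_conj hχ))]
  refine Finset.sum_congr rfl fun c _ => ?_
  exact congrArg _ (sum_div_eq_inducedCentralChar H ξ c)

end pairing

section integrality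

variable {G : Type*} [Group G] {p : ℕ} {M : Ideal AlgInt}

theorem isIntegral_of_isCharacter [Finite G] {χ : G → ℂ} (h : IsCharacter G χ) (g : G) :
    IsIntegral ℤ (χ g) := by
  obtain ⟨n, ρ, rfl⟩ := h
  exact Cfsg.Agent.Characters.AverageRoots.isIntegral_character ρ g

theorem isIntegral_conj {z : ℂ} (h : IsIntegral ℤ z) : IsIntegral ℤ (conj z) :=
  h.map (Complex.conjAe.toAlgHom.restrictScalars ℤ : ℂ →ₐ[ℤ] ℂ)

theorem memLocalRing_regPart_conj [Finite G] (hM : IsPModular p M) {χ : G → ℂ}
    (h : IsCharacter G χ) (g : G) : MemLocalRing M (regPart p (fun x => conj (χ x)) g) := by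
  have := isPrime_of_isPModular hM
  unfold regPart
  split
  · exact memLocalRing_zero
  · exact memLocalRing_of_isIntegral (isIntegral_conj (isIntegral_of_isCharacter h g))

/-- central characters are algebraic integers -/
theorem isIntegral_centralChar' [Finite G] {χ : G → ℂ} (h : IsIrrCharacter G χ) (g : G) :
    IsIntegral ℤ (centralChar χ g) :=
  Cfsg.Agent.Blocks.Central.isIntegral_centralChar h g

theorem memLocalRing_pair_div [Fintype G] (hM : IsPModular p M) {ψ χ : G → ℂ}
    (hψ : IsIrrCharacter G ψ) (hχ : IsCharacter G χ) : MemLocalRing M (pair p ψ χ / ψ 1) := by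
  classical
  have := isPrime_of_isPModular hM
  rw [pair_div_eq p (Core.isIrr_isClassFunction hψ) (Core.isCharacter_isClassFunction hχ)]
  refine memLocalRing_sum fun c _ => memLocalRing_mul (memLocalRing_regPart_conj hM hχ _) ?_
  exact memLocalRing_of_isIntegral (isIntegral_centralChar' hψ _)

/-- The numbers `pair p ψ χ / ψ 1` are congruent for `ψ` running over a block. -/
theorem pair_div_sub_pair_div [Fintype G] (hM : IsPModular p M) {ψ ψ' χ : G → ℂ}
    (hψ : IsIrrCharacter G ψ) (hψ' : IsIrrCharacter G ψ') (hχ : IsCharacter G χ)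
    (h : SameBlock M ψ ψ') : MemLocalIdeal M (pair p ψ χ / ψ 1 - pair p ψ' χ / ψ' 1) := by
  classical
  have := isPrime_of_isPModular hM
  rw [pair_div_eq p (Core.isIrr_isClassFunction hψ) (Core.isCharacter_isClassFunction hχ),
    pair_div_eq p (Core.isIrr_isClassFunction hψ') (Core.isCharacter_isClassFunction hχ),
    ← Finset.sum_sub_distrib]
  refine memLocalIdeal_sum fun c _ => ?_
  rw [← mul_sub]
  exact memLocalIdeal_mul_left (memLocalRing_regPart_conj hM hχ _) (h _)

/-- Comparison of the pairings in a subgroup and in the group, for an induced block. -/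
theorem pair_div_sub_pair_div_of_induced [Fintype G] (hM : IsPModular p M) {H : Subgroup G}
    [Fintype H] {b : Set (IrrCharacter H)} {B : Set (IrrCharacter G)}
    (hind : IsInducedBlock M H b B) {ξ : IrrCharacter H} (hξ : ξ ∈ b) {ψ : IrrCharacter G}
    (hψ : ψ ∈ B) {χ : G → ℂ} (hχ : IsCharacter G χ) :
    MemLocalIdeal M (pair p (ξ : H → ℂ) (fun h : H => χ h) / (ξ : H → ℂ) 1 -
      pair p (ψ : G → ℂ) χ / (ψ : G → ℂ) 1) := by
  classical
  have := isPrime_of_isPModular hM
  rw [pair_div_eq p (Core.isIrr_isClassFunction ψ.2) (Core.isCharacter_isClassFunction hχ),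
    pair_div_eq_induced p H _ (Core.isCharacter_isClassFunction hχ),
    ← Finset.sum_sub_distrib]
  refine memLocalIdeal_sum fun c _ => ?_
  rw [← mul_sub]
  exact memLocalIdeal_mul_left (memLocalRing_regPart_conj hM hχ _) (hind.2.2 ξ hξ ψ hψ _)

end integrality

section height

variable {G : Type*} [Group G] {p : ℕ} {M : Ideal AlgInt}

theorem charDegree_eq {χ : G → ℂ} {n : ℕ} (h : χ 1 = n) : charDegree χ = n := by
  unfold charDegree
  rw [h]
  simp

theorem factorization_le_of_blockHeight_eq_zero {B : Set (IrrCharacter G)} {χ : G → ℂ}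
    (h0 : blockHeight p B χ = 0) {ψ : IrrCharacter G} (hψ : ψ ∈ B) :
    (charDegree χ).factorization p ≤ (charDegree (ψ : G → ℂ)).factorization p := by
  unfold blockHeight at h0
  rw [tsub_eq_zero_iff_le] at h0
  exact h0.trans (Nat.sInf_le ⟨ψ, hψ, rfl⟩)

theorem exists_blockHeight_eq_zero (p : ℕ) {B : Set (IrrCharacter G)} (hB : B.Nonempty) :
    ∃ ξ ∈ B, blockHeight p B (ξ : G → ℂ) = 0 := by
  obtain ⟨ξ, hξ, h⟩ := Nat.sInf_mem
    (hB.image (fun ψ : IrrCharacter G => (charDegree (ψ : G → ℂ)).factorization p))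
  refine ⟨ξ, hξ, ?_⟩
  unfold blockHeight
  rw [tsub_eq_zero_iff_le, ← h]

theorem factorization_lt_of_blockHeight_ne_zero {B : Set (IrrCharacter G)} {χ : IrrCharacter G}
    {η : G → ℂ} (hη : blockHeight p B η ≠ 0)
    (h0 : blockHeight p B (χ : G → ℂ) = 0) :
    (charDegree (χ : G → ℂ)).factorization p < (charDegree η).factorization p := by
  unfold blockHeight at h0 hη
  rw [tsub_eq_zero_iff_le] at h0
  rw [Ne, tsub_eq_zero_iff_le, not_le] at hη
  exact h0.trans_lt hη

theorem sameBlock_of_mem (hM : IsPModular p M) {B : Set (IrrCharacter G)} (hB : IsPBlock M B)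
    {χ ψ : IrrCharacter G} (hχ : χ ∈ B) (hψ : ψ ∈ B) :
    SameBlock M (χ : G → ℂ) (ψ : G → ℂ) := by
  have := isPrime_of_isPModular hM
  obtain ⟨φ, rfl⟩ := hB
  intro g
  exact memLocalIdeal_sub_trans (memLocalIdeal_sub_comm (hχ g)) (hψ g)

theorem mem_of_sameBlock (hM : IsPModular p M) {B : Set (IrrCharacter G)} (hB : IsPBlock M B)
    {χ ψ : IrrCharacter G} (hχ : χ ∈ B) (h : SameBlock M (χ : G → ℂ) (ψ : G → ℂ)) : ψ ∈ B := by
  have := isPrime_of_isPModular hM
  obtain ⟨φ, rfl⟩ := hB
  intro g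
  exact memLocalIdeal_sub_trans (hχ g) (h g)

theorem isPBlock_nonempty (hM : IsPModular p M) {B : Set (IrrCharacter G)}
    (hB : IsPBlock M B) : B.Nonempty := by
  have := isPrime_of_isPModular hM
  obtain ⟨φ, rfl⟩ := hB
  exact ⟨φ, fun g => by rw [sub_self]; exact memLocalIdeal_zero⟩

theorem pair_eq_zero [Fintype G] [Fact p.Prime] (hM : IsPModular p M)
    {B : Set (IrrCharacter G)} (hB : IsPBlock M B) {χ ψ : IrrCharacter G} (hχ : χ ∈ B)
    (hψ : ψ ∉ B) : pair p (χ : G → ℂ) (ψ : G → ℂ) = 0 := by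
  rw [← finsum_eq_pair]
  exact Cfsg.Agent.S0952.result p M hM χ ψ fun h => hψ (mem_of_sameBlock hM hB hχ h)

theorem apply_one_ne_zero (χ : IrrCharacter G) : (χ : G → ℂ) 1 ≠ 0 := by
  obtain ⟨n, hn, h⟩ := Core.isIrr_apply_one χ.2
  rw [h]
  exact_mod_cast hn.ne'

/-- degrees quotient, height zero in the denominator -/
theorem memLocalRing_degree_div (hM : IsPModular p M) {B : Set (IrrCharacter G)}
    {χ : IrrCharacter G} (h0 : blockHeight p B (χ : G → ℂ) = 0) {ψ : IrrCharacter G}
    (hψ : ψ ∈ B) : MemLocalRing M ((ψ : G → ℂ) 1 / (χ : G → ℂ) 1) := by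
  obtain ⟨n, hn, hn'⟩ := Core.isIrr_apply_one χ.2
  obtain ⟨m, hm, hm'⟩ := Core.isIrr_apply_one ψ.2
  have := factorization_le_of_blockHeight_eq_zero h0 hψ
  rw [charDegree_eq hn', charDegree_eq hm'] at this
  rw [hn', hm']
  exact memLocalRing_natCast_div hM hn.ne' this

theorem memLocalIdeal_degree_div (hM : IsPModular p M) {B : Set (IrrCharacter G)}
    {χ : IrrCharacter G} (h0 : blockHeight p B (χ : G → ℂ) = 0)
    {ψ : IrrCharacter G} (hψ : blockHeight p B (ψ : G → ℂ) ≠ 0) :
    MemLocalIdeal M ((ψ : G → ℂ) 1 / (χ : G → ℂ) 1) := by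
  obtain ⟨n, hn, hn'⟩ := Core.isIrr_apply_one χ.2
  obtain ⟨m, hm, hm'⟩ := Core.isIrr_apply_one ψ.2
  have := factorization_lt_of_blockHeight_ne_zero hψ h0
  rw [charDegree_eq hn', charDegree_eq hm'] at this
  rw [hn', hm']
  exact memLocalIdeal_natCast_div hM hn.ne' this

theorem classInner_regPart [Fintype G] (χ ψ : G → ℂ) :
    classInner (regPart p χ) ψ = (Nat.card G : ℂ)⁻¹ * pair p χ ψ := by
  unfold classInner
  rw [pair_def]
  congr 1
  refine Finset.sum_congr rfl fun x _ => ?_
  by_cases h : p ∣ orderOf x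
  · rw [regPart_of_dvd h, regPart_of_dvd h, zero_mul, zero_mul]
  · rw [regPart_of_not_dvd h, regPart_of_not_dvd h, mul_comm]

theorem sum_sylow_regPart [Finite G] [Fact p.Prime] (P : Sylow p G) [Fintype P] (χ : G → ℂ) :
    ∑ x : P, regPart p χ (x : G) = χ 1 := by
  rw [Finset.sum_eq_single 1]
  · rw [OneMemClass.coe_one, regPart_of_not_dvd]
    rw [orderOf_one]
    exact (Fact.out : p.Prime).one_lt.ne' ∘ Nat.dvd_one.1
  · intro x _ hx
    apply regPart_of_dvd
    obtain ⟨k, hk⟩ := IsPGroup.iff_orderOf.1 P.isPGroup' x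
    rw [Subgroup.orderOf_coe, hk]
    apply dvd_pow_self
    rintro rfl
    rw [pow_zero, orderOf_eq_one_iff] at hk
    exact hx hk
  · intro h
    exact absurd (Finset.mem_univ _) h

theorem exists_sum_subgroup_eq [Finite G] (H : Subgroup G) [Fintype H] {χ : G → ℂ}
    (hχ : IsCharacter G χ) : ∃ m : ℕ, ∑ x : H, χ (x : G) = Nat.card H * m := by
  have h1 : IsCharacter H (χ ∘ H.subtype) := Core.isCharacter_comp H.subtype hχ
  obtain ⟨m, hm⟩ := Core.classInner_isNat h1 (Core.isCharacter_one (G := H))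
  refine ⟨m, ?_⟩
  rw [← hm]
  unfold classInner
  rw [mul_inv_cancel_left₀ (by exact_mod_cast Nat.card_pos.ne')]
  refine Finset.sum_congr rfl fun x _ => ?_
  simp

/-- For `χ` of height zero in the block `B` and `ψ` in `B`, the sum over the `p`-regular elements
of `ψ x * conj (χ x)`, divided by `ψ 1`, is nonzero modulo the local ideal. -/
theorem not_memLocalIdeal_pair_div [Fintype G] [Fact p.Prime] (hM : IsPModular p M)
    {B : Set (IrrCharacter G)} (hB : IsPBlock M B) {χ ψ : IrrCharacter G} (hχ : χ ∈ B)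
    (h0 : blockHeight p B (χ : G → ℂ) = 0) (hψ : ψ ∈ B) :
    ¬ MemLocalIdeal M (pair p (ψ : G → ℂ) (χ : G → ℂ) / (ψ : G → ℂ) 1) := by
  classical
  have := isPrime_of_isPModular hM
  intro hcon
  have hχc := Core.isIrr_isCharacter χ.2
  have key : ∀ φ ∈ B, MemLocalIdeal M (pair p (φ : G → ℂ) (χ : G → ℂ) / (φ : G → ℂ) 1) := by
    intro φ hφ
    exact (memLocalIdeal_iff_of_sub
      (pair_div_sub_pair_div hM φ.2 ψ.2 hχc (sameBlock_of_mem hM hB hφ hψ))).2 hcon
  have := Core.finite_irr (G := G)
  have := Fintype.ofFinite (IrrCharacter G)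
  obtain ⟨P⟩ : Nonempty (Sylow p G) := inferInstance
  have hexp := Core.classFunction_eq_sum
    (regPart_isClassFunction (p := p) (Core.isIrr_isClassFunction χ.2))
  have h1 : (χ : G → ℂ) 1 = ∑ x : P, ∑ φ : IrrCharacter G,
      ((Nat.card G : ℂ)⁻¹ * pair p (φ : G → ℂ) (χ : G → ℂ)) * (φ : G → ℂ) x := by
    rw [← sum_sylow_regPart P (χ : G → ℂ)]
    refine Finset.sum_congr rfl fun x _ => ?_
    have := congrFun hexp (x : G)
    rw [Finset.sum_apply] at this
    rw [this]
    refine Finset.sum_congr rfl fun φ _ => ?_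
    rw [Pi.smul_apply, smul_eq_mul, classInner_regPart, pair_comm p
      (Core.isCharacter_apply_inv hχc)
      (Core.isCharacter_apply_inv (Core.isIrr_isCharacter φ.2))]
  rw [Finset.sum_comm] at h1
  have h2 : ∀ φ : IrrCharacter G, MemLocalIdeal M ((∑ x : P,
      ((Nat.card G : ℂ)⁻¹ * pair p (φ : G → ℂ) (χ : G → ℂ)) * (φ : G → ℂ) x)
        / (χ : G → ℂ) 1) := by
    intro φ
    by_cases hφ : φ ∈ B
    · obtain ⟨m, hm⟩ := exists_sum_subgroup_eq (P : Subgroup G) (Core.isIrr_isCharacter φ.2)
      rw [← Finset.mul_sum]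
      have e : (∑ x : P, (φ : G → ℂ) x) = Nat.card P * m := hm
      rw [e]
      have hcard : (Nat.card G : ℂ) = Nat.card P * (P : Subgroup G).index := by
        rw [← Nat.cast_mul, Subgroup.card_mul_index]
      have hP : (Nat.card P : ℂ) ≠ 0 := by exact_mod_cast Nat.card_pos.ne'
      have hi : ((P : Subgroup G).index : ℂ) ≠ 0 := by
        exact_mod_cast Subgroup.index_ne_zero_of_finite
      have e2 : (Nat.card G : ℂ)⁻¹ * pair p (φ : G → ℂ) (χ : G → ℂ) * (Nat.card P * m) /
          (χ : G → ℂ) 1 = ((P : Subgroup G).index : ℂ)⁻¹ * m *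
          ((φ : G → ℂ) 1 / (χ : G → ℂ) 1) *
          (pair p (φ : G → ℂ) (χ : G → ℂ) / (φ : G → ℂ) 1) := by
        rw [hcard]
        have := apply_one_ne_zero φ
        have := apply_one_ne_zero χ
        field_simp
      rw [e2]
      refine memLocalIdeal_mul_left (memLocalRing_mul (memLocalRing_mul ?_ ?_) ?_) (key φ hφ)
      · exact memLocalRing_inv_natCast hM P.not_dvd_index
      · exact memLocalRing_natCast m
      · exact memLocalRing_degree_div hM h0 hφ
    · have : pair p (φ : G → ℂ) (χ : G → ℂ) = 0 := by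
        rw [pair_comm p (Core.isCharacter_apply_inv (Core.isIrr_isCharacter φ.2))
          (Core.isCharacter_apply_inv hχc)]
        exact pair_eq_zero hM hB hχ hφ
      rw [this]
      simpa using memLocalIdeal_zero (M := M)
  have h3 := memLocalIdeal_sum (s := Finset.univ) fun φ _ => h2 φ
  rw [← Finset.sum_div, ← h1, div_self (apply_one_ne_zero χ)] at h3
  exact not_memLocalIdeal_one h3

end height

section blau

variable {G : Type*} [Group G] {p : ℕ} {M : Ideal AlgInt}

/-- Blau's theorem. -/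
theorem blau [Fintype G] [Fact p.Prime] (hM : IsPModular p M) (H : Subgroup G) [Fintype H]
    (b : Set (IrrCharacter H)) (B : Set (IrrCharacter G)) (hind : IsInducedBlock M H b B)
    (χ : IrrCharacter G) (hχ : χ ∈ B) (h0 : blockHeight p B (χ : G → ℂ) = 0) :
    ∃ ξ ∈ b, blockHeight p b (ξ : H → ℂ) = 0 ∧
      ∃ n : ℕ, classInner (fun h : H => (χ : G → ℂ) h) (ξ : H → ℂ) = (n : ℂ) ∧ ¬ p ∣ n := by
  classical
  have := isPrime_of_isPModular hM
  obtain ⟨ξ, hξ, hξ0⟩ := exists_blockHeight_eq_zero p (isPBlock_nonempty hM hind.1)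
  have hχc := Core.isIrr_isCharacter χ.2
  have h1 := not_memLocalIdeal_pair_div hM hind.2.1 hχ h0 hχ
  have h2 : ¬ MemLocalIdeal M
      (pair p (ξ : H → ℂ) (fun h : H => (χ : G → ℂ) h) / (ξ : H → ℂ) 1) := fun h =>
    h1 ((memLocalIdeal_iff_of_sub (pair_div_sub_pair_div_of_induced hM hind hξ hχ hχc)).1 h)
  have hres : IsCharacter H (fun h : H => (χ : G → ℂ) h) := Core.isCharacter_comp H.subtype hχc
  have := Core.finite_irr (G := H)
  have := Fintype.ofFinite (IrrCharacter H)
  obtain ⟨m, hm⟩ := Core.isCharacter_iff.1 hres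
  have h3 : ∀ η : IrrCharacter H, classInner (fun h : H => (χ : G → ℂ) h) (η : H → ℂ) = m η := by
    intro η
    rw [hm, Core.classInner_sum_left]
    rw [Finset.sum_eq_single η]
    · rw [← Nat.cast_smul_eq_nsmul ℂ, Core.classInner_smul_left, Core.classInner_irr_self η.2,
        mul_one]
    · intro φ _ hφ
      rw [← Nat.cast_smul_eq_nsmul ℂ, Core.classInner_smul_left,
        Core.classInner_irr_ne φ.2 η.2 (fun h => hφ (Subtype.ext h)), mul_zero]
    · intro h
      exact absurd (Finset.mem_univ _) h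
  rw [hm, pair_sum_smul_right, Finset.sum_div] at h2
  obtain ⟨η, -, hη⟩ := exists_not_memLocalIdeal_of_sum h2
  have hηb : η ∈ b := by
    by_contra hcon
    apply hη
    rw [pair_eq_zero hM hind.1 hξ hcon]
    simpa using memLocalIdeal_zero (M := M)
  have e : (m η : ℂ) * pair p (ξ : H → ℂ) (η : H → ℂ) / (ξ : H → ℂ) 1 =
      (m η : ℂ) * ((η : H → ℂ) 1 / (ξ : H → ℂ) 1) *
        (pair p (η : H → ℂ) (ξ : H → ℂ) / (η : H → ℂ) 1) := by
    rw [pair_comm p (Core.isCharacter_apply_inv (Core.isIrr_isCharacter ξ.2))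
          (Core.isCharacter_apply_inv (Core.isIrr_isCharacter η.2))]
    have := apply_one_ne_zero ξ
    have := apply_one_ne_zero η
    field_simp
  rw [e] at hη
  have hpair := memLocalRing_pair_div hM η.2 (Core.isIrr_isCharacter ξ.2)
  refine ⟨η, hηb, ?_, m η, h3 η, ?_⟩
  · by_contra hcon
    apply hη
    exact memLocalIdeal_mul_right (memLocalIdeal_mul_left (memLocalRing_natCast _)
      (memLocalIdeal_degree_div hM hξ0 hcon)) hpair
  · intro hcon
    apply hη
    exact memLocalIdeal_mul_right (memLocalIdeal_mul_right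
      ((memLocalIdeal_natCast_iff hM _).2 hcon) (memLocalRing_degree_div hM hξ0 hηb)) hpair

end blau

end Cfsg.Agent.Blocks.Blau
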