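import Mathlib
import Cfsg.Prelude.Def_Blocks
import Cfsg.Agent.Blocks.Elementary
import Cfsg.Agent.Blocks.MinClass
import Cfsg.Agent.S0135
set_option linter.all false

/-!
# Knörr's theorem

* `exists_isPModular` : existence of a modular maximal ideal.
* `charDegree_eq`, `charDegree_dvd` : the degree.
* `memLocalIdeal_centralChar_of_lt` : the central character vanishes mod `M` at classes of too
  small defect.
* `knorr` : Knörr's theorem.
-/

set_option autoImplicit false
set_option linter.unusedSectionVars false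

open Cfsg
open Cfsg.Agent.Blocks.Local Cfsg.Agent.Blocks.Elementary Cfsg.Agent.Blocks.SylowIn
  Cfsg.Agent.Blocks.MinClass

namespace Cfsg.Agent.Blocks.Knorr

/-- A modular maximal ideal exists. -/
theorem exists_isPModular (p : ℕ) [hp : Fact p.Prime] : ∃ M : Ideal AlgInt, IsPModular p M := by
  have h1 : Ideal.span {(p : AlgInt)} ≠ ⊤ := by
    intro h
    rw [Ideal.span_singleton_eq_top] at h
    obtain ⟨u, hu⟩ := h
    have h2 : (p : AlgInt) * (↑u⁻¹ : AlgInt) = 1 := by rw [← hu]; simp
    have h3 : (p : ℂ) * ((↑u⁻¹ : AlgInt) : ℂ) = 1 := by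
      have := congrArg (fun z : AlgInt => (z : ℂ)) h2
      push_cast at this
      exact this
    have hp0 : (p : ℂ) ≠ 0 := by exact_mod_cast hp.out.ne_zero
    have h4 : ((↑u⁻¹ : AlgInt) : ℂ) = algebraMap ℚ ℂ ((p : ℚ)⁻¹) := by
      rw [map_inv₀, map_natCast]
      exact eq_inv_of_mul_eq_one_right h3
    have h5 : IsIntegral ℤ ((↑u⁻¹ : AlgInt) : ℂ) := (↑u⁻¹ : AlgInt).2
    rw [h4] at h5
    have h6 : IsIntegral ℤ ((p : ℚ)⁻¹) :=
      (isIntegral_algebraMap_iff (algebraMap ℚ ℂ).injective).1 h5
    obtain ⟨m, hm⟩ := IsIntegrallyClosed.isIntegral_iff.1 h6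
    have hp0' : (p : ℚ) ≠ 0 := by exact_mod_cast hp.out.ne_zero
    have h7 : (m : ℚ) * p = 1 := by
      have : (m : ℚ) = (p : ℚ)⁻¹ := hm
      rw [this, inv_mul_cancel₀ hp0']
    have h8 : m * (p : ℤ) = 1 := by exact_mod_cast h7
    have h9 : (p : ℤ) ∣ 1 := ⟨m, by rw [mul_comm]; exact h8.symm⟩
    have h10 : p ∣ 1 := by exact_mod_cast h9
    exact hp.out.one_lt.ne' (Nat.dvd_one.1 h10)
  obtain ⟨M, hM, hle⟩ := Ideal.exists_le_maximal _ h1
  exact ⟨M, hp.out, hM, hle (Ideal.mem_span_singleton_self _)⟩

section Degree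

variable {G : Type*} [Group G]

theorem charDegree_of_natCast {χ : G → ℂ} {n : ℕ} (h : χ 1 = n) : charDegree χ = n := by
  unfold charDegree
  rw [h]
  simp

/-- The degree of an irreducible character as a natural number. -/
theorem charDegree_eq {χ : G → ℂ} (hχ : IsIrrCharacter G χ) : χ 1 = (charDegree χ : ℂ) := by
  obtain ⟨n, ρ, hρ, rfl⟩ := hχ
  have h1 : ρ.character 1 = (Module.finrank ℂ (Fin n → ℂ) : ℂ) := Representation.char_one ρ
  rw [charDegree_of_natCast h1, h1]

theorem charDegree_ne_zero {χ : G → ℂ} (hχ : IsIrrCharacter G χ) : charDegree χ ≠ 0 := by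
  intro h
  have h1 := Characters.Central.irr_one_ne_zero hχ
  rw [charDegree_eq hχ, h] at h1
  simp at h1

theorem charDegree_dvd [Finite G] {χ : G → ℂ} (hχ : IsIrrCharacter G χ) :
    charDegree χ ∣ Nat.card G := by
  obtain ⟨n, ρ, hρ, rfl⟩ := hχ
  have h1 : ρ.character 1 = (Module.finrank ℂ (Fin n → ℂ) : ℂ) := Representation.char_one ρ
  rw [charDegree_of_natCast h1]
  have := hρ
  exact Cfsg.Agent.S0135.result ρ

/-- Classes of too small defect have central character in the local ideal. -/
theorem memLocalIdeal_centralChar_of_lt [Finite G] {M : Ideal AlgInt} {p : ℕ} [hp : Fact p.Prime]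
    (hM : IsPModular p M) {χ : G → ℂ} (hχ : IsIrrCharacter G χ) {g : G}
    (h : (charDegree χ).factorization p <
      ((Subgroup.centralizer ({g} : Set G)).index).factorization p) :
    MemLocalIdeal M (centralChar χ g) := by
  have hP : M.IsPrime := isPrime_of_isPModular hM
  set n := charDegree χ with hn
  have hn0 : n ≠ 0 := charDegree_ne_zero hχ
  set i := (Subgroup.centralizer ({g} : Set G)).index with hi
  set b := n.factorization p with hb
  have hi0 : i ≠ 0 := Subgroup.index_ne_zero_of_finite
  obtain ⟨j, hj⟩ : p ^ (b + 1) ∣ i := (hp.out.pow_dvd_iff_le_factorization hi0).2 h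
  obtain ⟨n', hn'⟩ : p ^ b ∣ n := Nat.ordProj_dvd n p
  have hpn' : ¬ p ∣ n' := by
    rintro ⟨k, rfl⟩
    have h1 : p ^ (b + 1) ∣ n := ⟨k, by rw [hn', pow_succ, mul_assoc]⟩
    have h2 := (hp.out.pow_dvd_iff_le_factorization hn0).1 h1
    omega
  have hp0 : (p : ℂ) ≠ 0 := by exact_mod_cast hp.out.ne_zero
  have hχ1 := charDegree_eq hχ
  have hne := Characters.Central.irr_one_ne_zero hχ
  have h1 : centralChar χ g * χ 1 = (i : ℂ) * χ g := by
    unfold centralChar
    rw [div_mul_cancel₀ _ hne]
  rw [hχ1, ← hn, hn', hj] at h1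
  push_cast at h1
  have h2 : centralChar χ g * n' = (p : ℂ) * ((j : ℂ) * χ g) := by
    have h3 : (p : ℂ) ^ b ≠ 0 := pow_ne_zero _ hp0
    apply mul_left_cancel₀ h3
    calc (p : ℂ) ^ b * (centralChar χ g * n') = centralChar χ g * ((p : ℂ) ^ b * n') := by ring
      _ = (p : ℂ) ^ (b + 1) * j * χ g := h1
      _ = _ := by ring
  have h3 : MemLocalIdeal M (centralChar χ g * n') := by
    rw [h2]
    exact memLocalIdeal_mul_right (memLocalIdeal_p hM)
      (memLocalRing_mul (memLocalRing_natCast j) (memLocalRing_char hχ g))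
  rcases memLocalIdeal_or_of_mul (memLocalRing_centralChar hχ g) (memLocalRing_natCast n') h3 with
    h4 | h4
  · exact h4
  · exact absurd ((memLocalIdeal_natCast_iff hM n').1 h4) hpn'

end Degree

section Knorr

variable {G : Type*} [Group G] [Finite G]

open Classical in
/-- The indicator function of `{x | x ^ p = 1}`. -/
noncomputable def tors (p : ℕ) : G → ℂ := fun x => if x ^ p = 1 then 1 else 0

open Classical in
theorem tors_def (p : ℕ) (x : G) : tors p x = if x ^ p = 1 then 1 else 0 := rfl

theorem isClassFunction_tors (p : ℕ) : IsClassFunction G (tors p) := by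
  intro g h
  rw [tors_def, tors_def]
  have h1 : (h * g * h⁻¹) ^ p = 1 ↔ g ^ p = 1 := by
    rw [conj_pow]
    constructor
    · intro h2
      have h3 : g ^ p = h⁻¹ * (h * g ^ p * h⁻¹) * h := by group
      rw [h3, h2]
      group
    · intro h2
      rw [h2]
      group
  by_cases h2 : g ^ p = 1
  · rw [if_pos h2, if_pos (h1.2 h2)]
  · rw [if_neg h2, if_neg (mt h1.1 h2)]

theorem conv_tors [Fintype G] (p : ℕ) (m : G) :
    conv (tors p) (tors p) m = ({x : G | x ^ p = 1 ∧ (x⁻¹ * m) ^ p = 1} : Set G).ncard := by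
  classical
  rw [conv_def, Set.ncard_eq_toFinset_card _ (Set.toFinite _), Finset.card_eq_sum_ones,
    Nat.cast_sum]
  rw [← Finset.sum_subset (Finset.subset_univ
    (Set.toFinite {x : G | x ^ p = 1 ∧ (x⁻¹ * m) ^ p = 1}).toFinset)]
  · refine Finset.sum_congr rfl fun x hx => ?_
    have hx : x ^ p = 1 ∧ (x⁻¹ * m) ^ p = 1 := by simpa using hx
    rw [tors_def, tors_def, if_pos hx.1, if_pos hx.2, one_mul, Nat.cast_one]
  · intro x _ hx
    have hx : ¬ (x ^ p = 1 ∧ (x⁻¹ * m) ^ p = 1) := by
      intro h; apply hx; simpa using h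
    rw [tors_def, tors_def]
    by_cases h1 : x ^ p = 1
    · have h2 : ¬ (x⁻¹ * m) ^ p = 1 := fun h2 => hx ⟨h1, h2⟩
      rw [if_neg h2, mul_zero]
    · rw [if_neg h1, zero_mul]

/-- Knörr's theorem. -/
theorem knorr (p : ℕ) [hp : Fact p.Prime] {χ : G → ℂ} (hχ : IsIrrCharacter G χ)
    (hvan : ∀ g : G, orderOf g = p → χ g = 0) :
    (charDegree χ).factorization p = (Nat.card G).factorization p := by
  classical
  have := Fintype.ofFinite G
  have : Fintype (ConjClasses G) := Fintype.ofFinite _
  obtain ⟨M, hM⟩ := exists_isPModular p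
  have hP : M.IsPrime := isPrime_of_isPModular hM
  apply le_antisymm
  · exact (Nat.factorization_le_iff_dvd (charDegree_ne_zero hχ) Nat.card_pos.ne').2
      (charDegree_dvd hχ) p
  by_contra hlt
  push Not at hlt
  obtain ⟨g, P, hg, hS, -, hall⟩ := exists_minimal_class hM hχ
  have hPcard := card_of_sylow_map_eq hS
  have hPp : IsPGroup p P := by
    obtain ⟨S, rfl⟩ := hS
    exact S.isPGroup'.map _
  have hPbot : P ≠ ⊥ := by
    intro hbot
    rw [hbot, Subgroup.card_bot] at hPcard
    have h1 : (Nat.card (Subgroup.centralizer ({g} : Set G))).factorization p = 0 := by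
      by_contra h2
      have h3 := Nat.one_lt_pow h2 hp.out.one_lt
      omega
    apply hg
    apply memLocalIdeal_centralChar_of_lt hM hχ
    have h2 : (Nat.card G).factorization p =
        ((Subgroup.centralizer ({g} : Set G)).index).factorization p := by
      rw [← Subgroup.index_mul_card (Subgroup.centralizer ({g} : Set G)),
        Nat.factorization_mul Subgroup.index_ne_zero_of_finite Nat.card_pos.ne',
        Finsupp.add_apply, h1, add_zero]
    rw [← h2]
    exact hlt
  -- an element of order `p` in the centre of `P`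
  have hnt : Nontrivial P := (Subgroup.nontrivial_iff_ne_bot P).2 hPbot
  have hcnt : Nontrivial (Subgroup.center P) := hPp.center_nontrivial
  obtain ⟨z', hz'⟩ : ∃ z : Subgroup.center P, orderOf z = p := by
    apply exists_prime_orderOf_dvd_card'
    obtain ⟨n, hn, hn'⟩ := (IsPGroup.nontrivial_iff_card
      (hPp.to_subgroup (Subgroup.center P))).1 hcnt
    rw [hn']
    exact dvd_pow_self p hn.ne'
  set z : G := ((z' : P) : G) with hz
  have hzp : orderOf z = p := by
    rw [hz, Subgroup.orderOf_coe, Subgroup.orderOf_coe, hz']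
  have hzP : z ∈ P := (z' : P).2
  have hzc : ∀ w ∈ P, z * w = w * z := by
    intro w hw
    have h1 := (Subgroup.mem_center_iff.1 z'.2) ⟨w, hw⟩
    have h2 := congrArg (fun y : P => (y : G)) h1
    exact h2.symm
  -- the central character of the torsion set is one
  have hom1 : om χ (tors p) = 1 := by
    rw [om_def, Finset.sum_eq_single (1 : G)]
    · rw [tors_def, one_pow, if_pos rfl, one_mul]
      exact div_self (Characters.Central.irr_one_ne_zero hχ)
    · intro x _ hx
      rw [tors_def]
      by_cases h1 : x ^ p = 1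
      · rw [hvan x (orderOf_eq_prime h1 hx), mul_zero]
      · rw [if_neg h1, zero_mul]
    · intro h; exact absurd (Finset.mem_univ _) h
  have h1 := om_mul hχ (isClassFunction_tors (G := G) p) (isClassFunction_tors p)
  rw [hom1, mul_one, om_eq_sum_conjClasses hχ
    (isClassFunction_conv (isClassFunction_tors p) (isClassFunction_tors p))] at h1
  apply not_memLocalIdeal_one (M := M)
  rw [h1]
  refine memLocalIdeal_sum fun c _ => ?_
  by_cases hc : MemLocalIdeal M (centralChar χ (Quotient.out c))
  · rw [conv_tors]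
    exact memLocalIdeal_mul_left (memLocalRing_natCast _) hc
  · obtain ⟨x, hx, hxP⟩ := hall _ hc
    rw [eq_of_isConj (isClassFunction_conv (isClassFunction_tors p) (isClassFunction_tors p)) hx]
    refine memLocalIdeal_mul_right ?_ (memLocalRing_centralChar hχ _)
    rw [conv_tors, memLocalIdeal_natCast_iff hM]
    rw [← Nat.modEq_zero_iff_dvd]
    have hxP' : ∀ q ∈ P, q * x = x * q := Subgroup.mem_centralizer_iff.1 hxP
    refine (ncard_modEq_ncard_inter hPp ?_).trans ?_
    · rintro q hq y ⟨hy1, hy2⟩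
      constructor
      · rw [conj_pow, hy1]
        group
      · have h2 : (q * y * q⁻¹)⁻¹ * x = q * (y⁻¹ * x) * q⁻¹ := by
          calc (q * y * q⁻¹)⁻¹ * x = q * y⁻¹ * q⁻¹ * (x * q) * q⁻¹ := by group
            _ = q * y⁻¹ * q⁻¹ * (q * x) * q⁻¹ := by rw [hxP' q hq]
            _ = _ := by group
        rw [h2, conj_pow, hy2]
        group
    · rw [Nat.modEq_zero_iff_dvd]
      apply dvd_ncard_of_mul_right hzp
      rintro y ⟨⟨hy1, hy2⟩, hy3⟩
      have hyz : Commute y z := (Subgroup.mem_centralizer_iff.1 hy3 z hzP).symm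
      have hzpow : z ^ p = 1 := by rw [← hzp]; exact pow_orderOf_eq_one z
      refine ⟨⟨?_, ?_⟩, ?_⟩
      · rw [hyz.mul_pow, hy1, hzpow, one_mul]
      · have h2 : (y * z)⁻¹ * x = (y⁻¹ * x) * z⁻¹ := by
          have h3 : z⁻¹ * (y⁻¹ * x) = (y⁻¹ * x) * z⁻¹ := by
            have h4 : Commute z⁻¹ (y⁻¹ * x) := by
              apply Commute.inv_left
              apply Commute.mul_right
              · exact hyz.symm.inv_right
              · exact hxP' z hzP
            exact h4
          rw [← h3]
          group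
        have h5 : Commute (y⁻¹ * x) z⁻¹ := by
          apply Commute.inv_right
          apply Commute.mul_left
          · exact hyz.inv_left
          · exact (hxP' z hzP).symm
        rw [h2, h5.mul_pow, hy2, inv_pow, hzpow]
        group
      · apply Subgroup.mul_mem _ hy3
        rw [Subgroup.mem_centralizer_iff]
        intro w hw
        exact (hzc w hw).symm

end Knorr

end Cfsg.Agent.Blocks.Knorr
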