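import Mathlib
import Cfsg.Prelude.Def_Blocks
import Cfsg.Agent.Blocks.PPart
import Cfsg.Agent.Characters.Core
set_option linter.all false

/-!
# Sums over a group decomposed along `p`-parts; the number of characters in a block as an average
-/

set_option autoImplicit false

open Cfsg

namespace Cfsg.Agent.Blocks.SectionSum

open scoped Classical in
/-- A sum over the group, decomposed along the `p`-parts of the elements. -/
theorem sum_eq_sum_sections {G : Type*} [Group G] [Fintype G] (p : ℕ) [hp : Fact p.Prime]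
    {A : Type*} [AddCommMonoid A] (f : G → A) :
    ∑ g : G, f g = ∑ x ∈ Finset.univ.filter (fun x : G => ∃ k : ℕ, orderOf x = p ^ k),
      ∑ y ∈ Finset.univ.filter (fun y : G => Commute x y ∧ ¬ p ∣ orderOf y), f (x * y) := by
  choose π hπ using fun g : G => PPart.exists_isPPart p g
  rw [← Finset.sum_fiberwise_of_maps_to (s := Finset.univ)
    (t := Finset.univ.filter (fun x : G => ∃ k : ℕ, orderOf x = p ^ k)) (g := π)
    (f := f)]
  · refine Finset.sum_congr rfl fun x hx => ?_
    have hx' := (Finset.mem_filter.1 hx).2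
    symm
    refine Finset.sum_bij (fun y _ => x * y) ?_ ?_ ?_ ?_
    · intro y hy
      obtain ⟨h1, h2⟩ := (Finset.mem_filter.1 hy).2
      refine Finset.mem_filter.2 ⟨Finset.mem_univ _, ?_⟩
      exact PPart.isPPart_unique (hπ _) (PPart.isPPart_mul h1 hx' h2)
    · intro a _ b _ hab
      exact mul_left_cancel hab
    · intro g hg
      have h1 := (Finset.mem_filter.1 hg).2
      obtain ⟨y, hy1, hy2, hy3, hy4⟩ := hπ g
      rw [h1] at hy1 hy2
      exact ⟨y, Finset.mem_filter.2 ⟨Finset.mem_univ _, hy2, hy4⟩, hy1⟩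
    · intro _ _
      rfl
  · intro g _
    obtain ⟨y, hy1, hy2, hy3, hy4⟩ := hπ g
    exact Finset.mem_filter.2 ⟨Finset.mem_univ _, hy3⟩

/-- The sum of the squared norms of the values of an irreducible character. -/
theorem sum_norm_sq {G : Type*} [Group G] [Fintype G] (χ : IrrCharacter G) :
    ∑ g : G, ‖(χ : G → ℂ) g‖ ^ 2 = (Nat.card G : ℝ) := by
  have h := Characters.Core.classInner_irr_self χ.2
  unfold classInner at h
  have hG : (Nat.card G : ℂ) ≠ 0 := by exact_mod_cast Nat.card_pos.ne'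
  have h2 : ∑ g : G, (χ : G → ℂ) g * (starRingEnd ℂ) ((χ : G → ℂ) g) = (Nat.card G : ℂ) := by
    field_simp at h
    exact h
  have h3 : ((∑ g : G, ‖(χ : G → ℂ) g‖ ^ 2 : ℝ) : ℂ) = ((Nat.card G : ℝ) : ℂ) := by
    push_cast
    rw [← h2]
    refine Finset.sum_congr rfl fun g _ => ?_
    rw [Complex.mul_conj, Complex.normSq_eq_norm_sq]
    push_cast
    rfl
  exact_mod_cast h3

/-- The number of characters in a set, as an average of squared norms. -/
theorem card_mul_card {G : Type*} [Group G] [Fintype G] (B : Set (IrrCharacter G)) :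
    (Nat.card B : ℝ) * (Nat.card G : ℝ) = ∑ g : G, ∑ᶠ χ ∈ B, ‖(χ : G → ℂ) g‖ ^ 2 := by
  have hfin : Finite (IrrCharacter G) := Characters.Core.finite_irr
  have e1 : ∀ g : G, ∑ᶠ χ ∈ B, ‖(χ : G → ℂ) g‖ ^ 2 =
      ∑ χ ∈ (Set.toFinite B).toFinset, ‖(χ : G → ℂ) g‖ ^ 2 := fun g => by
    rw [finsum_mem_eq_finite_toFinset_sum _ (Set.toFinite B)]
  simp_rw [e1]
  rw [Finset.sum_comm, Finset.sum_congr rfl fun χ _ => sum_norm_sq χ, Finset.sum_const,
    nsmul_eq_mul, ← Set.ncard_eq_toFinset_card B (Set.toFinite B), Nat.card_coe_set_eq]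

end Cfsg.Agent.Blocks.SectionSum
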