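import Mathlib
set_option linter.all false

/-!
# Combinatorial part of Brauer's theorem on blocks with a Sylow subgroup of prime order

An integer matrix `a : I → Ω → ℤ` with Gram matrix `1 + e J`, nonzero rows and at least
`e + |Ω|` rows has exactly `e + |Ω|` rows, each of them `±(1, …, 1)` or `±` a unit vector.
-/

set_option autoImplicit false

namespace Cfsg.Agent.Blocks.CyclicComb

variable {I Ω : Type*} [Fintype I] [Fintype Ω]

theorem sq_eq_one_iff_of_side {x : ℤ} (h : x ^ 2 = 1) : x = 1 ∨ x = -1 := by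
  have h1 : (x - 1) * (x + 1) = 0 := by ring_nf; linarith
  rcases mul_eq_zero.1 h1 with h2 | h2
  · left; linarith
  · right; linarith

/-- The sum of the squared differences of the entries of a nonconstant integer vector. -/
theorem two_mul_le_sum_sq_sub [DecidableEq Ω] (a : Ω → ℤ) (x y : Ω) (hxy : a x ≠ a y) :
    2 * ((Fintype.card Ω : ℤ) - 1) ≤ ∑ i, ∑ j, (a i - a j) ^ 2 := by
  classical
  have hne : x ≠ y := fun h => hxy (by rw [h])
  -- lower bound each inner sum
  have h1 : ∀ i : Ω, (if i = x ∨ i = y then ((Fintype.card Ω : ℤ) - 1 : ℤ) else 0) ≤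
      (if i = x ∨ i = y then ((Fintype.card Ω : ℤ) - 1 : ℤ) else 0) := fun i => le_rfl
  have hsq : ∀ i : Ω, 1 ≤ (a i - a x) ^ 2 + (a i - a y) ^ 2 := by
    intro i
    by_cases h : a i = a x
    · have h2 : a i - a y ≠ 0 := by
        intro h3
        apply hxy
        rw [← h]
        linarith
      have h4 : 0 < (a i - a y) ^ 2 := by positivity
      nlinarith [sq_nonneg (a i - a x)]
    · have h2 : a i - a x ≠ 0 := sub_ne_zero.2 h
      have h4 : 0 < (a i - a x) ^ 2 := by positivity
      nlinarith [sq_nonneg (a i - a y)]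
  -- S = sum over all pairs; split off rows x, y and columns x, y
  have hrow : ∀ i : Ω, i ≠ x → i ≠ y →
      (a i - a x) ^ 2 + (a i - a y) ^ 2 ≤ ∑ j, (a i - a j) ^ 2 := by
    intro i _ _
    have h2 : ∑ j ∈ ({x, y} : Finset Ω), (a i - a j) ^ 2 ≤ ∑ j, (a i - a j) ^ 2 :=
      Finset.sum_le_sum_of_subset_of_nonneg (Finset.subset_univ _) (fun j _ _ => sq_nonneg _)
    rwa [Finset.sum_pair hne] at h2
  have hx : ∑ j, (a x - a j) ^ 2 + ∑ j, (a y - a j) ^ 2 =
      ∑ j, ((a j - a x) ^ 2 + (a j - a y) ^ 2) := by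
    rw [← Finset.sum_add_distrib]
    exact Finset.sum_congr rfl fun j _ => by ring
  have hsplit : ∑ i, ∑ j, (a i - a j) ^ 2 =
      (∑ i ∈ Finset.univ \ {x, y}, ∑ j, (a i - a j) ^ 2) +
        (∑ j, (a x - a j) ^ 2 + ∑ j, (a y - a j) ^ 2) := by
    rw [← Finset.sum_sdiff (Finset.subset_univ ({x, y} : Finset Ω)), Finset.sum_pair hne]
  have hsplit2 : ∑ j, ((a j - a x) ^ 2 + (a j - a y) ^ 2) =
      (∑ i ∈ Finset.univ \ {x, y}, ((a i - a x) ^ 2 + (a i - a y) ^ 2)) +
        2 * (a x - a y) ^ 2 := by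
    rw [← Finset.sum_sdiff (Finset.subset_univ ({x, y} : Finset Ω)), Finset.sum_pair hne]
    ring
  have hcard : ((Finset.univ \ {x, y} : Finset Ω).card : ℤ) = (Fintype.card Ω : ℤ) - 2 := by
    rw [Finset.card_sdiff_of_subset (Finset.subset_univ _), Finset.card_univ, Finset.card_pair hne]
    have : 2 ≤ Fintype.card Ω := by
      rw [← Finset.card_pair hne, ← Finset.card_univ]
      exact Finset.card_le_card (Finset.subset_univ _)
    push_cast [this]
    ring
  have hb1 : ((Fintype.card Ω : ℤ) - 2) ≤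
      ∑ i ∈ Finset.univ \ {x, y}, ((a i - a x) ^ 2 + (a i - a y) ^ 2) := by
    rw [← hcard]
    have := Finset.card_nsmul_le_sum (Finset.univ \ {x, y} : Finset Ω)
      (fun i => (a i - a x) ^ 2 + (a i - a y) ^ 2) 1 (fun i _ => hsq i)
    simpa using this
  have hb2 : ∑ i ∈ Finset.univ \ {x, y}, ((a i - a x) ^ 2 + (a i - a y) ^ 2) ≤
      ∑ i ∈ Finset.univ \ {x, y}, ∑ j, (a i - a j) ^ 2 := by
    refine Finset.sum_le_sum fun i hi => ?_
    rw [Finset.mem_sdiff, Finset.mem_insert, Finset.mem_singleton] at hi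
    exact hrow i (fun h => hi.2 (Or.inl h)) (fun h => hi.2 (Or.inr h))
  have hb3 : 1 ≤ (a x - a y) ^ 2 := by
    have h2 : a x - a y ≠ 0 := sub_ne_zero.2 hxy
    have h4 : 0 < (a x - a y) ^ 2 := by positivity
    exact h4
  rw [hsplit, hx, hsplit2]
  linarith

/-- The combinatorial lemma. -/
theorem comb [DecidableEq Ω] [Nonempty Ω] (e : ℕ) (a : I → Ω → ℤ)
    (hgram : ∀ i j, ∑ c, a c i * a c j = (e : ℤ) + if i = j then 1 else 0)
    (hne : ∀ c, ∃ i, a c i ≠ 0) (hk : e + Fintype.card Ω ≤ Fintype.card I) :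
    Fintype.card I = e + Fintype.card Ω ∧
      ∀ c, (∀ i, a c i = 1) ∨ (∀ i, a c i = -1) ∨
        (∃ i₀, ∀ i, a c i = if i = i₀ then 1 else 0) ∨
        (∃ i₀, ∀ i, a c i = if i = i₀ then -1 else 0) := by
  classical
  set t : ℤ := (Fintype.card Ω : ℤ) with ht
  have htpos : 1 ≤ t := by
    have : 0 < Fintype.card Ω := Fintype.card_pos
    omega
  -- constant and nonconstant rows
  let Con : Finset I := Finset.univ.filter fun c => ∀ i j, a c i = a c j
  let Non : Finset I := Finset.univ.filter fun c => ¬ ∀ i j, a c i = a c j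
  have hcards : (Con.card : ℤ) + Non.card = Fintype.card I := by
    have := Finset.card_filter_add_card_filter_not (s := (Finset.univ : Finset I))
      (fun c => ∀ i j, a c i = a c j)
    rw [Finset.card_univ] at this
    exact_mod_cast this
  -- total difference sum
  have hD : ∑ c, ∑ i, ∑ j, (a c i - a c j) ^ 2 = 2 * t * (t - 1) := by
    have h1 : ∀ i j : Ω, ∑ c, (a c i - a c j) ^ 2 = if i = j then 0 else 2 := by
      intro i j
      have h2 : ∀ c, (a c i - a c j) ^ 2 =
          a c i * a c i + a c j * a c j - 2 * (a c i * a c j) := fun c => by ring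
      rw [Finset.sum_congr rfl fun c _ => h2 c, Finset.sum_sub_distrib, Finset.sum_add_distrib,
        ← Finset.mul_sum, hgram, hgram, hgram]
      by_cases h : i = j
      · simp [h]; ring
      · simp [h]; ring
    rw [Finset.sum_comm]
    have h3 : ∀ i : Ω, ∑ c, ∑ j, (a c i - a c j) ^ 2 = 2 * (t - 1) := by
      intro i
      rw [Finset.sum_comm]
      simp only [h1]
      have h4 : ∀ j : Ω, (if i = j then (0 : ℤ) else 2) = 2 - if i = j then 2 else 0 := by
        intro j; split_ifs <;> ring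
      rw [Finset.sum_congr rfl fun j _ => h4 j, Finset.sum_sub_distrib, Finset.sum_ite_eq]
      simp [ht]
      ring
    rw [Finset.sum_congr rfl fun i _ => h3 i, Finset.sum_const, Finset.card_univ, nsmul_eq_mul]
    rw [← ht]
    ring
  -- total norm
  have hN : ∑ c, ∑ i, (a c i) ^ 2 = t * (e + 1) := by
    rw [Finset.sum_comm]
    have h1 : ∀ i : Ω, ∑ c, (a c i) ^ 2 = (e : ℤ) + 1 := by
      intro i
      have := hgram i i
      rw [if_pos rfl] at this
      rw [← this]
      exact Finset.sum_congr rfl fun c _ => sq _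
    rw [Finset.sum_congr rfl fun i _ => h1 i, Finset.sum_const, Finset.card_univ, nsmul_eq_mul]
  -- constant rows have norm at least t
  have hCon : ∀ c ∈ Con, t ≤ ∑ i, (a c i) ^ 2 := by
    intro c hc
    obtain ⟨i0, hi0⟩ := hne c
    have hcc : ∀ i j, a c i = a c j := (Finset.mem_filter.1 hc).2
    have h1 : ∀ i ∈ (Finset.univ : Finset Ω), (1 : ℤ) ≤ (a c i) ^ 2 := by
      intro i _
      rw [hcc i i0]
      have : 0 < (a c i0) ^ 2 := by positivity
      exact this
    have := Finset.card_nsmul_le_sum (Finset.univ : Finset Ω) (fun i => (a c i) ^ 2) 1 h1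
    simpa [ht] using this
  have hNon : ∀ c ∈ Non, (1 : ℤ) ≤ ∑ i, (a c i) ^ 2 := by
    intro c _
    obtain ⟨i0, hi0⟩ := hne c
    have h1 : (a c i0) ^ 2 ≤ ∑ i, (a c i) ^ 2 :=
      Finset.single_le_sum (f := fun i => (a c i) ^ 2) (fun i _ => sq_nonneg _)
        (Finset.mem_univ i0)
    have : 0 < (a c i0) ^ 2 := by positivity
    linarith [this]
  have hsplitN : ∑ c ∈ Con, ∑ i, (a c i) ^ 2 + ∑ c ∈ Non, ∑ i, (a c i) ^ 2 = t * (e + 1) := by
    rw [← hN]
    exact Finset.sum_filter_add_sum_filter_not _ _ _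
  have hConSum : t * Con.card ≤ ∑ c ∈ Con, ∑ i, (a c i) ^ 2 := by
    have := Finset.card_nsmul_le_sum Con (fun c => ∑ i, (a c i) ^ 2) t hCon
    rw [nsmul_eq_mul] at this
    linarith
  have hNonSum : (Non.card : ℤ) ≤ ∑ c ∈ Non, ∑ i, (a c i) ^ 2 := by
    have := Finset.card_nsmul_le_sum Non (fun c => ∑ i, (a c i) ^ 2) 1 hNon
    rw [nsmul_eq_mul, mul_one] at this
    exact this
  -- number of nonconstant rows
  have hNonD : 2 * (t - 1) * Non.card ≤ 2 * t * (t - 1) := by
    have h1 : ∀ c ∈ Non, 2 * (t - 1) ≤ ∑ i, ∑ j, (a c i - a c j) ^ 2 := by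
      intro c hc
      have h2 : ¬ ∀ i j, a c i = a c j := (Finset.mem_filter.1 hc).2
      push Not at h2
      obtain ⟨x, y, hxy⟩ := h2
      exact two_mul_le_sum_sq_sub (a c) x y hxy
    have h2 := Finset.card_nsmul_le_sum Non (fun c => ∑ i, ∑ j, (a c i - a c j) ^ 2) _ h1
    rw [nsmul_eq_mul] at h2
    have h3 : ∑ c ∈ Non, ∑ i, ∑ j, (a c i - a c j) ^ 2 ≤
        ∑ c, ∑ i, ∑ j, (a c i - a c j) ^ 2 :=
      Finset.sum_le_sum_of_subset_of_nonneg (Finset.subset_univ _)
        (fun c _ _ => Finset.sum_nonneg fun i _ => Finset.sum_nonneg fun j _ => sq_nonneg _)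
    rw [hD] at h3
    linarith
  have hk' : (e : ℤ) + t ≤ Con.card + Non.card := by
    rw [hcards, ht]
    exact_mod_cast hk
  have hNonle : (Non.card : ℤ) ≤ t := by
    rcases eq_or_lt_of_le htpos with h | h
    · -- t = 1: all rows are constant
      have hsub : ∀ i j : Ω, i = j := by
        have : Fintype.card Ω = 1 := by omega
        have h2 := Fintype.card_le_one_iff_subsingleton.1 this.le
        exact fun i j => Subsingleton.elim i j
      have : Non = ∅ := by
        rw [Finset.filter_eq_empty_iff]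
        intro c _
        push Not
        intro i j
        rw [hsub i j]
      rw [this]
      simp
      omega
    · by_contra hlt
      push Not at hlt
      nlinarith
  have hbound : t * Con.card + Non.card ≤ t * (e + 1) := by linarith
  have hConge : (e : ℤ) ≤ Con.card := by linarith
  have hConle : (Con.card : ℤ) ≤ e ∨ (Non.card : ℤ) = 0 := by
    by_contra h
    push Not at h
    have h1 : (e : ℤ) + 1 ≤ Con.card := by linarith [h.1]
    have h2 : (0 : ℤ) < Non.card := by
      rcases Nat.eq_zero_or_pos Non.card with h3 | h3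
      · exact absurd (by exact_mod_cast h3) h.2
      · exact_mod_cast h3
    nlinarith
  -- the equalities
  have hfin : (Con.card : ℤ) + Non.card = e + t ∧
      ∑ c ∈ Con, ∑ i, (a c i) ^ 2 = t * Con.card ∧ ∑ c ∈ Non, ∑ i, (a c i) ^ 2 = Non.card := by
    rcases hConle with h | h
    · have h1 : (Con.card : ℤ) = e := le_antisymm h hConge
      have h2 : (Non.card : ℤ) = t := by linarith
      refine ⟨by rw [h1, h2], ?_, ?_⟩
      · rw [h1] at hConSum ⊢
        nlinarith
      · rw [h1] at hConSum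
        nlinarith
    · -- no nonconstant rows: then t = 1
      have h1 : (e : ℤ) + t ≤ Con.card := by linarith
      have h2 : t * ((e : ℤ) + t) ≤ t * (e + 1) := by nlinarith
      have h3 : t = 1 := by
        have : (e : ℤ) + t ≤ e + 1 := le_of_mul_le_mul_left h2 (by linarith)
        linarith
      rw [h3] at hbound h1 hConSum hsplitN ⊢
      exact ⟨by linarith, by linarith, by linarith⟩
  obtain ⟨hf1, hf2, hf3⟩ := hfin
  refine ⟨?_, ?_⟩
  · have : (Fintype.card I : ℤ) = e + t := by rw [← hcards, hf1]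
    rw [ht] at this
    exact_mod_cast this
  · intro c
    by_cases hc : ∀ i j, a c i = a c j
    · -- constant row
      have hcm : c ∈ Con := Finset.mem_filter.2 ⟨Finset.mem_univ _, hc⟩
      have h1 : ∑ i, (a c i) ^ 2 = t := by
        have h2 : ∀ d ∈ Con, t ≤ ∑ i, (a d i) ^ 2 := hCon
        have h3 : ∑ d ∈ Con, t = ∑ d ∈ Con, ∑ i, (a d i) ^ 2 := by
          rw [hf2, Finset.sum_const, nsmul_eq_mul, mul_comm]
        exact ((Finset.sum_eq_sum_iff_of_le h2).1 h3 c hcm).symm
      obtain ⟨i0⟩ := ‹Nonempty Ω›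
      have h3 : ∀ i, (a c i) ^ 2 = (a c i0) ^ 2 := fun i => by rw [hc i i0]
      rw [Finset.sum_congr rfl fun i _ => h3 i, Finset.sum_const, Finset.card_univ,
        nsmul_eq_mul, ← ht] at h1
      have h4 : (a c i0) ^ 2 = 1 := by
        have : t ≠ 0 := by omega
        exact mul_left_cancel₀ this (by rw [h1, mul_one])
      rcases sq_eq_one_iff_of_side h4 with h | h
      · exact Or.inl fun i => by rw [hc i i0, h]
      · exact Or.inr (Or.inl fun i => by rw [hc i i0, h])
    · -- nonconstant row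
      have hcm : c ∈ Non := Finset.mem_filter.2 ⟨Finset.mem_univ _, hc⟩
      have h1 : ∑ i, (a c i) ^ 2 = 1 := by
        have h3 : ∑ d ∈ Non, (1 : ℤ) = ∑ d ∈ Non, ∑ i, (a d i) ^ 2 := by
          rw [hf3, Finset.sum_const, nsmul_eq_mul, mul_one]
        exact ((Finset.sum_eq_sum_iff_of_le hNon).1 h3 c hcm).symm
      obtain ⟨i0, hi0⟩ := hne c
      have h2 : (1 : ℤ) ≤ (a c i0) ^ 2 := by
        have : 0 < (a c i0) ^ 2 := by positivity
        exact this
      rw [← Finset.add_sum_erase _ _ (Finset.mem_univ i0)] at h1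
      have h5 : 0 ≤ ∑ i ∈ Finset.univ.erase i0, (a c i) ^ 2 :=
        Finset.sum_nonneg fun i _ => sq_nonneg _
      have h6 : ∑ i ∈ Finset.univ.erase i0, (a c i) ^ 2 = 0 := by linarith
      have h7 : (a c i0) ^ 2 = 1 := by linarith
      rw [Finset.sum_eq_zero_iff_of_nonneg (fun i _ => sq_nonneg _)] at h6
      have h8 : ∀ i, i ≠ i0 → a c i = 0 := by
        intro i hi
        have := h6 i (Finset.mem_erase.2 ⟨hi, Finset.mem_univ _⟩)
        exact pow_eq_zero_iff (two_ne_zero) |>.1 this
      rcases sq_eq_one_iff_of_side h7 with h | h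
      · refine Or.inr (Or.inr (Or.inl ⟨i0, fun i => ?_⟩))
        split_ifs with hi
        · rw [hi, h]
        · exact h8 i hi
      · refine Or.inr (Or.inr (Or.inr ⟨i0, fun i => ?_⟩))
        split_ifs with hi
        · rw [hi, h]
        · exact h8 i hi

end Cfsg.Agent.Blocks.CyclicComb
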