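import Mathlib
import Cfsg.Prelude.Def_Blocks
import Cfsg.Agent.Characters.Core
import Cfsg.Agent.Blocks.Local
import Cfsg.Agent.Blocks.Basic
import Cfsg.Agent.Blocks.Covering
import Cfsg.Agent.Blocks.ConvCentral
import Cfsg.Agent.Blocks.ClassSum
import Cfsg.Agent.Blocks.CentralScalar
import Cfsg.Agent.Blocks.OrbitSum
import Cfsg.Agent.Blocks.OsimaUnion
import Cfsg.Agent.Blocks.SylowIn
import Cfsg.Agent.S0916
set_option linter.all false

/-!
# Blocks of `P C_G(P)` and conjugation by `N_G(P)`

For a subgroup `L` stable under conjugation by `n`, `conjL n` is the corresponding automorphism of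
`L`; the union of the conjugates of a block `b` of `L` under a subgroup `N` is a union of blocks
(`orbitSet`).  The main result is `exists_conj_of_brauer_congr` : two blocks of
`L = P ⊔ C_G(P)` whose Brauer-induced central characters agree modulo `M`, and are nonzero on a
class with defect group `P`, are conjugate under `N_G(P)`.
-/

set_option autoImplicit false

open scoped ComplexConjugate
open Cfsg

namespace Cfsg.Agent.Blocks.ExtendedFMT

open Cfsg.Agent.Characters.Core Cfsg.Agent.Blocks.Local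
open Cfsg.Agent.Blocks.ConvCentral (conv conv_apply lin lin_def lin_conv isClassFunction_conv)

variable {G : Type*} [Group G]

/-! ### The automorphism of `L` induced by conjugation -/

/-- Conjugation by `n`, as an automorphism of a subgroup stable under it. -/
def conjL (L : Subgroup G) (n : G) (h : ∀ x ∈ L, n * x * n⁻¹ ∈ L) (h' : ∀ x ∈ L, n⁻¹ * x * n ∈ L) :
    L ≃* L where
  toFun x := ⟨n * x * n⁻¹, h x x.2⟩
  invFun x := ⟨n⁻¹ * x * n, h' x x.2⟩
  left_inv x := Subtype.ext (by change n⁻¹ * (n * x * n⁻¹) * n = x; group)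
  right_inv x := Subtype.ext (by change n * (n⁻¹ * x * n) * n⁻¹ = x; group)
  map_mul' x y := Subtype.ext (by
    change n * (x * y) * n⁻¹ = n * x * n⁻¹ * (n * y * n⁻¹); group)

theorem conjL_coe (L : Subgroup G) (n : G) (h : ∀ x ∈ L, n * x * n⁻¹ ∈ L)
    (h' : ∀ x ∈ L, n⁻¹ * x * n ∈ L) (x : L) : ((conjL L n h h' x : L) : G) = n * x * n⁻¹ := rfl

/-- Composition of an irreducible character with an automorphism. -/
def compIrr {H : Type*} [Group H] (e : H ≃* H) (θ : IrrCharacter H) : IrrCharacter H :=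
  ⟨fun x => (θ : H → ℂ) (e x), isIrr_comp e.toMonoidHom e.surjective θ.2⟩

theorem compIrr_apply {H : Type*} [Group H] (e : H ≃* H) (θ : IrrCharacter H) (x : H) :
    (compIrr e θ : H → ℂ) x = (θ : H → ℂ) (e x) := rfl

theorem compIrr_symm_compIrr {H : Type*} [Group H] (e : H ≃* H) (θ : IrrCharacter H) :
    compIrr e.symm (compIrr e θ) = θ :=
  Subtype.ext (funext fun x => by rw [compIrr_apply, compIrr_apply, e.apply_symm_apply])

theorem compIrr_compIrr_symm {H : Type*} [Group H] (e : H ≃* H) (θ : IrrCharacter H) :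
    compIrr e (compIrr e.symm θ) = θ :=
  Subtype.ext (funext fun x => by rw [compIrr_apply, compIrr_apply, e.symm_apply_apply])

theorem sameBlock_compIrr {H : Type*} [Group H] {M : Ideal AlgInt} (e : H ≃* H)
    {θ ψ : IrrCharacter H} (h : SameBlock M (θ : H → ℂ) (ψ : H → ℂ)) :
    SameBlock M (compIrr e θ : H → ℂ) (compIrr e ψ : H → ℂ) := by
  intro x
  have h1 : centralChar (compIrr e θ : H → ℂ) x = centralChar (θ : H → ℂ) (e x) :=
    Covering.centralChar_comp_equiv e (θ : H → ℂ) x
  have h2 : centralChar (compIrr e ψ : H → ℂ) x = centralChar (ψ : H → ℂ) (e x) :=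
    Covering.centralChar_comp_equiv e (ψ : H → ℂ) x
  rw [h1, h2]
  exact h (e x)

/-! ### The idempotent of a union of blocks -/

section idem

variable {H : Type*} [Group H]

theorem finsum_mem_eq_sum_filter' {ι : Type*} [Fintype ι] (S : Set ι) [DecidablePred (· ∈ S)]
    (F : ι → ℂ) : ∑ᶠ χ ∈ S, F χ = ∑ χ ∈ Finset.univ.filter (· ∈ S), F χ := by
  rw [← finsum_mem_finset_eq_sum]
  refine finsum_mem_congr ?_ fun _ _ => rfl
  ext χ
  simp

/-- `∑ x, e_S(x) ξ(x)` is `ξ(1)` or `0`. -/
theorem lin_blockCoeff [Fintype H] (S : Set (IrrCharacter H)) [DecidablePred (· ∈ S)]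
    (ξ : IrrCharacter H) :
    lin (ξ : H → ℂ) (blockCoeff S) = if ξ ∈ S then (ξ : H → ℂ) 1 else 0 := by
  classical
  have := finite_irr (G := H)
  have := Fintype.ofFinite (IrrCharacter H)
  rw [lin_def]
  have h1 : ∀ x : H, blockCoeff S x * (ξ : H → ℂ) x = ∑ χ ∈ Finset.univ.filter (· ∈ S),
      (χ : H → ℂ) 1 * ((Nat.card H : ℂ)⁻¹ * ((ξ : H → ℂ) x * conj ((χ : H → ℂ) x))) := by
    intro x
    rw [Basic.blockCoeff_def, finsum_mem_eq_sum_filter', Finset.mul_sum, Finset.sum_mul]
    refine Finset.sum_congr rfl fun χ _ => ?_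
    ring
  rw [Finset.sum_congr rfl fun x _ => h1 x, Finset.sum_comm]
  have h2 : ∀ χ : IrrCharacter H, ∑ x : H, (χ : H → ℂ) 1 *
      ((Nat.card H : ℂ)⁻¹ * ((ξ : H → ℂ) x * conj ((χ : H → ℂ) x))) =
      (χ : H → ℂ) 1 * (if (ξ : H → ℂ) = (χ : H → ℂ) then 1 else 0) := by
    intro χ
    rw [← Finset.mul_sum, ← Finset.mul_sum, ← classInner_irr ξ.2 χ.2]
    rfl
  rw [Finset.sum_congr rfl fun χ _ => h2 χ]
  split_ifs with h
  · rw [Finset.sum_eq_single ξ]
    · rw [if_pos rfl, mul_one]
    · intro χ _ hχ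
      rw [if_neg (fun h3 => hχ (Subtype.ext h3.symm)), mul_zero]
    · intro h3
      exact absurd (Finset.mem_filter.2 ⟨Finset.mem_univ _, h⟩) h3
  · refine Finset.sum_eq_zero fun χ hχ => ?_
    rw [if_neg, mul_zero]
    intro h3
    apply h
    have : ξ = χ := Subtype.ext h3
    rw [this]
    exact (Finset.mem_filter.1 hχ).2

theorem isClassFunction_blockCoeff (S : Set (IrrCharacter H)) :
    IsClassFunction H (blockCoeff S) := by
  intro g h
  exact (Basic.blockCoeff_isConj S (isConj_iff.2 ⟨h, rfl⟩)).symm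

/-- Invariance of the idempotent under an automorphism preserving the set of characters. -/
theorem blockCoeff_comp (S : Set (IrrCharacter H)) (e : H ≃* H)
    (hS : ∀ θ : IrrCharacter H, θ ∈ S ↔ compIrr e θ ∈ S) (x : H) :
    blockCoeff S (e x) = blockCoeff S x := by
  rw [Basic.blockCoeff_def, Basic.blockCoeff_def]
  congr 1
  refine finsum_mem_eq_of_bijOn (compIrr e) ?_ ?_
  · refine ⟨fun θ hθ => (hS θ).1 hθ, ?_, ?_⟩
    · intro θ _ ψ _ h
      have := congrArg (compIrr e.symm) h
      rwa [compIrr_symm_compIrr, compIrr_symm_compIrr] at this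
    · intro θ hθ
      refine ⟨compIrr e.symm θ, ?_, compIrr_compIrr_symm e θ⟩
      rw [hS, compIrr_compIrr_symm]
      exact hθ
  · intro θ _
    rw [compIrr_apply, compIrr_apply, map_one]

end idem

theorem irr_isClassFunction' {H : Type*} [Group H] (η : IrrCharacter H) :
    IsClassFunction H (η : H → ℂ) := Basic.irr_isClassFunction η.2

/-! ### The main computation -/

section main

theorem brauerCentralChar_eq_sum (P L : Subgroup G) [Fintype L] (ξ : L → ℂ) (g : G)
    [DecidablePred fun h : L => IsConj g (h : G) ∧ (h : G) ∈ Subgroup.centralizer (P : Set G)] :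
    brauerCentralChar P L ξ g = ∑ h ∈ Finset.univ.filter
      (fun h : L => IsConj g (h : G) ∧ (h : G) ∈ Subgroup.centralizer (P : Set G)),
        ξ h / ξ 1 := by
  rw [Basic.brauerCentralChar_def, ← finsum_mem_finset_eq_sum]
  refine finsum_mem_congr ?_ fun _ _ => rfl
  ext χ
  simp

theorem conj_mem_centralizer (P : Subgroup G) {n x : G}
    (hn : n ∈ Subgroup.normalizer (P : Set G)) (hx : x ∈ Subgroup.centralizer (P : Set G)) :
    n * x * n⁻¹ ∈ Subgroup.centralizer (P : Set G) := by
  rw [Subgroup.mem_centralizer_iff] at hx ⊢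
  intro u hu
  have h1 : n⁻¹ * u * n ∈ P := by
    have := (Subgroup.mem_normalizer_iff'' (H := P)).1 hn u
    exact this.1 hu
  have h2 := hx _ h1
  calc u * (n * x * n⁻¹) = n * ((n⁻¹ * u * n) * x) * n⁻¹ := by group
    _ = n * (x * (n⁻¹ * u * n)) * n⁻¹ := by rw [h2]
    _ = n * x * n⁻¹ * u := by group

theorem conj_mem_L (P : Subgroup G) {n x : G} (hn : n ∈ Subgroup.normalizer (P : Set G))
    (hx : x ∈ P ⊔ Subgroup.centralizer (P : Set G)) :
    n * x * n⁻¹ ∈ P ⊔ Subgroup.centralizer (P : Set G) := by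
  have h1 : (P ⊔ Subgroup.centralizer (P : Set G)).map (MulAut.conj n).toMonoidHom ≤
      P ⊔ Subgroup.centralizer (P : Set G) := by
    rw [Subgroup.map_sup]
    refine sup_le_sup ?_ ?_
    · rintro _ ⟨y, hy, rfl⟩
      exact ((Subgroup.mem_normalizer_iff (H := P)).1 hn y).1 hy
    · rintro _ ⟨y, hy, rfl⟩
      exact conj_mem_centralizer P hn hy
  exact h1 ⟨x, hx, rfl⟩

theorem conj_inv_mem_L (P : Subgroup G) {n x : G} (hn : n ∈ Subgroup.normalizer (P : Set G))
    (hx : x ∈ P ⊔ Subgroup.centralizer (P : Set G)) :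
    n⁻¹ * x * n ∈ P ⊔ Subgroup.centralizer (P : Set G) := by
  have := conj_mem_L P (inv_mem hn) hx
  rwa [inv_inv] at this

theorem L_le_normalizer (P : Subgroup G) :
    P ⊔ Subgroup.centralizer (P : Set G) ≤ Subgroup.normalizer (P : Set G) :=
  sup_le Subgroup.le_normalizer (Subgroup.centralizer_le_normalizer _)

/-- Conjugation by an element of `N_G(P)` on `L = P ⊔ C_G(P)`. -/
def conjN (P : Subgroup G) (n : Subgroup.normalizer (P : Set G)) :
    ↥(P ⊔ Subgroup.centralizer (P : Set G)) ≃* ↥(P ⊔ Subgroup.centralizer (P : Set G)) :=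
  conjL _ n (fun _ hx => conj_mem_L P n.2 hx) (fun _ hx => conj_inv_mem_L P n.2 hx)

theorem conjN_coe (P : Subgroup G) (n : Subgroup.normalizer (P : Set G))
    (x : ↥(P ⊔ Subgroup.centralizer (P : Set G))) :
    ((conjN P n x : ↥(P ⊔ Subgroup.centralizer (P : Set G))) : G) =
      (n : G) * (x : G) * (n : G)⁻¹ := rfl

/-- The union of the conjugates of `b` under `N_G(P)`. -/
def orbitSet (P : Subgroup G)
    (b : Set (IrrCharacter ↥(P ⊔ Subgroup.centralizer (P : Set G)))) :
    Set (IrrCharacter ↥(P ⊔ Subgroup.centralizer (P : Set G))) :=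
  {θ | ∃ n : Subgroup.normalizer (P : Set G), compIrr (conjN P n) θ ∈ b}

theorem normalizer_mul_conjN (P : Subgroup G) (m n : Subgroup.normalizer (P : Set G))
    (θ : IrrCharacter ↥(P ⊔ Subgroup.centralizer (P : Set G))) :
    compIrr (conjN P m) (compIrr (conjN P n) θ) = compIrr (conjN P (n * m)) θ := by
  refine Subtype.ext (funext fun x => ?_)
  rw [compIrr_apply, compIrr_apply, compIrr_apply]
  refine congrArg (θ : ↥(P ⊔ Subgroup.centralizer (P : Set G)) → ℂ) (Subtype.ext ?_)
  rw [conjN_coe, conjN_coe, conjN_coe]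
  push_cast
  group

theorem compIrr_conjN_one (P : Subgroup G)
    (θ : IrrCharacter ↥(P ⊔ Subgroup.centralizer (P : Set G))) :
    compIrr (conjN P 1) θ = θ := by
  refine Subtype.ext (funext fun x => ?_)
  rw [compIrr_apply]
  refine congrArg (θ : ↥(P ⊔ Subgroup.centralizer (P : Set G)) → ℂ) (Subtype.ext ?_)
  rw [conjN_coe]
  push_cast
  group

theorem mem_orbitSet_compIrr_iff (P : Subgroup G)
    (b : Set (IrrCharacter ↥(P ⊔ Subgroup.centralizer (P : Set G))))
    (m : Subgroup.normalizer (P : Set G))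
    (θ : IrrCharacter ↥(P ⊔ Subgroup.centralizer (P : Set G))) :
    θ ∈ orbitSet P b ↔ compIrr (conjN P m) θ ∈ orbitSet P b := by
  constructor
  · rintro ⟨n, hn⟩
    refine ⟨m⁻¹ * n, ?_⟩
    rw [normalizer_mul_conjN, mul_inv_cancel_left]
    exact hn
  · rintro ⟨n, hn⟩
    refine ⟨m * n, ?_⟩
    rw [normalizer_mul_conjN] at hn
    exact hn

theorem subset_orbitSet (P : Subgroup G)
    (b : Set (IrrCharacter ↥(P ⊔ Subgroup.centralizer (P : Set G)))) : b ⊆ orbitSet P b := by
  intro θ hθ
  refine ⟨1, ?_⟩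
  rw [compIrr_conjN_one]
  exact hθ

/-- The orbit set is a union of blocks. -/
theorem orbitSet_closed (P : Subgroup G) {M : Ideal AlgInt} [M.IsPrime]
    {b : Set (IrrCharacter ↥(P ⊔ Subgroup.centralizer (P : Set G)))} (hb : IsPBlock M b) :
    ∀ χ ∈ orbitSet P b, ∀ ψ : IrrCharacter ↥(P ⊔ Subgroup.centralizer (P : Set G)),
      SameBlock M (χ : ↥(P ⊔ Subgroup.centralizer (P : Set G)) → ℂ)
        (ψ : ↥(P ⊔ Subgroup.centralizer (P : Set G)) → ℂ) → ψ ∈ orbitSet P b := by
  rintro χ ⟨n, hn⟩ ψ h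
  exact ⟨n, Basic.isPBlock_mem_of_sameBlock hb hn (sameBlock_compIrr _ h)⟩

section finite

variable [Finite G] {p : ℕ} [hp : Fact p.Prime] {M : Ideal AlgInt}

/-- If `P` is not a Sylow `p`-subgroup of `C_N(x)` then the convolution of an `N`-invariant
function with the indicator of a class with defect group `P` vanishes modulo `M` at `x`. -/
theorem sum_memLocalIdeal (hM : IsPModular p M) (P : Subgroup G)
    (hPp : IsPGroup p P) (g : G)
    (hg : ∃ S : Sylow p (Subgroup.centralizer ({g} : Set G)),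
      (S : Subgroup (Subgroup.centralizer ({g} : Set G))).map
        (Subgroup.centralizer ({g} : Set G)).subtype = P)
    [Fintype ↥(P ⊔ Subgroup.centralizer (P : Set G))]
    (e : ↥(P ⊔ Subgroup.centralizer (P : Set G)) → ℂ)
    (he : ∀ x, MemLocalRing M (e x))
    (hinv : ∀ (n : Subgroup.normalizer (P : Set G)) x, e (conjN P n x) = e x)
    [DecidablePred fun h : ↥(P ⊔ Subgroup.centralizer (P : Set G)) =>
      IsConj g (h : G) ∧ (h : G) ∈ Subgroup.centralizer (P : Set G)]
    (x : ↥(P ⊔ Subgroup.centralizer (P : Set G)))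
    (hx : (x : G) ∈ Subgroup.centralizer (P : Set G))
    (hxS : ¬ ∃ S : Sylow p (Subgroup.centralizer ({(x : G)} : Set G) ⊓
        Subgroup.normalizer (P : Set G) : Subgroup G),
      (S : Subgroup ↥(Subgroup.centralizer ({(x : G)} : Set G) ⊓
        Subgroup.normalizer (P : Set G))).map (Subgroup.centralizer ({(x : G)} : Set G) ⊓
        Subgroup.normalizer (P : Set G)).subtype = P) :
    MemLocalIdeal M (∑ j ∈ Finset.univ.filter
      (fun h : ↥(P ⊔ Subgroup.centralizer (P : Set G)) =>
        IsConj g (h : G) ∧ (h : G) ∈ Subgroup.centralizer (P : Set G)), e (x * j⁻¹)) := by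
  classical
  have hprime : M.IsPrime := isPrime_of_isPModular hM
  -- a bigger `p`-subgroup
  have hPK : P ≤ Subgroup.centralizer ({(x : G)} : Set G) ⊓ Subgroup.normalizer (P : Set G) := by
    refine le_inf ?_ Subgroup.le_normalizer
    intro u hu
    rw [Subgroup.mem_centralizer_singleton_iff]
    exact Subgroup.mem_centralizer_iff.1 hx u hu
  rw [SylowIn.exists_sylow_map_eq_iff] at hxS
  push Not at hxS
  obtain ⟨Q, hQK, hQp, hPQ, hne⟩ := hxS hPK hPp
  have hcardlt : Nat.card P < Nat.card Q := by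
    have h1 : Nat.card P ≤ Nat.card Q := Nat.card_le_card_of_injective
      (Subgroup.inclusion hPQ) (Subgroup.inclusion_injective hPQ)
    refine lt_of_le_of_ne h1 fun h2 => hne ?_
    exact (Subgroup.eq_of_le_of_card_ge hPQ h2.ge).symm
  let Ω := {h : ↥(P ⊔ Subgroup.centralizer (P : Set G)) //
    IsConj g (h : G) ∧ (h : G) ∈ Subgroup.centralizer (P : Set G)}
  have hQN : Q ≤ Subgroup.normalizer (P : Set G) := hQK.trans inf_le_right
  let _ : MulAction Q Ω :=
    { smul := fun u j => ⟨conjN P ⟨u, hQN u.2⟩ j, by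
        refine ⟨?_, ?_⟩
        · exact j.2.1.trans (isConj_iff.2 ⟨(u : G), rfl⟩)
        · rw [conjN_coe]
          exact conj_mem_centralizer P (hQN u.2) j.2.2⟩
      one_smul := fun j => Subtype.ext (Subtype.ext (by
        change ((conjN P ⟨(1 : Q), _⟩ (j : ↥(P ⊔ Subgroup.centralizer (P : Set G))) : _) : G) = _
        rw [conjN_coe]
        simp))
      mul_smul := fun u v j => Subtype.ext (Subtype.ext (by
        change ((conjN P ⟨(u * v : Q), _⟩ (j : ↥(P ⊔ Subgroup.centralizer (P : Set G))) : _) : G) =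
          ((conjN P ⟨(u : G), _⟩ (conjN P ⟨(v : G), _⟩ (j : ↥(P ⊔ Subgroup.centralizer (P : Set G)))) : _) : G)
        rw [conjN_coe, conjN_coe, conjN_coe]
        push_cast
        group)) }
  have hsmul : ∀ (u : Q) (j : Ω), (((u • j : Ω) : ↥(P ⊔ Subgroup.centralizer (P : Set G))) : G) =
      u * (j : ↥(P ⊔ Subgroup.centralizer (P : Set G))) * (u : G)⁻¹ := fun _ _ => rfl
  have hsmul' : ∀ (u : Q) (j : Ω), ((u • j : Ω) : ↥(P ⊔ Subgroup.centralizer (P : Set G))) =
      conjN P ⟨u, hQN u.2⟩ (j : ↥(P ⊔ Subgroup.centralizer (P : Set G))) := fun _ _ => rfl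
  let f : Ω → localRing M := fun j => ⟨e (x * (j : ↥(P ⊔ Subgroup.centralizer (P : Set G)))⁻¹), he _⟩
  obtain ⟨a, ha⟩ := OrbitSum.sum_eq_smul_of_no_fixed (Ω := Ω) hQp f (by
    intro u j
    refine Subtype.ext ?_
    change e (x * (((u • j : Ω) : ↥(P ⊔ Subgroup.centralizer (P : Set G))))⁻¹) =
      e (x * (j : ↥(P ⊔ Subgroup.centralizer (P : Set G)))⁻¹)
    rw [← hinv ⟨u, hQN u.2⟩ (x * (j : ↥(P ⊔ Subgroup.centralizer (P : Set G)))⁻¹), map_mul,
      map_inv, hsmul']
    congr 2
    refine Subtype.ext ?_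
    rw [conjN_coe]
    have hu : (u : G) * x = x * u := by
      have := Subgroup.mem_centralizer_singleton_iff.1 (hQK u.2).1
      exact this
    change (x : G) = u * x * (u : G)⁻¹
    rw [hu]
    group) (by
    intro j hj
    -- `Q` centralises `j`
    have h1 : Q ≤ Subgroup.centralizer ({((j : ↥(P ⊔ Subgroup.centralizer (P : Set G))) : G)} : Set G) := by
      intro u hu
      rw [Subgroup.mem_centralizer_singleton_iff]
      have h2 := congrArg (fun ω : Ω => ((ω : ↥(P ⊔ Subgroup.centralizer (P : Set G))) : G)) (hj ⟨u, hu⟩)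
      simp only [hsmul] at h2
      exact mul_inv_eq_iff_eq_mul.1 h2
    have h3 : Nat.card Q ∣ Nat.card (Subgroup.centralizer
        ({((j : ↥(P ⊔ Subgroup.centralizer (P : Set G))) : G)} : Set G)) :=
      Subgroup.card_dvd_of_le h1
    rw [SylowIn.card_centralizer_of_isConj j.2.1] at h3
    obtain ⟨k, hk⟩ := (IsPGroup.iff_card (p := p) (G := Q)).1 hQp
    have h4 := SylowIn.card_of_sylow_map_eq hg
    rw [hk] at h3
    have h5 : k ≤ (Nat.card (Subgroup.centralizer ({g} : Set G))).factorization p :=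
      (Nat.Prime.pow_dvd_iff_le_factorization hp.out Nat.card_pos.ne').1 h3
    have h6 : Nat.card Q ≤ Nat.card P := by
      rw [hk, h4]
      exact Nat.pow_le_pow_right hp.out.pos h5
    exact absurd h6 (not_le.2 hcardlt))
  have h7 : ∑ j ∈ Finset.univ.filter
      (fun h : ↥(P ⊔ Subgroup.centralizer (P : Set G)) =>
        IsConj g (h : G) ∧ (h : G) ∈ Subgroup.centralizer (P : Set G)), e (x * j⁻¹) =
      ((∑ j : Ω, f j : localRing M) : ℂ) := by
    rw [AddSubmonoidClass.coe_finsetSum]
    exact Finset.sum_subtype (Finset.univ.filter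
      (fun h : ↥(P ⊔ Subgroup.centralizer (P : Set G)) =>
        IsConj g (h : G) ∧ (h : G) ∈ Subgroup.centralizer (P : Set G)))
      (p := fun h : ↥(P ⊔ Subgroup.centralizer (P : Set G)) =>
        IsConj g (h : G) ∧ (h : G) ∈ Subgroup.centralizer (P : Set G))
      (by intro h; simp) (fun j => e (x * j⁻¹))
  rw [h7, ha, nsmul_eq_mul]
  push_cast
  exact memLocalIdeal_mul_right (memLocalIdeal_p hM) a.2

/-- The property of having `P` as a defect group passes to conjugates centralising `P`. -/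
theorem sylow_of_isConj (P : Subgroup G) {c x : G}
    (hc : ∃ S : Sylow p (Subgroup.centralizer ({c} : Set G)),
      (S : Subgroup (Subgroup.centralizer ({c} : Set G))).map
        (Subgroup.centralizer ({c} : Set G)).subtype = P)
    (h : IsConj c x) (hx : x ∈ Subgroup.centralizer (P : Set G)) :
    ∃ S : Sylow p (Subgroup.centralizer ({x} : Set G)),
      (S : Subgroup (Subgroup.centralizer ({x} : Set G))).map
        (Subgroup.centralizer ({x} : Set G)).subtype = P := by
  refine SylowIn.exists_sylow_map_eq_of_card ?_ ?_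
  · intro u hu
    rw [Subgroup.mem_centralizer_singleton_iff]
    exact Subgroup.mem_centralizer_iff.1 hx u hu
  · rw [SylowIn.card_of_sylow_map_eq hc, SylowIn.card_centralizer_of_isConj h]

/-- Central characters vanish modulo `M` off the centraliser of a normal `p`-subgroup. -/
theorem centralChar_memLocalIdeal {H : Type*} [Group H] [Finite H] (hM : IsPModular p M)
    {χ : H → ℂ} (hχ : IsIrrCharacter H χ) (P : Subgroup H) [P.Normal] (hP : IsPGroup p P) (g : H)
    (hg : g ∉ Subgroup.centralizer (P : Set H)) : MemLocalIdeal M (centralChar χ g) := by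
  have hprime : M.IsPrime := isPrime_of_isPModular hM
  obtain ⟨n, c, hc, h⟩ := CentralScalar.pow_centralChar_eq hχ P hP g hg
  refine memLocalIdeal_of_pow (memLocalRing_of_isIntegral
    (CentralScalar.isIntegral_centralChar hχ g)) (n := n) ?_
  rw [h]
  exact memLocalIdeal_mul_right (memLocalIdeal_p hM) (memLocalRing_of_isIntegral hc)

theorem mem_orbitSet_of_brauer_congr (hM : IsPModular p M) (P : Subgroup G)
    (hPp : IsPGroup p P) (g : G)
    (hg : ∃ S : Sylow p (Subgroup.centralizer ({g} : Set G)),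
      (S : Subgroup (Subgroup.centralizer ({g} : Set G))).map
        (Subgroup.centralizer ({g} : Set G)).subtype = P)
    {b : Set (IrrCharacter ↥(P ⊔ Subgroup.centralizer (P : Set G)))} (hb : IsPBlock M b)
    (ξ ξ' : IrrCharacter ↥(P ⊔ Subgroup.centralizer (P : Set G))) (hξ : ξ ∈ b)
    (h1 : ∀ c : G, MemLocalIdeal M
      (brauerCentralChar P (P ⊔ Subgroup.centralizer (P : Set G))
        (ξ : ↥(P ⊔ Subgroup.centralizer (P : Set G)) → ℂ) c -
      brauerCentralChar P (P ⊔ Subgroup.centralizer (P : Set G))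
        (ξ' : ↥(P ⊔ Subgroup.centralizer (P : Set G)) → ℂ) c))
    (h2 : ¬ MemLocalIdeal M (brauerCentralChar P (P ⊔ Subgroup.centralizer (P : Set G))
        (ξ : ↥(P ⊔ Subgroup.centralizer (P : Set G)) → ℂ) g)) :
    ξ' ∈ orbitSet P b := by
  classical
  have hprime : M.IsPrime := isPrime_of_isPModular hM
  by_contra hξ'
  have hFL : Fintype ↥(P ⊔ Subgroup.centralizer (P : Set G)) := Fintype.ofFinite _
  -- notation
  let CP : Subgroup G := Subgroup.centralizer (P : Set G)
  let e : ↥(P ⊔ Subgroup.centralizer (P : Set G)) → ℂ := blockCoeff (orbitSet P b)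
  have he : ∀ x, MemLocalRing M (e x) := fun x =>
    OsimaUnion.memLocalRing_blockCoeff_union p hM (orbitSet P b) (orbitSet_closed P hb) x
  have hinv : ∀ (n : Subgroup.normalizer (P : Set G)) x, e (conjN P n x) = e x := fun n x =>
    blockCoeff_comp (orbitSet P b) (conjN P n) (mem_orbitSet_compIrr_iff P b n) x
  have hecl : IsClassFunction _ e := isClassFunction_blockCoeff _
  let Js : Finset ↥(P ⊔ Subgroup.centralizer (P : Set G)) := Finset.univ.filter
      (fun h : ↥(P ⊔ Subgroup.centralizer (P : Set G)) =>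
        IsConj g (h : G) ∧ (h : G) ∈ Subgroup.centralizer (P : Set G))
  let J : ↥(P ⊔ Subgroup.centralizer (P : Set G)) → ℂ := fun h => if h ∈ Js then 1 else 0
  let w : ↥(P ⊔ Subgroup.centralizer (P : Set G)) → ℂ := fun x => ∑ j ∈ Js, e (x * j⁻¹)
  have hw : w = conv e J := by
    funext x
    rw [conv_apply]
    change ∑ j ∈ Js, e (x * j⁻¹) = _
    have h3 : ∑ j ∈ Js, e (x * j⁻¹) = ∑ j : ↥(P ⊔ Subgroup.centralizer (P : Set G)),
        e (x * j⁻¹) * J j := by
      rw [← Finset.sum_filter_add_sum_filter_not Finset.univ (· ∈ Js)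
        (fun j => e (x * j⁻¹) * J j)]
      rw [Finset.sum_congr rfl (g := fun j => e (x * j⁻¹))
        (s₁ := Finset.univ.filter (· ∈ Js)) (fun j hj => by
          change e (x * j⁻¹) * (if j ∈ Js then 1 else 0) = _
          rw [if_pos (Finset.mem_filter.1 hj).2, mul_one])]
      rw [Finset.sum_eq_zero (s := Finset.univ.filter (fun j => ¬ j ∈ Js)) (fun j hj => by
          change e (x * j⁻¹) * (if j ∈ Js then 1 else 0) = _
          rw [if_neg (Finset.mem_filter.1 hj).2, mul_zero]), add_zero]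
      refine Finset.sum_congr ?_ fun _ _ => rfl
      ext j
      simp
    rw [h3]
    refine Fintype.sum_equiv ((Equiv.inv _).trans (Equiv.mulLeft x)) _ _ fun j => ?_
    simp only [Equiv.trans_apply, Equiv.inv_apply, Equiv.coe_mulLeft]
    congr 2
    group
  have hJsinv : ∀ (n : Subgroup.normalizer (P : Set G)) j, j ∈ Js ↔ conjN P n j ∈ Js := by
    intro n j
    simp only [Js, Finset.mem_filter, Finset.mem_univ, true_and, conjN_coe]
    constructor
    · rintro ⟨h3, h4⟩
      exact ⟨h3.trans (isConj_iff.2 ⟨_, rfl⟩), conj_mem_centralizer P n.2 h4⟩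
    · rintro ⟨h3, h4⟩
      refine ⟨h3.trans (isConj_iff.2 ⟨(n : G)⁻¹, by group⟩), ?_⟩
      have := conj_mem_centralizer P (inv_mem n.2) h4
      have h5 : (n : G)⁻¹ * (n * j * (n : G)⁻¹) * ((n : G)⁻¹)⁻¹ = j := by group
      rwa [h5] at this
  have hwinv : ∀ (n : Subgroup.normalizer (P : Set G)) x, w (conjN P n x) = w x := by
    intro n x
    symm
    refine Finset.sum_equiv (conjN P n).toEquiv (fun j => hJsinv n j) fun j _ => ?_
    rw [← hinv n (x * j⁻¹), map_mul, map_inv]
    rfl
  have hwR : ∀ x, MemLocalRing M (w x) := fun x => memLocalRing_sum fun j _ => he _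
  have hconjL : ∀ h x : ↥(P ⊔ Subgroup.centralizer (P : Set G)),
      h * x * h⁻¹ = conjN P ⟨(h : G), L_le_normalizer P h.2⟩ x := fun h x => rfl
  have hwcl : IsClassFunction _ w := by
    intro x h
    rw [hconjL, hwinv]
  -- the values of the central characters
  have hlinξ : lin ξ.1 w = lin ξ.1 J := by
    have h3 := lin_conv ξ.2 (f := e) (f' := J) hecl
    rw [← hw] at h3
    have h4 : lin ξ.1 e = ξ.1 1 := by
      change lin _ (blockCoeff (orbitSet P b)) = _
      rw [lin_blockCoeff, if_pos (subset_orbitSet P b hξ)]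
    rw [h4, mul_comm (ξ.1 1)] at h3
    exact mul_right_cancel₀ (Basic.irr_one_ne_zero ξ.2) h3
  have hlinξ' : lin ξ'.1 w = 0 := by
    have h3 := lin_conv ξ'.2 (f := e) (f' := J) hecl
    rw [← hw] at h3
    have h4 : lin ξ'.1 e = 0 := by
      change lin _ (blockCoeff (orbitSet P b)) = _
      rw [lin_blockCoeff, if_neg hξ']
    rw [h4, zero_mul] at h3
    exact (mul_eq_zero.1 h3).resolve_right (Basic.irr_one_ne_zero ξ'.2)
  have hJbr : lin ξ.1 J / ξ.1 1 =
      brauerCentralChar P (P ⊔ Subgroup.centralizer (P : Set G)) ξ.1 g := by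
    rw [brauerCentralChar_eq_sum, lin_def, ← Finset.sum_div]
    congr 1
    change ∑ x, (if x ∈ Js then (1 : ℂ) else 0) * ξ.1 x = ∑ x ∈ Js, ξ.1 x
    simp only [ite_mul, one_mul, zero_mul, Finset.sum_ite_mem, Finset.univ_inter]
  -- the set of elements with defect group `P`
  let Q : G → Prop := fun x => ∃ S : Sylow p (Subgroup.centralizer ({x} : Set G)),
      (S : Subgroup (Subgroup.centralizer ({x} : Set G))).map
        (Subgroup.centralizer ({x} : Set G)).subtype = P
  let X : Finset ↥(P ⊔ Subgroup.centralizer (P : Set G)) := Finset.univ.filter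
      (fun x => (x : G) ∈ Subgroup.centralizer (P : Set G) ∧ Q (x : G))
  have hmemX : ∀ x, x ∈ X ↔ (x : G) ∈ Subgroup.centralizer (P : Set G) ∧ Q (x : G) := by
    intro x
    simp only [X, Finset.mem_filter, Finset.mem_univ, true_and]
  have hXinv : ∀ h x : ↥(P ⊔ Subgroup.centralizer (P : Set G)), h * x * h⁻¹ ∈ X ↔ x ∈ X := by
    intro h x
    have key : ∀ h x : ↥(P ⊔ Subgroup.centralizer (P : Set G)), x ∈ X → h * x * h⁻¹ ∈ X := by
      intro h x hx
      rw [hmemX] at hx ⊢
      have h3 : ((h * x * h⁻¹ : ↥(P ⊔ Subgroup.centralizer (P : Set G))) : G) ∈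
          Subgroup.centralizer (P : Set G) :=
        conj_mem_centralizer P (L_le_normalizer P h.2) hx.1
      exact ⟨h3, sylow_of_isConj P hx.2 (isConj_iff.2 ⟨(h : G), rfl⟩) h3⟩
    constructor
    · intro h3
      have h4 := key h⁻¹ _ h3
      have h5 : h⁻¹ * (h * x * h⁻¹) * h⁻¹⁻¹ = x := by group
      rwa [h5] at h4
    · exact key h x
  -- reduction to `X`
  have hPn : (P.subgroupOf (P ⊔ Subgroup.centralizer (P : Set G))).Normal :=
    Subgroup.normal_subgroupOf_of_le_normalizer (L_le_normalizer P)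
  have step7 : ∀ η : IrrCharacter ↥(P ⊔ Subgroup.centralizer (P : Set G)),
      MemLocalIdeal M (lin η.1 w / η.1 1 -
        ∑ x ∈ X, w x * (η.1 x / η.1 1)) := by
    intro η
    let w1 : ↥(P ⊔ Subgroup.centralizer (P : Set G)) → ℂ := fun x => if x ∈ X then 0 else w x
    have hw1 : IsClassFunction _ w1 := by
      intro x h
      change (if h * x * h⁻¹ ∈ X then (0 : ℂ) else w (h * x * h⁻¹)) = if x ∈ X then 0 else w x
      by_cases hx : x ∈ X
      · rw [if_pos hx, if_pos ((hXinv h x).2 hx)]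
      · rw [if_neg hx, if_neg (fun h3 => hx ((hXinv h x).1 h3)), hwcl x h]
    have h3 : lin η.1 w / η.1 1 - ∑ x ∈ X, w x * (η.1 x / η.1 1) =
        ∑ x, w1 x * (η.1 x / η.1 1) := by
      rw [lin_def, Finset.sum_div, sub_eq_iff_eq_add]
      have h4 : ∑ x ∈ X, w x * (η.1 x / η.1 1) =
          ∑ x, (if x ∈ X then w x else 0) * (η.1 x / η.1 1) := by
        simp only [ite_mul, zero_mul, Finset.sum_ite_mem, Finset.univ_inter]
      rw [h4, ← Finset.sum_add_distrib]
      refine Finset.sum_congr rfl fun x _ => ?_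
      rw [← add_mul]
      have h5 : w1 x + (if x ∈ X then w x else 0) = w x := by
        change (if x ∈ X then (0 : ℂ) else w x) + (if x ∈ X then w x else 0) = w x
        split_ifs <;> simp
      rw [h5]
      ring
    rw [h3]
    obtain ⟨T, hT⟩ := ClassSum.exists_reps (G := ↥(P ⊔ Subgroup.centralizer (P : Set G)))
    rw [hT w1 _ hw1]
    refine memLocalIdeal_sum fun t _ => ?_
    rw [ClassSum.finsum_conj_div (irr_isClassFunction' η)]
    by_cases htX : t ∈ X
    · change MemLocalIdeal M ((if t ∈ X then (0 : ℂ) else w t) * _)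
      rw [if_pos htX, zero_mul]
      exact memLocalIdeal_zero
    · change MemLocalIdeal M ((if t ∈ X then (0 : ℂ) else w t) * _)
      rw [if_neg htX]
      by_cases htC : (t : G) ∈ Subgroup.centralizer (P : Set G)
      · refine memLocalIdeal_mul_right ?_ (memLocalRing_of_isIntegral
          (CentralScalar.isIntegral_centralChar η.2 t))
        refine sum_memLocalIdeal hM P hPp g hg e he hinv t htC ?_
        intro h6
        apply htX
        rw [hmemX]
        exact ⟨htC, (Cfsg.Agent.S0916.result p P hPp).2 t htC h6⟩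
      · refine memLocalIdeal_mul_left (hwR t) ?_
        refine centralChar_memLocalIdeal hM η.2
          (P.subgroupOf (P ⊔ Subgroup.centralizer (P : Set G))) hPp.comap_subtype t ?_
        intro h6
        apply htC
        rw [Subgroup.mem_centralizer_iff] at h6 ⊢
        intro u hu
        have h7 := h6 ⟨u, Subgroup.mem_sup_left hu⟩ (by
          rw [SetLike.mem_coe, Subgroup.mem_subgroupOf]
          exact hu)
        exact congrArg Subtype.val h7
  -- the contribution of `X`
  have step8 : MemLocalIdeal M (∑ x ∈ X, w x * (ξ.1 x / ξ.1 1) -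
      ∑ x ∈ X, w x * (ξ'.1 x / ξ'.1 1)) := by
    let mkG : ↥(P ⊔ Subgroup.centralizer (P : Set G)) → ConjClasses G :=
      fun x => ConjClasses.mk (x : G)
    rw [← Finset.sum_fiberwise_of_maps_to (s := X) (t := X.image mkG) (g := mkG)
      (fun x hx => Finset.mem_image_of_mem _ hx) (fun x => w x * (ξ.1 x / ξ.1 1)),
      ← Finset.sum_fiberwise_of_maps_to (s := X) (t := X.image mkG) (g := mkG)
      (fun x hx => Finset.mem_image_of_mem _ hx) (fun x => w x * (ξ'.1 x / ξ'.1 1)),
      ← Finset.sum_sub_distrib]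
    refine memLocalIdeal_sum fun C hC => ?_
    obtain ⟨c, hcX, rfl⟩ := Finset.mem_image.1 hC
    have hc := (hmemX c).1 hcX
    have hfib : X.filter (fun x => mkG x = mkG c) =
        Finset.univ.filter (fun h : ↥(P ⊔ Subgroup.centralizer (P : Set G)) =>
          IsConj (c : G) (h : G) ∧ (h : G) ∈ Subgroup.centralizer (P : Set G)) := by
      ext x
      have hmk : mkG x = mkG c ↔ IsConj (x : G) (c : G) := ConjClasses.mk_eq_mk_iff_isConj
      rw [Finset.mem_filter, hmemX, Finset.mem_filter, hmk]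
      constructor
      · rintro ⟨⟨h3, _⟩, h5⟩
        exact ⟨Finset.mem_univ _, h5.symm, h3⟩
      · rintro ⟨_, h4, h5⟩
        exact ⟨⟨h5, sylow_of_isConj P hc.2 h4 h5⟩, h4.symm⟩
    have hval : ∀ η : IrrCharacter ↥(P ⊔ Subgroup.centralizer (P : Set G)),
        ∑ x ∈ X.filter (fun x => mkG x = mkG c),
          w x * (η.1 x / η.1 1) = w c *
            brauerCentralChar P (P ⊔ Subgroup.centralizer (P : Set G)) η.1 c := by
      intro η
      rw [brauerCentralChar_eq_sum, Finset.mul_sum, hfib]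
      refine Finset.sum_congr rfl fun x hx => ?_
      obtain ⟨-, h3, h4⟩ := Finset.mem_filter.1 hx
      obtain ⟨n, hn, hnx⟩ := ((Cfsg.Agent.S0916.result p P hPp).1 c hc.2).2 c x (IsConj.refl _) h3
        hc.1 h4
      have h5 : x = conjN P ⟨n, hn⟩ c := Subtype.ext (by rw [conjN_coe]; exact hnx.symm)
      have h6 : w x = w c := by rw [h5, hwinv]
      rw [h6]
    rw [hval ξ, hval ξ', ← mul_sub]
    exact memLocalIdeal_mul_left (hwR c) (h1 c)
  -- conclusion
  apply h2
  rw [← hJbr, ← hlinξ]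
  have h9 := step7 ξ'
  rw [hlinξ', zero_div, zero_sub, memLocalIdeal_neg_iff] at h9
  have h10 := memLocalIdeal_add (memLocalIdeal_add (step7 ξ) step8) h9
  convert h10 using 1
  ring

end finite

end main

end Cfsg.Agent.Blocks.ExtendedFMT
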