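import Mathlib
set_option linter.all false

/-!
# Traces of irreducible representations over an algebraically closed field of any characteristic

* `exists_density` : simultaneous Burnside theorem for pairwise non-equivalent irreducible
  representations;
* `linearIndependent_trace` : their traces are linearly independent functions on the group;
* `trace_eq_of_commute` : in characteristic `p`, `tr ρ(xy) = tr ρ(y)` if `x` has `p`-power order and
  commutes with `y`.
-/

set_option autoImplicit false

namespace Cfsg.Agent.Blocks.ModularTraces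

open Module

universe u v

section density

variable {F : Type v} [Field F] {G : Type u} [Group G]

variable {ι : Type*} [Finite ι] {V : ι → Type*} [∀ i, AddCommGroup (V i)] [∀ i, Module F (V i)]
  [∀ i, FiniteDimensional F (V i)]

/-- Components of an endomorphism of a sum of pairwise non-equivalent irreducibles. -/
theorem end_apply [IsAlgClosed F] (ρ : ∀ i, Representation F G (V i))
    (hirr : ∀ i, (ρ i).IsIrreducible)
    (hne : ∀ i j, i ≠ j → IsEmpty (Representation.Equiv (ρ i) (ρ j)))
    (φ : (∀ i, (ρ i).asModule) →ₗ[MonoidAlgebra F G] (∀ i, (ρ i).asModule)) :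
    ∃ c : ι → F, ∀ (m : ∀ i, (ρ i).asModule) (i : ι), φ m i = c i • m i := by
  classical
  have := Fintype.ofFinite ι
  have h1 : ∀ i, ∃ c : F, ∀ v : (ρ i).asModule, φ (Pi.single i v) i = c • v := by
    intro i
    have := hirr i
    have hb : Function.Bijective (algebraMap F (Module.End (MonoidAlgebra F G) (ρ i).asModule)) :=
      IsSimpleModule.algebraMap_end_bijective_of_isAlgClosed F
    obtain ⟨c, hc⟩ := hb.2 ((LinearMap.proj i) ∘ₗ φ ∘ₗ
      (LinearMap.single (MonoidAlgebra F G) (fun i => (ρ i).asModule) i))
    refine ⟨c, fun v => ?_⟩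
    have := LinearMap.congr_fun hc v
    exact this.symm
  choose c hc using h1
  have h2 : ∀ i j, i ≠ j → ∀ v : (ρ j).asModule, φ (Pi.single j v) i = 0 := by
    intro i j hij v
    have := hirr i
    have := hirr j
    rcases LinearMap.bijective_or_eq_zero ((LinearMap.proj i) ∘ₗ φ ∘ₗ
      (LinearMap.single (MonoidAlgebra F G) (fun i => (ρ i).asModule) j)) with h | h
    · exfalso
      have e : Representation.IntertwiningMap (ρ j) (ρ i) :=
        (Representation.IntertwiningMap.equivLinearMapAsModule (ρ j) (ρ i)).symm
          ((LinearMap.proj i) ∘ₗ φ ∘ₗ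
            (LinearMap.single (MonoidAlgebra F G) (fun i => (ρ i).asModule) j))
      refine (hne j i (Ne.symm hij)).false (Representation.IntertwiningMap.ofBijective
        ((Representation.IntertwiningMap.equivLinearMapAsModule (ρ j) (ρ i)).symm
          ((LinearMap.proj i) ∘ₗ φ ∘ₗ
            (LinearMap.single (MonoidAlgebra F G) (fun i => (ρ i).asModule) j))) ?_)
      exact h
    · exact LinearMap.congr_fun h v
  refine ⟨c, fun m i => ?_⟩
  have h3 : m = ∑ j, Pi.single j (m j) := (Finset.univ_sum_single m).symm
  conv_lhs => rw [h3]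
  rw [map_sum, Finset.sum_apply, Finset.sum_eq_single i]
  · exact hc i (m i)
  · intro j _ hj
    exact h2 i j (Ne.symm hj) (m j)
  · intro h
    exact absurd (Finset.mem_univ i) h

/-- Simultaneous Burnside theorem. -/
theorem exists_density [IsAlgClosed F] (ρ : ∀ i, Representation F G (V i))
    (hirr : ∀ i, (ρ i).IsIrreducible)
    (hne : ∀ i j, i ≠ j → IsEmpty (Representation.Equiv (ρ i) (ρ j)))
    (T : ∀ i, Module.End F (V i)) :
    ∃ a : MonoidAlgebra F G, ∀ i, (ρ i).asAlgebraHom a = T i := by
  classical
  have := Fintype.ofFinite ι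
  have := hirr
  let e : ∀ i, (ρ i).asModule ≃+ V i := fun i => (ρ i).asModuleEquiv
  have hes : ∀ i (c : F) (v : (ρ i).asModule), e i (c • v) = c • e i v := fun i c v => rfl
  let f : Module.End (Module.End (MonoidAlgebra F G) (∀ i, (ρ i).asModule))
      (∀ i, (ρ i).asModule) :=
    { toFun := fun m i => (e i).symm (T i (e i (m i)))
      map_add' := fun m m' => by
        funext i
        simp only [Pi.add_apply, map_add]
      map_smul' := fun φ m => by
        obtain ⟨c, hc⟩ := end_apply ρ hirr hne φ
        funext i
        have e1 : (φ • m) i = c i • m i := hc m i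
        have e2 : (φ • (fun i => (e i).symm (T i (e i (m i))))) i =
            c i • (e i).symm (T i (e i (m i))) := hc _ i
        simp only [e1, RingHom.id_apply]
        rw [e2]
        apply (e i).injective
        rw [AddEquiv.apply_symm_apply, hes, hes, AddEquiv.apply_symm_apply, map_smul] }
  let b : ∀ i, Basis (Fin (finrank F (V i))) F (V i) := fun i => finBasis F (V i)
  let s : Finset (∀ i, (ρ i).asModule) :=
    Finset.univ.image (fun x : (Σ i, Fin (finrank F (V i))) =>
      (Pi.single x.1 ((e x.1).symm (b x.1 x.2)) : ∀ i, (ρ i).asModule))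
  obtain ⟨a, ha⟩ := jacobson_density f s
  refine ⟨a, fun i => ?_⟩
  apply (b i).ext
  intro k
  have h1 := ha (Pi.single i ((e i).symm (b i k)) : ∀ i, (ρ i).asModule)
    (Finset.mem_image_of_mem _ (Finset.mem_univ (⟨i, k⟩ : Σ i, Fin (finrank F (V i)))))
  have h2 := congrFun h1 i
  have h3 : f (Pi.single i ((e i).symm (b i k)) : ∀ i, (ρ i).asModule) i =
      (e i).symm (T i (b i k)) := by
    show (e i).symm (T i (e i ((Pi.single i ((e i).symm (b i k)) : ∀ i, (ρ i).asModule) i))) = _
    rw [Pi.single_eq_same, AddEquiv.apply_symm_apply]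
  rw [h3, Pi.smul_apply, Pi.single_eq_same] at h2
  have h4 := congrArg (e i) h2
  rw [AddEquiv.apply_symm_apply] at h4
  rw [h4]
  have h5 := (ρ i).asModuleEquiv_map_smul a ((e i).symm (b i k))
  have h6 : (ρ i).asModuleEquiv ((e i).symm (b i k)) = b i k := (e i).apply_symm_apply _
  rw [h6] at h5
  exact h5.symm

/-- Traces of pairwise non-equivalent irreducible representations over an algebraically closed
field are linearly independent. -/
theorem linearIndependent_trace [IsAlgClosed F] (ρ : ∀ i, Representation F G (V i))
    (hirr : ∀ i, (ρ i).IsIrreducible)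
    (hne : ∀ i j, i ≠ j → IsEmpty (Representation.Equiv (ρ i) (ρ j))) :
    LinearIndependent F (fun i => fun g : G => LinearMap.trace F (V i) (ρ i g)) := by
  classical
  have := Fintype.ofFinite ι
  rw [Fintype.linearIndependent_iff]
  intro c hc i
  have hnt : Nontrivial (V i) := by
    by_contra hn
    rw [not_nontrivial_iff_subsingleton] at hn
    obtain ⟨x, y, hxy⟩ := (hirr i).toNontrivial
    apply hxy
    apply SetLike.ext
    intro v
    have hv : v = 0 := Subsingleton.elim _ _
    subst hv
    exact ⟨fun _ => y.toSubmodule.zero_mem, fun _ => x.toSubmodule.zero_mem⟩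
  -- an endomorphism of trace one
  obtain ⟨T0, hT0⟩ : ∃ T : Module.End F (V i), LinearMap.trace F (V i) T = 1 := by
    obtain ⟨v, hv⟩ := exists_ne (0 : V i)
    obtain ⟨f, hf⟩ : ∃ f : Module.Dual F (V i), f v = 1 :=
      Module.Projective.exists_dual_eq_one F hv
    refine ⟨f.smulRight v, ?_⟩
    rw [LinearMap.trace_smulRight, hf]
  obtain ⟨a, ha⟩ := exists_density ρ hirr hne (Function.update (fun _ => 0) i T0)
  have h1 : ∀ j (a : MonoidAlgebra F G), LinearMap.trace F (V j) ((ρ j).asAlgebraHom a) =
      Finsupp.linearCombination F (fun g : G => LinearMap.trace F (V j) (ρ j g)) a.coeff := by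
    intro j a
    induction a using MonoidAlgebra.induction_linear with
    | zero => simp
    | add x y hx hy => simp [hx, hy]
    | single x c => simp
  have h2 : ∑ j, c j * LinearMap.trace F (V j) ((ρ j).asAlgebraHom a) = 0 := by
    have h3 : ∀ g : G, ∑ j, c j * LinearMap.trace F (V j) (ρ j g) = 0 := by
      intro g
      have := congrFun hc g
      simpa [Finset.sum_apply] using this
    simp only [h1, Finsupp.linearCombination_apply, Finsupp.sum, Finset.mul_sum]
    rw [Finset.sum_comm]
    apply Finset.sum_eq_zero
    intro g _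
    have := h3 g
    calc ∑ j, c j * (a.coeff g • LinearMap.trace F (V j) (ρ j g))
        = a.coeff g * ∑ j, c j * LinearMap.trace F (V j) (ρ j g) := by
          rw [Finset.mul_sum]
          refine Finset.sum_congr rfl fun j _ => ?_
          rw [smul_eq_mul]; ring
      _ = 0 := by rw [this, mul_zero]
  rw [Finset.sum_eq_single i] at h2
  · rw [ha i, Function.update_self, hT0, mul_one] at h2
    exact h2
  · intro j _ hj
    rw [ha j, Function.update_of_ne hj]
    simp
  · intro h
    exact absurd (Finset.mem_univ i) h

end density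

section charp

variable {F : Type v} [Field F] {G : Type u} [Group G] {V : Type*} [AddCommGroup V] [Module F V]
  [FiniteDimensional F V]

omit [FiniteDimensional F V] in
theorem trace_eq_of_commute (p : ℕ) [Fact p.Prime] [CharP F p] (ρ : Representation F G V)
    {x y : G} (hxy : Commute x y) {k : ℕ} (hx : x ^ p ^ k = 1) :
    LinearMap.trace F V (ρ (x * y)) = LinearMap.trace F V (ρ y) := by
  rcases subsingleton_or_nontrivial V with hV | hV
  · have : ρ (x * y) = ρ y := Subsingleton.elim _ _
    rw [this]
  · have : CharP (Module.End F V) p :=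
      charP_of_injective_algebraMap (FaithfulSMul.algebraMap_injective F (Module.End F V)) p
    have hc : Commute (ρ (x * y)) (ρ y) := by
      have : Commute (x * y) y := (hxy.mul_left (Commute.refl y))
      exact this.map ρ
    have h1 : (ρ (x * y) - ρ y) ^ p ^ k = 0 := by
      rw [sub_pow_char_pow_of_commute (p := p) (n := k) hc, ← map_pow, ← map_pow, hxy.mul_pow, hx, one_mul, sub_self]
    have h2 : IsNilpotent (ρ (x * y) - ρ y) := ⟨_, h1⟩
    have h3 := LinearMap.isNilpotent_trace_of_isNilpotent h2
    rw [isNilpotent_iff_eq_zero, map_sub, sub_eq_zero] at h3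
    exact h3

end charp

end Cfsg.Agent.Blocks.ModularTraces
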