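import Mathlib
set_option linter.all false

-- part: Blocks/CyclicLower
section
/-!
# Simple modules attached to linear characters of the normalizer of a subgroup of order `p`

`F` is a field of characteristic `p`, `P` a subgroup of `G` of order `p` with normalizer `N`,
and `lam` is a linear character of `N` trivial on `P`.  A vector `v` of a module is *good* for
`lam` when `N` acts on it through `lam` and it does not lie in the image of the sum of the
elements of `P`.
-/

set_option autoImplicit false

namespace Cfsg.Agent.Blocks.CyclicLower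

open MonoidAlgebra

section Basic

variable {F : Type*} [Field F] {G : Type*} [Group G]

/-- group element as an element of the group algebra -/
noncomputable abbrev el (F : Type*) [Field F] {G : Type*} [Group G] (g : G) :
    MonoidAlgebra F G := MonoidAlgebra.of F G g

theorem el_mul (g h : G) : el F g * el F h = el F (g * h) := (map_mul (MonoidAlgebra.of F G) g h).symm

theorem el_one : el F (1 : G) = 1 := map_one (MonoidAlgebra.of F G)

variable {P : Subgroup G}

theorem out_smul (g : G) (q : G ⧸ P) : ∃ y ∈ P, (g • q).out = g * q.out * y := by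
  have h1 : (QuotientGroup.mk (g * q.out) : G ⧸ P) = g • q := by
    conv_rhs => rw [← QuotientGroup.out_eq' q]
    rfl
  have h2 : (QuotientGroup.mk ((g • q).out) : G ⧸ P) = g • q := QuotientGroup.out_eq' _
  have h3 : (QuotientGroup.mk (g * q.out) : G ⧸ P) = QuotientGroup.mk ((g • q).out) := by
    rw [h1, h2]
  rw [QuotientGroup.eq] at h3
  exact ⟨_, h3, by group⟩

variable (P) in
/-- the sum of the elements of `P` -/
noncomputable def tr (F : Type*) [Field F] [Finite G] : MonoidAlgebra F G := by
  classical
  have : Fintype P := Fintype.ofFinite P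
  exact ∑ y : P, el F (y : G)

theorem tr_def [Finite G] [Fintype P] : tr P F = ∑ y : P, el F (y : G) := by
  unfold tr
  convert rfl

theorem el_mul_tr [Finite G] {y : G} (hy : y ∈ P) : el F y * tr P F = tr P F := by
  classical
  have : Fintype P := Fintype.ofFinite P
  rw [tr_def, Finset.mul_sum]
  refine Fintype.sum_equiv (Equiv.mulLeft (⟨y, hy⟩ : P)) _ _ fun z => ?_
  rw [el_mul]
  rfl

theorem el_comm_tr [Finite G] {n : G} (hn : n ∈ Subgroup.normalizer (P : Set G)) :
    el F n * tr P F = tr P F * el F n := by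
  classical
  have : Fintype P := Fintype.ofFinite P
  rw [tr_def, Finset.mul_sum, Finset.sum_mul]
  have hn' := Subgroup.mem_normalizer_iff.1 hn
  let e : P ≃ P :=
    { toFun := fun y => ⟨n * y * n⁻¹, (hn' y).1 y.2⟩
      invFun := fun y => ⟨n⁻¹ * y * n, (hn' _).2 (by
        have : n * (n⁻¹ * (y : G) * n) * n⁻¹ = y := by group
        rw [this]; exact y.2)⟩
      left_inv := fun y => by ext; simp only; group
      right_inv := fun y => by ext; simp only; group }
  rw [← Equiv.sum_comp e (fun y : P => el F (y : G) * el F n)]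
  refine Finset.sum_congr rfl fun y _ => ?_
  rw [el_mul, el_mul]
  congr 1
  simp only [e, Equiv.coe_fn_mk]
  group

end Basic

/-- `N` acts on `v` through `lam`. -/
def Eig {F : Type*} [Field F] {G : Type*} [Group G] (P : Subgroup G) (lam : G → F)
    {V : Type*} [AddCommGroup V] [Module F V] [Module (MonoidAlgebra F G) V] (v : V) : Prop :=
  ∀ n ∈ Subgroup.normalizer (P : Set G), el F n • v = lam n • v

/-- `N` acts on `v` through `lam` and `v` is not a trace from the trivial subgroup of `P`. -/
def Good {F : Type*} [Field F] {G : Type*} [Group G] [Finite G] (P : Subgroup G) (lam : G → F)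
    {V : Type*} [AddCommGroup V] [Module F V] [Module (MonoidAlgebra F G) V] (v : V) : Prop :=
  Eig P lam v ∧ ∀ a : V, tr P F • a ≠ v

/-- `lam` is a linear character of the normalizer, trivial on `P`. -/
structure IsLin {F : Type*} [Field F] {G : Type*} [Group G] (P : Subgroup G) (lam : G → F) :
    Prop where
  mul : ∀ m ∈ Subgroup.normalizer (P : Set G), ∀ n ∈ Subgroup.normalizer (P : Set G),
    lam (m * n) = lam m * lam n
  triv : ∀ y ∈ P, lam y = 1

section Avg

variable {F : Type*} [Field F] {G : Type*} [Group G] {P : Subgroup G} {lam : G → F}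

theorem IsLin.ne_zero (h : IsLin P lam) {n : G} (hn : n ∈ Subgroup.normalizer (P : Set G)) :
    lam n ≠ 0 := by
  intro h0
  have h1 := h.mul n hn n⁻¹ (inv_mem hn)
  rw [mul_inv_cancel, h.triv 1 P.one_mem, h0, zero_mul] at h1
  exact one_ne_zero h1

variable [Finite G]

open scoped Classical in
variable (P) in
/-- the cosets of `P` in its normalizer -/
noncomputable def reps : Finset (G ⧸ P) :=
  (Set.toFinite {q : G ⧸ P | q.out ∈ Subgroup.normalizer (P : Set G)}).toFinset

theorem mem_reps {q : G ⧸ P} : q ∈ reps P ↔ q.out ∈ Subgroup.normalizer (P : Set G) := by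
  unfold reps
  simp

variable {V : Type*} [AddCommGroup V] [Module F V] [Module (MonoidAlgebra F G) V]
  [IsScalarTower F (MonoidAlgebra F G) V]

omit [Finite G] in
theorem smul_comm' (c : F) (a : MonoidAlgebra F G) (v : V) : a • c • v = c • a • v := by
  rw [← smul_one_smul (MonoidAlgebra F G) c v, ← smul_one_smul (MonoidAlgebra F G) c (a • v),
    smul_smul, smul_smul]
  congr 1
  rw [mul_smul_comm, mul_one, smul_mul_assoc, one_mul]

variable (lam) in
/-- the averaging element -/
noncomputable def avg (P : Subgroup G) : MonoidAlgebra F G :=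
  ∑ q ∈ reps P, (lam q.out)⁻¹ • el F q.out

theorem avg_smul (v : V) :
    avg lam P • v = ∑ q ∈ reps P, (lam q.out)⁻¹ • (el F q.out • v) := by
  unfold avg
  rw [Finset.sum_smul]
  exact Finset.sum_congr rfl fun q _ => smul_assoc _ _ _

theorem avg_smul_eig (h : IsLin P lam) {v : V} (hv : Eig P lam v) :
    avg lam P • v = ((reps P).card : F) • v := by
  rw [avg_smul, Finset.sum_congr rfl (g := fun _ => v), Finset.sum_const, Nat.cast_smul_eq_nsmul]
  intro q hq
  have hq' := mem_reps.1 hq
  rw [hv _ hq', smul_smul, inv_mul_cancel₀ (h.ne_zero hq'), one_smul]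

theorem avg_mul_tr (h : IsLin P lam) : avg lam P * tr P F = tr P F * avg lam P := by
  unfold avg
  rw [Finset.sum_mul, Finset.mul_sum]
  refine Finset.sum_congr rfl fun q hq => ?_
  rw [smul_mul_assoc, mul_smul_comm, el_comm_tr (mem_reps.1 hq)]

theorem smul_mem_reps {n : G} (hn : n ∈ Subgroup.normalizer (P : Set G)) {q : G ⧸ P} :
    n • q ∈ reps P ↔ q ∈ reps P := by
  obtain ⟨y, hy, hyq⟩ := out_smul n q
  rw [mem_reps, mem_reps, hyq]
  have hyN : y ∈ Subgroup.normalizer (P : Set G) := Subgroup.le_normalizer hy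
  rw [Subgroup.mul_mem_cancel_right _ hyN, Subgroup.mul_mem_cancel_left _ hn]

/-- averaging a `P`-fixed vector gives an eigenvector -/
theorem eig_avg (h : IsLin P lam) {l : V} (hl : ∀ y ∈ P, el F y • l = l) :
    Eig P lam (avg lam P • l) := by
  intro n hn
  rw [avg_smul, Finset.smul_sum, Finset.smul_sum]
  have e : ∀ q ∈ reps P, (lam (n • q).out)⁻¹ • (el F (n • q).out • l) =
      (lam n)⁻¹ • ((lam q.out)⁻¹ • (el F n • (el F q.out • l))) := by
    intro q hq
    obtain ⟨y, hy, hyq⟩ := out_smul n q
    have hq' := mem_reps.1 hq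
    have hyN : y ∈ Subgroup.normalizer (P : Set G) := Subgroup.le_normalizer hy
    rw [hyq, h.mul _ (mul_mem hn hq') _ hyN, h.triv y hy, mul_one, h.mul _ hn _ hq',
      ← el_mul, ← el_mul, mul_smul, hl y hy, mul_smul, mul_inv, mul_smul]
  calc ∑ q ∈ reps P, el F n • ((lam q.out)⁻¹ • (el F q.out • l))
      = ∑ q ∈ reps P, lam n • ((lam (n • q).out)⁻¹ • (el F (n • q).out • l)) := by
        refine Finset.sum_congr rfl fun q hq => ?_
        rw [e q hq, smul_smul, mul_inv_cancel₀ (h.ne_zero hn), one_smul, smul_comm']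
    _ = ∑ q ∈ reps P, lam n • ((lam q.out)⁻¹ • (el F q.out • l)) := by
        refine Finset.sum_bij (fun q _ => n • q) ?_ ?_ ?_ ?_
        · intro q hq; exact (smul_mem_reps hn).2 hq
        · intro a _ b _ hab; exact smul_left_cancel n hab
        · intro b hb
          refine ⟨n⁻¹ • b, (smul_mem_reps (inv_mem hn)).2 hb, ?_⟩
          rw [smul_inv_smul]
        · intro q hq; rfl

end Avg

section Exists

variable {F : Type*} [Field F] {G : Type*} [Group G] [Finite G] {P : Subgroup G} {lam : G → F}

/-- transport of good vectors along a linear equivalence -/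
theorem Good.map {V W : Type*} [AddCommGroup V] [Module F V] [Module (MonoidAlgebra F G) V]
    [IsScalarTower F (MonoidAlgebra F G) V]
    [AddCommGroup W] [Module F W] [Module (MonoidAlgebra F G) W]
    [IsScalarTower F (MonoidAlgebra F G) W] (e : V ≃ₗ[MonoidAlgebra F G] W) {v : V}
    (h : Good P lam v) : Good P lam (e v) := by
  have hF : ∀ (c : F) (x : V), e (c • x) = c • e x := by
    intro c x
    rw [← smul_one_smul (MonoidAlgebra F G) c x, ← smul_one_smul (MonoidAlgebra F G) c (e x),
      map_smul]
  refine ⟨fun n hn => ?_, fun a ha => ?_⟩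
  · rw [← map_smul, h.1 n hn, hF]
  · apply h.2 (e.symm a)
    apply e.injective
    rw [map_smul, e.apply_symm_apply, ha]

theorem Good.ne_zero {V : Type*} [AddCommGroup V] [Module F V] [Module (MonoidAlgebra F G) V]
    {v : V} (h : Good P lam v) : v ≠ 0 := by
  rintro rfl
  exact h.2 0 (smul_zero _)

/-- Any module with a good vector has a simple subquotient with a good vector. -/
theorem exists_simple_of_good (h : IsLin P lam) (hN : ((reps P).card : F) ≠ 0) (n : ℕ) :
    ∀ (V : Type*) [AddCommGroup V] [Module F V] [Module (MonoidAlgebra F G) V]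
      [IsScalarTower F (MonoidAlgebra F G) V] [FiniteDimensional F V],
      Module.finrank F V = n → ∀ v : V, Good P lam v →
      ∃ L : Submodule (MonoidAlgebra F G) (MonoidAlgebra F G),
        IsSimpleModule (MonoidAlgebra F G) (MonoidAlgebra F G ⧸ L) ∧
        ∃ w : MonoidAlgebra F G ⧸ L, Good P lam w := by
  induction n using Nat.strong_induction_on with
  | _ n ih =>
  intro V _ _ _ _ _ hn v hv
  by_cases hs : IsSimpleModule (MonoidAlgebra F G) V
  · -- simple: transport
    refine ⟨LinearMap.ker (LinearMap.toSpanSingleton (MonoidAlgebra F G) V v), ?_, ?_⟩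
    · exact IsSimpleModule.congr ((LinearMap.toSpanSingleton (MonoidAlgebra F G) V
        v).quotKerEquivOfSurjective (IsSimpleModule.toSpanSingleton_surjective _ hv.ne_zero))
    · exact ⟨_, hv.map ((LinearMap.toSpanSingleton (MonoidAlgebra F G) V
        v).quotKerEquivOfSurjective
          (IsSimpleModule.toSpanSingleton_surjective _ hv.ne_zero)).symm⟩
  · have hnt : Nontrivial V := ⟨v, 0, hv.ne_zero⟩
    have hex : ∃ L : Submodule (MonoidAlgebra F G) V, L ≠ ⊥ ∧ L ≠ ⊤ := by
      by_contra hcon
      push Not at hcon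
      apply hs
      rw [isSimpleModule_iff]
      exact { eq_bot_or_eq_top := fun L => by
                by_cases hL : L = ⊥
                · exact Or.inl hL
                · exact Or.inr (hcon L hL) }
    obtain ⟨L, hL0, hL1⟩ := hex
    have : FiniteDimensional F L :=
      inferInstanceAs (FiniteDimensional F (L.restrictScalars F))
    have hfin : Module.finrank F L + Module.finrank F (V ⧸ L) = Module.finrank F V := by
      have := Submodule.finrank_quotient_add_finrank (L.restrictScalars F)
      rw [add_comm]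
      exact this
    have hLpos : 0 < Module.finrank F L := by
      have : Nontrivial L := Submodule.nontrivial_iff_ne_bot.2 hL0
      exact Module.finrank_pos
    have hQpos : 0 < Module.finrank F (V ⧸ L) := by
      have : Nontrivial (V ⧸ L) := Submodule.Quotient.nontrivial_iff.2 hL1
      exact Module.finrank_pos
    by_cases hq : Good P lam (L.mkQ v)
    · exact ih (Module.finrank F (V ⧸ L)) (by omega) (V ⧸ L) rfl _ hq
    · have heig : Eig P lam (L.mkQ v) := by
        intro m hm
        rw [← map_smul, hv.1 m hm]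
        rfl
      have hex2 : ∃ a : V ⧸ L, tr P F • a = L.mkQ v := by
        by_contra hcon
        push Not at hcon
        exact hq ⟨heig, hcon⟩
      obtain ⟨a', ha'⟩ := hex2
      obtain ⟨a, rfl⟩ := L.mkQ_surjective a'
      have hl : v - tr P F • a ∈ L := by
        rw [← map_smul, eq_comm] at ha'
        exact (Submodule.Quotient.eq L).1 ha'
      set l := v - tr P F • a with hldef
      have hlP : ∀ y ∈ P, el F y • l = l := by
        intro y hy
        rw [hldef, smul_sub, hv.1 y (Subgroup.le_normalizer hy), h.triv y hy, one_smul,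
          smul_smul, el_mul_tr hy]
      have hl' : avg lam P • l ∈ L := L.smul_mem _ hl
      have hE := eig_avg h hlP
      by_cases hgl : Good P lam (⟨avg lam P • l, hl'⟩ : L)
      · exact ih (Module.finrank F L) (by omega) L rfl _ hgl
      · exfalso
        have hex3 : ∃ b : L, tr P F • b = ⟨avg lam P • l, hl'⟩ := by
          by_contra hcon
          push Not at hcon
          refine hgl ⟨fun m hm => ?_, hcon⟩
          apply Subtype.ext
          exact hE m hm
        obtain ⟨b, hb⟩ := hex3
        have hb' : tr P F • (b : V) = avg lam P • l := congrArg Subtype.val hb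
        have h1 : ((reps P).card : F) • v = tr P F • (avg lam P • a + (b : V)) := by
          rw [← avg_smul_eig h hv.1, smul_add, hb', smul_smul, ← avg_mul_tr h, ← smul_smul,
            ← smul_add, hldef, add_sub_cancel]
        apply hv.2 (((reps P).card : F)⁻¹ • (avg lam P • a + (b : V)))
        rw [smul_comm', ← h1, smul_smul, inv_mul_cancel₀ hN, one_smul]

end Exists

end Cfsg.Agent.Blocks.CyclicLower
end

-- part: Blocks/CyclicLower2
section
/-!
# Good vectors for different linear characters live in non-isomorphic simple modules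
-/

set_option autoImplicit false

namespace Cfsg.Agent.Blocks.CyclicLower2

open MonoidAlgebra
open Cfsg.Agent.Blocks.CyclicLower

/-- Representatives for a free action on a finite set. -/
theorem exists_reps_of_free {P : Type*} [Group P] [Fintype P] {D : Type*} [MulAction P D]
    (s : Finset D) (hs : ∀ (y : P) (d : D), d ∈ s → y • d ∈ s)
    (hfree : ∀ (y : P) (d : D), d ∈ s → y • d = d → y = 1) :
    ∃ t : Finset D, t ⊆ s ∧ ∀ {M : Type*} [AddCommMonoid M] (φ : D → M),
      ∑ d ∈ s, φ d = ∑ d ∈ t, ∑ y : P, φ (y • d) := by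
  classical
  induction s using Finset.strongInduction with
  | H s ih =>
  rcases s.eq_empty_or_nonempty with rfl | ⟨d, hd⟩
  · exact ⟨∅, subset_rfl, fun φ => by simp⟩
  · -- remove the orbit of d
    let o : Finset D := Finset.univ.image (fun y : P => y • d)
    have hos : o ⊆ s := by
      intro x hx
      obtain ⟨y, _, rfl⟩ := Finset.mem_image.1 hx
      exact hs y d hd
    have hdo : d ∈ o := Finset.mem_image.2 ⟨1, Finset.mem_univ _, one_smul _ _⟩
    have hss : s \ o ⊂ s := by
      refine Finset.ssubset_iff_subset_ne.2 ⟨Finset.sdiff_subset, fun h => ?_⟩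
      have : d ∈ s \ o := by rw [h]; exact hd
      exact (Finset.mem_sdiff.1 this).2 hdo
    have hs' : ∀ (y : P) (e : D), e ∈ s \ o → y • e ∈ s \ o := by
      intro y e he
      rw [Finset.mem_sdiff] at he ⊢
      refine ⟨hs y e he.1, fun h => he.2 ?_⟩
      obtain ⟨z, _, hz⟩ := Finset.mem_image.1 h
      refine Finset.mem_image.2 ⟨y⁻¹ * z, Finset.mem_univ _, ?_⟩
      have hz' : z • d = y • e := hz
      rw [mul_smul, hz', inv_smul_smul]
    obtain ⟨t, hts, ht⟩ := ih (s \ o) hss hs'
      (fun y e he => hfree y e (Finset.mem_sdiff.1 he).1)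
    refine ⟨insert d t, ?_, fun φ => ?_⟩
    · intro x hx
      rcases Finset.mem_insert.1 hx with rfl | hx
      · exact hd
      · exact (Finset.mem_sdiff.1 (hts hx)).1
    · have hdt : d ∉ t := fun h => (Finset.mem_sdiff.1 (hts h)).2 hdo
      rw [Finset.sum_insert hdt, ← ht φ, ← Finset.sum_sdiff hos, add_comm]
      congr 1
      rw [Finset.sum_image]
      intro y _ z _ hyz
      have hyz' : y • d = z • d := hyz
      have : (z⁻¹ * y) • d = d := by rw [mul_smul, hyz', inv_smul_smul]
      have := hfree _ _ hd this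
      rw [inv_mul_eq_one] at this
      exact this.symm

section FreeSum

variable {F : Type*} [Field F] {G : Type*} [Group G] [Finite G] {P : Subgroup G}
  {V : Type*} [AddCommGroup V] [Module (MonoidAlgebra F G) V]

/-- A sum of an equivariant function over a free `P`-set is a trace. -/
theorem exists_tr_of_free {D : Type*} [MulAction P D] (s : Finset D)
    (hs : ∀ (y : P) (d : D), d ∈ s → y • d ∈ s)
    (hfree : ∀ (y : P) (d : D), d ∈ s → y • d = d → y = 1)
    (φ : D → V) (hφ : ∀ (y : P) (d : D), d ∈ s → φ (y • d) = el F (y : G) • φ d) :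
    ∃ a : V, tr P F • a = ∑ d ∈ s, φ d := by
  classical
  have : Fintype P := Fintype.ofFinite P
  obtain ⟨t, hts, ht⟩ := exists_reps_of_free s hs hfree
  refine ⟨∑ d ∈ t, φ d, ?_⟩
  rw [ht φ, Finset.smul_sum]
  refine Finset.sum_congr rfl fun d hd => ?_
  rw [tr_def, Finset.sum_smul]
  exact Finset.sum_congr rfl fun y _ => (hφ y d (hts hd)).symm

/-- A sum of an invariant function over a free `P`-set is zero in characteristic `p = |P|`. -/
theorem sum_eq_zero_of_free {D : Type*} [MulAction P D] (s : Finset D)
    (hs : ∀ (y : P) (d : D), d ∈ s → y • d ∈ s)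
    (hfree : ∀ (y : P) (d : D), d ∈ s → y • d = d → y = 1)
    (hP : (Nat.card P : F) = 0) (φ : D → F) (hφ : ∀ (y : P) (d : D), d ∈ s → φ (y • d) = φ d) :
    ∑ d ∈ s, φ d = 0 := by
  classical
  have : Fintype P := Fintype.ofFinite P
  obtain ⟨t, hts, ht⟩ := exists_reps_of_free s hs hfree
  rw [ht φ]
  refine Finset.sum_eq_zero fun d hd => ?_
  rw [Finset.sum_congr rfl (g := fun _ => φ d) (fun y _ => hφ y d (hts hd)), Finset.sum_const,
    Finset.card_univ, ← Nat.card_eq_fintype_card, ← Nat.cast_smul_eq_nsmul F, hP, zero_smul]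

end FreeSum

section Pow

variable {F : Type*} [Field F] {p : ℕ} [hp : Fact p.Prime] [CharP F p]
  {G : Type*} [Group G] {P : Subgroup G}

theorem charP_alg (F : Type*) [Field F] (p : ℕ) [CharP F p] (G : Type*) [Group G] :
    CharP (MonoidAlgebra F G) p :=
  charP_of_injective_algebraMap (FaithfulSMul.algebraMap_injective F (MonoidAlgebra F G)) p

/-- In characteristic `p`, the sum over a group of order `p` generated by `x` is
`(x - 1) ^ (p - 1)`. -/
theorem tr_eq_pow [Finite G] (x : G) (hx : orderOf x = p) (hP : P = Subgroup.zpowers x) :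
    tr P F = (el F x - 1) ^ (p - 1) := by
  classical
  subst hP
  have : Fintype (Subgroup.zpowers x) := Fintype.ofFinite _
  have h1 : tr (Subgroup.zpowers x) F = ∑ i ∈ Finset.range p, (el F x) ^ i := by
    rw [tr_def]
    have hfo : IsOfFinOrder x := isOfFinOrder_of_finite x
    rw [← Equiv.sum_comp (finEquivZPowers hfo), Finset.sum_range]
    subst hx
    refine Finset.sum_congr rfl fun i _ => ?_
    rw [finEquivZPowers_apply]
    exact map_pow (MonoidAlgebra.of F G) x i
  rw [h1]
  -- compare in the commutative polynomial ring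
  have key : (∑ i ∈ Finset.range p, (Polynomial.X : Polynomial F) ^ i) =
      (Polynomial.X - 1) ^ (p - 1) := by
    have h2 : (∑ i ∈ Finset.range p, (Polynomial.X : Polynomial F) ^ i) * (Polynomial.X - 1) =
        (Polynomial.X - 1) ^ (p - 1) * (Polynomial.X - 1) := by
      rw [geom_sum_mul, ← pow_succ, Nat.sub_add_cancel hp.out.one_le, sub_pow_char, one_pow]
    exact mul_right_cancel₀ (Polynomial.X_sub_C_ne_zero (1 : F) ) (by simpa using h2)
  have := congrArg (Polynomial.aeval (el F x)) key
  simpa using this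

theorem el_pow (x : G) (n : ℕ) : el F x ^ n = el F (x ^ n) :=
  (map_pow (MonoidAlgebra.of F G) x n).symm

/-- moving a normalizing element past a power of `x - 1` -/
theorem exists_el_mul_pow [Finite G] (x : G) (hP : P = Subgroup.zpowers x) {n : G}
    (hn : n ∈ Subgroup.normalizer (P : Set G)) (k : ℕ) :
    ∃ b : MonoidAlgebra F G, el F n * (el F x - 1) ^ k = (el F x - 1) ^ k * b := by
  have hxP : x ∈ P := hP ▸ Subgroup.mem_zpowers x
  have h1 : n * x * n⁻¹ ∈ P := (Subgroup.mem_normalizer_iff.1 hn x).1 hxP
  rw [hP] at h1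
  obtain ⟨r, hr⟩ := (mem_powers_iff_mem_zpowers.2 h1 : n * x * n⁻¹ ∈ Submonoid.powers x)
  have hr' : x ^ r = n * x * n⁻¹ := hr
  have h2 : el F n * (el F x - 1) = (el F (x ^ r) - 1) * el F n := by
    rw [mul_sub, sub_mul, mul_one, one_mul, el_mul, el_mul, hr']
    congr 2
    group
  have h3 : el F n * (el F x - 1) ^ k = (el F (x ^ r) - 1) ^ k * el F n := by
    have : SemiconjBy (el F n) (el F x - 1) (el F (x ^ r) - 1) := h2
    exact (this.pow_right k)
  have h4 : el F (x ^ r) - 1 = (el F x - 1) * (∑ i ∈ Finset.range r, el F x ^ i) := by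
    rw [mul_geom_sum, el_pow]
  have h5 : Commute (el F x - 1) (∑ i ∈ Finset.range r, el F x ^ i) := by
    refine Commute.sum_right _ _ _ fun i _ => ?_
    exact ((Commute.refl (el F x)).pow_right i).sub_left (Commute.one_left _)
  refine ⟨(∑ i ∈ Finset.range r, el F x ^ i) ^ k * el F n, ?_⟩
  rw [h3, h4, h5.mul_pow, mul_assoc]

end Pow

section Conj

variable {F : Type*} [Field F] {G : Type*} [Group G] {P : Subgroup G}
  {V : Type*} [AddCommGroup V] [Module F V] [Module (MonoidAlgebra F G) V]

/-- conjugate of a map by a group element -/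
noncomputable def cj (π : V →ₗ[F] V) (g : G) (s : V) : V := el F g • π (el F g⁻¹ • s)

theorem cj_def (π : V →ₗ[F] V) (g : G) (s : V) : cj π g s = el F g • π (el F g⁻¹ • s) := rfl

theorem cj_mul_of_comm {π : V →ₗ[F] V}
    (hπ : ∀ y ∈ P, ∀ s : V, π (el F y • s) = el F y • π s) (g : G) {y : G} (hy : y ∈ P) (s : V) :
    cj π (g * y) s = cj π g s := by
  rw [cj_def, cj_def, mul_inv_rev, ← el_mul, ← el_mul, mul_smul, mul_smul,
    hπ _ (inv_mem hy), smul_smul (el F y), el_mul, mul_inv_cancel, el_one, one_smul]

theorem cj_mul_left (π : V →ₗ[F] V) (g h : G) (s : V) :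
    cj π (h * g) (el F h • s) = el F h • cj π g s := by
  rw [cj_def, cj_def, mul_inv_rev, ← el_mul, ← el_mul, mul_smul, mul_smul,
    smul_smul (el F h⁻¹) (el F h), el_mul, inv_mul_cancel, el_one, one_smul]

end Conj

section Trace

variable {F : Type*} [Field F] {G : Type*} [Group G] [Finite G] {P : Subgroup G}
  {V : Type*} [AddCommGroup V] [Module F V] [Module (MonoidAlgebra F G) V]
  [IsScalarTower F (MonoidAlgebra F G) V]

/-- The trace of a `P`-endomorphism is `G`-linear. -/
theorem exists_trace {π : V →ₗ[F] V}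
    (hπ : ∀ y ∈ P, ∀ s : V, π (el F y • s) = el F y • π s) :
    ∃ θ : V →ₗ[MonoidAlgebra F G] V, ∀ s,
      θ s = ∑ᶠ q : G ⧸ P, cj π q.out s := by
  classical
  have : Fintype (G ⧸ P) := Fintype.ofFinite _
  let θ₀ : V →ₗ[F] V :=
    { toFun := fun s => ∑ q : G ⧸ P, cj π q.out s
      map_add' := fun a b => by
        rw [← Finset.sum_add_distrib]
        refine Finset.sum_congr rfl fun q _ => ?_
        rw [cj_def, cj_def, cj_def, smul_add, map_add, smul_add]
      map_smul' := fun c a => by
        rw [RingHom.id_apply, Finset.smul_sum]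
        refine Finset.sum_congr rfl fun q _ => ?_
        rw [cj_def, cj_def, smul_comm', map_smul, smul_comm'] }
  have hθ₀ : ∀ s, θ₀ s = ∑ q : G ⧸ P, cj π q.out s := fun s => rfl
  refine ⟨MonoidAlgebra.equivariantOfLinearOfComm θ₀ fun g v => ?_, fun s => ?_⟩
  · change θ₀ (el F g • v) = el F g • θ₀ v
    rw [hθ₀, hθ₀, Finset.smul_sum, ← Equiv.sum_comp (MulAction.toPerm g)]
    refine Finset.sum_congr rfl fun q _ => ?_
    rw [MulAction.toPerm_apply]
    obtain ⟨y, hy, hyq⟩ := out_smul g q
    rw [hyq, cj_mul_of_comm hπ _ hy, cj_mul_left]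
  · rw [finsum_eq_sum_of_fintype]
    exact hθ₀ s

end Trace

section Main

variable {F : Type*} [Field F] {p : ℕ} [hp : Fact p.Prime] [CharP F p]
  {G : Type*} [Group G] [Finite G] {P : Subgroup G}

omit [Finite G] hp [Field F] [CharP F p] in
/-- A subgroup of prime order is a TI-subgroup. -/
theorem mem_normalizer_of_conj_mem (hp' : p.Prime) (hP : Nat.card P = p) {y : G} (hyP : y ∈ P)
    (hy : y ≠ 1) (g : G) (h : g⁻¹ * y * g ∈ P) : g ∈ Subgroup.normalizer (P : Set G) := by
  have hfin : Finite P := Nat.finite_of_card_ne_zero (by rw [hP]; exact hp'.ne_zero)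
  have hgen : Subgroup.zpowers y = P := by
    apply Subgroup.eq_of_le_of_card_ge
    · rw [Subgroup.zpowers_le]; exact hyP
    · rw [Nat.card_zpowers, hP]
      have h3 : orderOf y = orderOf (⟨y, hyP⟩ : P) := (Subgroup.orderOf_coe (⟨y, hyP⟩ : P))
      have h4 : orderOf (⟨y, hyP⟩ : P) ∣ p := hP ▸ orderOf_dvd_natCard _
      rcases (Nat.dvd_prime hp').1 h4 with h5 | h5
      · exact absurd (congrArg Subtype.val (orderOf_eq_one_iff.1 h5)) hy
      · rw [h3, h5]
  have hinv : g⁻¹ ∈ Subgroup.normalizer (P : Set G) := by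
    have hmap : P.map (MulAut.conj g⁻¹).toMonoidHom ≤ P := by
      conv_lhs => rw [← hgen]
      rw [MonoidHom.map_zpowers, Subgroup.zpowers_le]
      change g⁻¹ * y * g⁻¹⁻¹ ∈ P
      rw [inv_inv]
      exact h
    have hmap' : P.map (MulAut.conj g⁻¹).toMonoidHom = P := by
      apply Subgroup.eq_of_le_of_card_ge hmap
      rw [Subgroup.card_map_of_injective (MulEquiv.injective _)]
    exact Subgroup.mem_normalizer_iff_map_conj_eq.2 hmap'
  simpa using inv_mem hinv

omit [Finite G] hp [Field F] [CharP F p] in
/-- A subgroup of prime order acts freely on the cosets outside its normalizer. -/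
theorem free_cosets (hp' : p.Prime) (hP : Nat.card P = p) (y : P) (q : G ⧸ P)
    (hq : q.out ∉ Subgroup.normalizer (P : Set G)) (h : y • q = q) : y = 1 := by
  by_contra hy
  apply hq
  have h1 : (y : G) • q = q := h
  rw [← QuotientGroup.out_eq' q] at h1
  have h2 : (QuotientGroup.mk ((y : G) * q.out) : G ⧸ P) = QuotientGroup.mk q.out := h1
  rw [eq_comm, QuotientGroup.eq, ← mul_assoc] at h2
  exact mem_normalizer_of_conj_mem hp' hP y.2 (fun h0 => hy (Subtype.ext h0)) _ h2

-- The trace of a P-endomorphism on a P-fixed vector, modulo traces.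
omit [CharP F p] in
theorem trace_apply {V : Type*} [AddCommGroup V] [Module F V] [Module (MonoidAlgebra F G) V]
    (hP : Nat.card P = p) {π : V →ₗ[F] V}
    (hπ : ∀ y ∈ P, ∀ s : V, π (el F y • s) = el F y • π s) {u : V}
    (hu : ∀ y ∈ P, el F y • u = u) :
    ∃ a : V, ∑ᶠ q : G ⧸ P, cj π q.out u = ∑ q ∈ reps P, cj π q.out u + tr P F • a := by
  classical
  have : Fintype (G ⧸ P) := Fintype.ofFinite _
  have hcompl : ∀ q : G ⧸ P, q ∈ Finset.univ \ reps P ↔
      q.out ∉ Subgroup.normalizer (P : Set G) := by
    intro q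
    rw [Finset.mem_sdiff, mem_reps]
    simp
  obtain ⟨a, ha⟩ := exists_tr_of_free (F := F) (P := P) (V := V)
    (Finset.univ \ reps P)
    (fun y q hq => by
      rw [Finset.mem_sdiff] at hq ⊢
      refine ⟨Finset.mem_univ _, fun h => hq.2 ?_⟩
      exact (smul_mem_reps (Subgroup.le_normalizer y.2)).1 h)
    (fun y q hq h => free_cosets hp.out hP y q ((hcompl q).1 hq) h)
    (fun q => cj π q.out u)
    (fun y q hq => by
      obtain ⟨z, hz, hzq⟩ := out_smul (y : G) q
      have h1 : (y • q).out = (y : G) * q.out * z := hzq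
      rw [h1, cj_mul_of_comm hπ _ hz]
      conv_lhs => rw [← hu y y.2]
      rw [cj_mul_left])
  refine ⟨a, ?_⟩
  rw [ha, finsum_eq_sum_of_fintype, add_comm, Finset.sum_sdiff (Finset.subset_univ _)]

end Main

end Cfsg.Agent.Blocks.CyclicLower2
end
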