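import Cfsg.Agent.Characters.Core
import Cfsg.Agent.Characters.Values
import Cfsg.Agent.Blocks.Local
import Cfsg.Agent.Blocks.ClassSum
import Cfsg.Agent.OddOrderCharacters.ClassSum
import Cfsg.Agent.S0907
set_option linter.all false

/-!
# The kernel of a block
-/

set_option autoImplicit false

open Cfsg
open scoped ComplexConjugate

namespace Cfsg.Agent.Blocks.BlockKer

open Cfsg.Agent.Blocks.Local Cfsg.Agent.Characters

variable {G : Type*} [Group G]

/-- The kernel of an irreducible character, as a normal subgroup. -/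
theorem exists_kernel [Finite G] {χ : G → ℂ} (hχ : IsIrrCharacter G χ) :
    ∃ K : Subgroup G, K.Normal ∧ ∀ g, g ∈ K ↔ χ g = χ 1 := by
  obtain ⟨n, ρ, -, rfl⟩ := hχ
  have h1 : ρ.character 1 = (Module.finrank ℂ (Fin n → ℂ) : ℂ) := Representation.char_one ρ
  refine ⟨MonoidHom.ker ρ, inferInstance, fun g => ?_⟩
  rw [MonoidHom.mem_ker, h1, Values.character_eq_finrank_iff]
  rfl

/-- If `N` is a normal subgroup and the sum of the irreducible character `χ` over `N` is nonzero,
then `N` is in the kernel of `χ`. -/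
theorem apply_eq_of_sum_ne_zero [Finite G] {χ : G → ℂ} (hχ : IsIrrCharacter G χ)
    (N : Subgroup G) (hN : N.Normal) (S : Finset G) (hS : ∀ x, x ∈ S ↔ x ∈ N)
    (h : ∑ x ∈ S, χ x ≠ 0) {g : G} (hg : g ∈ N) : χ g = χ 1 := by
  classical
  obtain ⟨n, ρ, hρ, rfl⟩ := hχ
  obtain ⟨c, hc⟩ := OddOrderCharacters.ClassSum.invariant_sum_scalar ρ hρ S
    (fun g x hx => (hS _).2 (hN.conj_mem x ((hS x).1 hx) g))
  have hc0 : c ≠ 0 := by
    rintro rfl
    apply h
    have : ∑ x ∈ S, ρ.character x = LinearMap.trace ℂ _ (∑ x ∈ S, ρ x) := by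
      rw [map_sum]; rfl
    rw [this, hc, zero_smul, map_zero]
  have h1 : ρ g * ∑ x ∈ S, ρ x = ∑ x ∈ S, ρ x := by
    rw [Finset.mul_sum]
    refine Finset.sum_bij' (fun x _ => g * x) (fun x _ => g⁻¹ * x) ?_ ?_ ?_ ?_ ?_
    · intro x hx; exact (hS _).2 (N.mul_mem hg ((hS x).1 hx))
    · intro x hx; exact (hS _).2 (N.mul_mem (N.inv_mem hg) ((hS x).1 hx))
    · intro x _; group
    · intro x _; group
    · intro x _; rw [map_mul]
  rw [hc, mul_smul_comm, mul_one] at h1
  have h2 : ρ g = 1 := by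
    have := congrArg (fun T => c⁻¹ • T) h1
    simpa [smul_smul, inv_mul_cancel₀ hc0] using this
  show LinearMap.trace ℂ _ (ρ g) = LinearMap.trace ℂ _ (ρ 1)
  rw [h2, map_one ρ]

/-- A normal subgroup of order prime to `p` in the kernel of a member of a block is in the kernel
of every member of the block. -/
theorem apply_eq_of_sameBlock [Finite G] {p : ℕ} {M : Ideal AlgInt} (hM : IsPModular p M)
    {χ ψ : G → ℂ} (hχ : IsIrrCharacter G χ) (hψ : IsIrrCharacter G ψ) (h : SameBlock M χ ψ)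
    (N : Subgroup G) (hN : N.Normal) (hp : ¬ p ∣ Nat.card N) (hχN : ∀ g ∈ N, χ g = χ 1)
    {g : G} (hg : g ∈ N) : ψ g = ψ 1 := by
  classical
  have := isPrime_of_isPModular hM
  have := Fintype.ofFinite G
  have key := ClassSum.memLocalIdeal_of_sameBlock (M := M) (Core.isIrr_isClassFunction hχ)
    (Core.isIrr_isClassFunction hψ) h (f := fun x => if x ∈ N then 1 else 0)
    (fun x y => by
      show (if y * x * y⁻¹ ∈ N then (1 : ℂ) else 0) = if x ∈ N then 1 else 0
      have e : y * x * y⁻¹ ∈ N ↔ x ∈ N := ⟨fun h => by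
        have := hN.conj_mem _ h y⁻¹
        simpa [mul_assoc] using this, fun h => hN.conj_mem x h y⟩
      simp only [e])
    (fun x => by
      split
      · exact memLocalRing_one
      · exact memLocalRing_zero)
  simp only [ite_mul, one_mul, zero_mul] at key
  rw [← Finset.sum_filter, ← Finset.sum_filter] at key
  obtain ⟨n, hn, hn'⟩ := Core.isIrr_apply_one hχ
  have hχ0 : χ 1 ≠ 0 := by rw [hn']; exact_mod_cast hn.ne'
  have e1 : ∑ x ∈ Finset.univ.filter (fun x => x ∈ N), χ x / χ 1 = Nat.card N := by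
    rw [Finset.sum_congr rfl (g := fun _ => 1)]
    · rw [Finset.sum_const, nsmul_one, Nat.card_eq_fintype_card, Fintype.card_subtype]
    · intro x hx
      rw [hχN x (Finset.mem_filter.1 hx).2, div_self hχ0]
  rw [e1] at key
  refine apply_eq_of_sum_ne_zero hψ N hN (Finset.univ.filter (fun x => x ∈ N))
    (fun x => by simp) ?_ hg
  intro h0
  rw [← Finset.sum_div, h0, zero_div, sub_zero] at key
  exact hp ((memLocalIdeal_natCast_iff hM _).1 key)

theorem blockKer_result [Finite G] (p : ℕ) [Fact p.Prime] (M : Ideal AlgInt)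
    (hM : IsPModular p M) (B : Set (IrrCharacter G)) (hB : IsPBlock M B) (χ : IrrCharacter G)
    (hχ : χ ∈ B) : ∃ K : Subgroup G, K.Normal ∧ (K : Set G) = blockKer B ∧
      ¬ p ∣ Nat.card K ∧ (∀ g ∈ K, (χ : G → ℂ) g = (χ : G → ℂ) 1) ∧
      ∀ N : Subgroup G, N.Normal → ¬ p ∣ Nat.card N →
        (∀ g ∈ N, (χ : G → ℂ) g = (χ : G → ℂ) 1) → N ≤ K := by
  classical
  have := isPrime_of_isPModular hM
  choose ker hker hker' using fun ψ : IrrCharacter G => exists_kernel ψ.2
  refine ⟨⨅ ψ ∈ B, ker ψ, ?_, ?_, ?_, ?_, ?_⟩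
  · exact Subgroup.normal_iInf_normal fun ψ => Subgroup.normal_iInf_normal fun _ => hker ψ
  · ext g
    simp only [SetLike.mem_coe, Subgroup.mem_iInf, hker']
    rfl
  · intro hp
    obtain ⟨⟨y, hy⟩, hyo⟩ := exists_prime_orderOf_dvd_card' p hp
    rw [Subgroup.orderOf_mk] at hyo
    have h1 := Cfsg.Agent.S0907.result p M hM B hB 1 y
      (by rw [orderOf_one]; exact (Fact.out : p.Prime).one_lt.ne' ∘ Nat.dvd_one.1)
      (by rw [hyo])
    have := Core.finite_irr (G := G)
    rw [finsum_mem_eq_finite_toFinset_sum _ (Set.toFinite _)] at h1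
    have h2 : ∀ ψ ∈ (Set.toFinite B).toFinset, (ψ : G → ℂ) 1 * conj ((ψ : G → ℂ) y) =
        ((charDegree (ψ : G → ℂ) ^ 2 : ℕ) : ℂ) := by
      intro ψ hψ
      rw [Set.Finite.mem_toFinset] at hψ
      simp only [Subgroup.mem_iInf, hker'] at hy
      obtain ⟨n, hn, hn'⟩ := Core.isIrr_apply_one ψ.2
      rw [hy ψ hψ]
      unfold charDegree
      rw [hn']
      simp [sq]
    rw [Finset.sum_congr rfl h2, ← Nat.cast_sum, Nat.cast_eq_zero,
      Finset.sum_eq_zero_iff] at h1
    have h3 := h1 χ (by rw [Set.Finite.mem_toFinset]; exact hχ)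
    obtain ⟨n, hn, hn'⟩ := Core.isIrr_apply_one χ.2
    unfold charDegree at h3
    rw [hn'] at h3
    simp at h3
    omega
  · intro g hg
    simp only [Subgroup.mem_iInf, hker'] at hg
    exact hg χ hχ
  · intro N hN hp hχN g hg
    simp only [Subgroup.mem_iInf, hker']
    intro ψ hψ
    obtain ⟨φ, rfl⟩ := hB
    have hs : SameBlock M (χ : G → ℂ) (ψ : G → ℂ) := fun g =>
      memLocalIdeal_sub_trans (memLocalIdeal_sub_comm (hχ g)) (hψ g)
    exact apply_eq_of_sameBlock hM χ.2 ψ.2 hs N hN hp hχN hg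

end Cfsg.Agent.Blocks.BlockKer
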