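import Mathlib
import Cfsg.Prelude.Def_Blocks
import Cfsg.Agent.Blocks.LocalRing
import Cfsg.Agent.Blocks.ConvCentral
set_option linter.all false

/-!
# Vanishing of characters by twisting a class sum

Let `χ` be an irreducible character, `k` an element whose central character value is a unit
modulo `M`, and `g` an element whose `p`-part commutes with no conjugate of `k`.
Then `χ g = 0`.
-/

set_option autoImplicit false

namespace Cfsg.Agent.Blocks.ClassTwist

open Cfsg
open Cfsg.Agent.Blocks.LocalRing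
open Cfsg.Agent.Blocks.ConvCentral

variable {p : ℕ} {M : Ideal AlgInt}

/-- A matrix congruent to the identity modulo the local ideal has nonzero determinant. -/
theorem det_ne_zero_of_congr_one (hM : IsPModular p M) {Ω : Type*} [Fintype Ω] [DecidableEq Ω]
    (X : Matrix Ω Ω ℂ) (h : ∀ a b, MemLocalIdeal M (X a b - (1 : Matrix Ω Ω ℂ) a b)) :
    X.det ≠ 0 := by
  have hone : ∀ a b, MemLocalRing M ((1 : Matrix Ω Ω ℂ) a b) := by
    intro a b
    rw [Matrix.one_apply]
    split
    · exact memLocalRing_one hM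
    · exact memLocalRing_zero hM
  have hX : ∀ a b, MemLocalRing M (X a b) := by
    intro a b
    have := memLocalRing_add hM (memLocalIdeal_memLocalRing (h a b)) (hone a b)
    simpa using this
  let Y : Matrix Ω Ω (locRing hM) := fun a b => ⟨X a b, hX a b⟩
  have hXY : X = (locRing hM).subtype.mapMatrix Y := by
    ext a b; rfl
  have hdet : X.det = ((Y.det : locRing hM) : ℂ) := by
    rw [hXY, ← RingHom.map_det]; rfl
  rw [hdet]
  have h1 : (Ideal.Quotient.mk (locIdeal hM)).mapMatrix Y = 1 := by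
    have h2 : (Ideal.Quotient.mk (locIdeal hM)).mapMatrix Y =
        (Ideal.Quotient.mk (locIdeal hM)).mapMatrix (1 : Matrix Ω Ω (locRing hM)) := by
      ext a b
      rw [RingHom.mapMatrix_apply, RingHom.mapMatrix_apply, Matrix.map_apply, Matrix.map_apply,
        Ideal.Quotient.eq, mem_locIdeal]
      have h3 : (((1 : Matrix Ω Ω (locRing hM)) a b : locRing hM) : ℂ) =
          (1 : Matrix Ω Ω ℂ) a b := by
        rw [Matrix.one_apply, Matrix.one_apply]
        split <;> simp
      have h4 := h a b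
      rw [← h3] at h4
      exact h4
    rw [h2, map_one]
  have h3 : Ideal.Quotient.mk (locIdeal hM) Y.det = 1 := by
    rw [RingHom.map_det, h1, Matrix.det_one]
  intro h0
  have h4 : Y.det = 0 := by
    ext; exact h0
  rw [h4, map_zero] at h3
  have h5 : Ideal.Quotient.mk (locIdeal hM) (1 : locRing hM) = 0 := by
    rw [map_one]; exact h3.symm
  rw [Ideal.Quotient.eq_zero_iff_mem] at h5
  exact not_memLocalIdeal_one hM h5

/-- If the length of every `τ`-orbit through `S` is divisible by `p`, then there is a grading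
of degree one. -/
theorem exists_grading {Ω : Type*} (τ : Equiv.Perm Ω) (S : Set Ω) (p : ℕ)
    (h : ∀ a ∈ S, ∀ n : ℤ, (τ ^ n) a = a → (p : ℤ) ∣ n) :
    ∃ d : Ω → ZMod p, ∀ a ∈ S, d (τ a) = d a + 1 := by
  classical
  let st := Equiv.Perm.SameCycle.setoid τ
  let r : Ω → Ω := fun a => Quotient.out (Quotient.mk st a)
  have hr : ∀ a, ∃ n : ℤ, (τ ^ n) (r a) = a := fun a => Quotient.exact (Quotient.out_eq (Quotient.mk st a))
  choose n hn using hr
  refine ⟨fun a => (n a : ZMod p), fun a ha => ?_⟩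
  have hrr : r (τ a) = r a := by
    have : Quotient.mk st (τ a) = Quotient.mk st a := by
      apply Quotient.sound
      exact (Equiv.Perm.sameCycle_apply_left.2 (Equiv.Perm.SameCycle.refl τ a))
    change Quotient.out _ = Quotient.out _
    rw [this]
  have h1 := hn (τ a)
  rw [hrr] at h1
  have h2 : (τ ^ (n (τ a) - n a - 1)) a = a := by
    have h3 : ∀ (m l : ℤ) (b c : Ω), (τ ^ m) b = c → (τ ^ (l - m - 1)) c =
        (τ ^ (-1 : ℤ)) ((τ ^ l) b) := by
      rintro m l b c rfl
      rw [← Equiv.Perm.mul_apply, ← Equiv.Perm.mul_apply, ← zpow_add, ← zpow_add]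
      congr 2
      ring
    rw [h3 (n a) (n (τ a)) (r a) a (hn a), h1]
    simp
  have h3 := h a ha _ h2
  have h4 := (ZMod.intCast_zmod_eq_zero_iff_dvd _ p).2 h3
  push_cast at h4
  linear_combination h4

section Group

variable {G : Type*} [Group G]

/-- If `g ^ n` commutes with `s` and `p ∤ n` then the `p`-part of `g` commutes with `s`. -/
theorem commute_pPart [Fact p.Prime] {g x s : G} (h : IsPPart p g x) {n : ℤ}
    (hn : ¬ (p : ℤ) ∣ n) (hs : Commute (g ^ n) s) : Commute x s := by
  obtain ⟨y, rfl, hc, ⟨k, hk⟩, hy⟩ := h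
  have hp : Prime (p : ℤ) := Nat.prime_iff_prime_int.1 Fact.out
  have h1 : Commute (x ^ (n * (orderOf y : ℤ))) s := by
    have h2 : (x * y) ^ (n * (orderOf y : ℤ)) = x ^ (n * (orderOf y : ℤ)) := by
      rw [hc.mul_zpow, mul_comm n, zpow_mul y, zpow_natCast, pow_orderOf_eq_one, one_zpow, mul_one]
    rw [← h2, zpow_mul]
    exact hs.zpow_left _
  have h2 : IsCoprime (n * (orderOf y : ℤ)) ((p : ℤ) ^ k) := by
    apply IsCoprime.pow_right
    apply IsCoprime.symm
    rw [Prime.coprime_iff_not_dvd hp]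
    intro h
    rcases hp.dvd_or_dvd h with h | h
    · exact hn h
    · exact hy (by exact_mod_cast h)
  obtain ⟨a, b, hab⟩ := h2
  have h3 : x = (x ^ (n * (orderOf y : ℤ))) ^ a := by
    rw [← zpow_mul]
    conv_lhs => rw [← zpow_one x, ← hab]
    rw [zpow_add, mul_comm b, zpow_mul x ((p : ℤ) ^ k)]
    have : x ^ ((p : ℤ) ^ k) = 1 := by
      have h4 : ((p : ℤ) ^ k) = ((orderOf x : ℕ) : ℤ) := by rw [hk]; push_cast; rfl
      rw [h4, zpow_natCast, pow_orderOf_eq_one]
    rw [this, one_zpow, mul_one, mul_comm a]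
  rw [h3]
  exact h1.zpow_left _

/-- A primitive `p`-th root of unity is congruent to one. -/
theorem exists_root (hM : IsPModular p M) :
    ∃ ζ : ℂ, ζ ^ p = 1 ∧ ζ ≠ 1 ∧ ζ ≠ 0 ∧ IsIntegral ℤ ζ ∧ MemLocalIdeal M (ζ - 1) := by
  have hp : p.Prime := hM.1
  have h0 : p ≠ 0 := hp.ne_zero
  have hprim := Complex.isPrimitiveRoot_exp p h0
  set ζ := Complex.exp (2 * Real.pi * Complex.I / p) with hζ
  have hint : IsIntegral ℤ ζ := hprim.isIntegral hp.pos
  refine ⟨ζ, hprim.pow_eq_one, hprim.ne_one hp.one_lt, hprim.ne_zero h0, hint, ?_⟩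
  let z : AlgInt := ⟨ζ, hint⟩
  have hz : z ^ p = 1 := by
    ext
    push_cast
    exact hprim.pow_eq_one
  have hz1 : z - 1 ∈ M := by
    obtain ⟨r, hr⟩ := exists_add_pow_prime_eq hp (z - 1) 1
    rw [sub_add_cancel, hz, one_pow] at hr
    have h1 : (z - 1) ^ p = (p : AlgInt) * (-((z - 1) * r)) := by linear_combination -hr
    have h2 : (z - 1) ^ p ∈ M := by
      rw [h1]
      exact M.mul_mem_right _ (prime_mem hM)
    exact (isPrime hM).mem_of_pow_mem p h2
  have h3 := (memLocalIdeal_coe_iff hM (z - 1)).2 hz1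
  push_cast at h3
  exact h3

open Classical in
/-- An element of the group algebra congruent to `1` modulo the local ideal acts invertibly. -/
theorem exists_inverse [Fintype G] (hM : IsPModular p M) (u : G → ℂ)
    (hu : ∀ g, MemLocalIdeal M (u g - if g = 1 then 1 else 0)) :
    ∃ v : G → ℂ, conv u v = fun g => if g = 1 then 1 else 0 := by
  let X : Matrix G G ℂ := fun a b => u (a * b⁻¹)
  have hX : X.det ≠ 0 := by
    apply det_ne_zero_of_congr_one hM
    intro a b
    have h := hu (a * b⁻¹)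
    rw [Matrix.one_apply]
    have : (a * b⁻¹ = 1) ↔ a = b := mul_inv_eq_one
    simp only [this] at h
    exact h
  have hXu : IsUnit X := (Matrix.isUnit_iff_isUnit_det X).2 (isUnit_iff_ne_zero.2 hX)
  obtain ⟨Y, hY⟩ := hXu.exists_right_inv
  refine ⟨fun b => Y b 1, ?_⟩
  funext a
  have h1 := congrFun (congrFun hY a) 1
  rw [Matrix.mul_apply, Matrix.one_apply] at h1
  rw [conv_apply, ← h1]
  refine Fintype.sum_equiv ((Equiv.inv G).trans (Equiv.mulRight a)) _ _ fun x => ?_
  simp [X]

theorem opOf_one [Fintype G] {V : Type*} [AddCommGroup V] [Module ℂ V] [DecidableEq G]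
    (ρ : Representation ℂ G V) : opOf ρ (fun g => if g = 1 then 1 else 0) = 1 := by
  rw [opOf_def]
  simp [ite_smul]

theorem opOf_add [Fintype G] {V : Type*} [AddCommGroup V] [Module ℂ V]
    (ρ : Representation ℂ G V) (f f' : G → ℂ) : opOf ρ (f + f') = opOf ρ f + opOf ρ f' := by
  simp [opOf_def, add_smul, Finset.sum_add_distrib]

theorem opOf_sub [Fintype G] {V : Type*} [AddCommGroup V] [Module ℂ V]
    (ρ : Representation ℂ G V) (f f' : G → ℂ) : opOf ρ (f - f') = opOf ρ f - opOf ρ f' := by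
  simp [opOf_def, sub_smul, Finset.sum_sub_distrib]

theorem opOf_smul [Fintype G] {V : Type*} [AddCommGroup V] [Module ℂ V]
    (ρ : Representation ℂ G V) (c : ℂ) (f : G → ℂ) : opOf ρ (c • f) = c • opOf ρ f := by
  simp [opOf_def, Finset.smul_sum, smul_smul]

/-- conjugation acts on elements of the group algebra -/
theorem mul_opOf [Fintype G] {V : Type*} [AddCommGroup V] [Module ℂ V]
    (ρ : Representation ℂ G V) (f : G → ℂ) (g : G) :
    ρ g * opOf ρ f = opOf ρ (fun s => f (g⁻¹ * s * g)) * ρ g := by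
  rw [opOf_def, opOf_def, Finset.sum_mul, Finset.mul_sum]
  refine Fintype.sum_equiv (MulAut.conj g).toEquiv _ _ fun s => ?_
  simp only [MulEquiv.toEquiv_eq_coe, EquivLike.coe_coe, MulAut.conj_apply]
  rw [mul_smul_comm, smul_mul_assoc, ← map_mul, ← map_mul]
  congr 2
  · group
  · group

/-- The class sum acts by the central character. -/
theorem opOf_classInd [Fintype G] {n : ℕ} (ρ : Representation ℂ G (Fin n → ℂ))
    (hρ : ρ.IsIrreducible) (k : G) :
    opOf ρ (fun x => (classInd k x : ℂ)) =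
      centralChar ρ.character k • (1 : Module.End ℂ (Fin n → ℂ)) := by
  have hne : ρ.character 1 ≠ 0 :=
    Cfsg.Agent.Blocks.ConvCentral.irr_one_ne_zero ⟨n, ρ, hρ, rfl⟩
  obtain ⟨c, hc⟩ := exists_scalar ρ hρ (isClassFunction_classInd k)
  have h1 := trace_opOf ρ (fun x => (classInd k x : ℂ))
  rw [hc, map_smul, LinearMap.trace_one, smul_eq_mul, ← lin_def] at h1
  have h2 := lin_classInd (χ := ρ.character) (fun g h => ρ.char_conj g h) k
  rw [← h1, Representation.char_one] at h2
  rw [Representation.char_one] at hne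
  rw [mul_div_cancel_right₀ _ hne] at h2
  rw [hc, h2]

theorem pow_val_add_one [Fact p.Prime] {ζ : ℂ} (hζ : ζ ^ p = 1) (a : ZMod p) :
    ζ ^ (a + 1).val = ζ * ζ ^ a.val := by
  have hp1 : p ≠ 1 := (Fact.out : p.Prime).ne_one
  rw [ZMod.val_add, ZMod.val_one'' hp1, ← pow_eq_pow_mod _ hζ, pow_succ, mul_comm]

theorem memLocalIdeal_pow_sub_one (hM : IsPModular p M) {ζ : ℂ} (hζi : IsIntegral ℤ ζ)
    (hζ : MemLocalIdeal M (ζ - 1)) (n : ℕ) : MemLocalIdeal M (ζ ^ n - 1) := by
  rw [← mul_geom_sum]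
  apply memLocalIdeal_mul_right hM hζ
  exact memLocalRing_sum hM _ _ fun i _ => memLocalRing_of_isIntegral hM (hζi.pow i)

/-- **Vanishing by twisting a class sum.** If `centralChar χ k` is a unit modulo `M` and the
`p`-part of `g` commutes with no conjugate of `k`, then `χ g = 0`. -/
theorem irr_apply_eq_zero_of_centralChar [Finite G] [Fact p.Prime] (hM : IsPModular p M)
    {χ : G → ℂ} (hχ : IsIrrCharacter G χ) {k g x : G}
    (hk : ¬ MemLocalIdeal M (centralChar χ k)) (hx : IsPPart p g x)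
    (hc : ∀ s, IsConj k s → ¬ Commute x s) : χ g = 0 := by
  classical
  have := Fintype.ofFinite G
  obtain ⟨ζ, hζp, hζ1, hζ0, hζi, hζM⟩ := exists_root hM
  -- the grading
  obtain ⟨d, hd⟩ := exists_grading (MulAut.conj g).toEquiv {s | IsConj k s} p (by
    intro s hs n hn
    by_contra hpn
    apply hc s hs
    apply commute_pPart hx hpn
    have h1 : ((MulAut.conj g).toEquiv ^ n) s = g ^ n * s * (g ^ n)⁻¹ := by
      have h2 : (MulAut.conj g).toEquiv ^ n = (MulAut.conj (g ^ n)).toEquiv := by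
        rw [map_zpow]
        exact (map_zpow (MulAut.toPerm G) (MulAut.conj g) n).symm
      rw [h2]; rfl
    rw [h1] at hn
    exact (mul_inv_eq_iff_eq_mul.1 hn))
  obtain ⟨n, ρ, hρ, rfl⟩ := hχ
  set ω := centralChar ρ.character k with hω
  have hωR : MemLocalRing M ω :=
    memLocalRing_of_isIntegral hM (isIntegral_centralChar ⟨n, ρ, hρ, rfl⟩ k)
  have hω0 : ω ≠ 0 := ne_zero_of_not_memLocalIdeal hM hk
  have hωi : MemLocalRing M ω⁻¹ := memLocalRing_inv hωR hk
  let t : G → ℂ := fun s => if IsConj k s then ω⁻¹ * ζ ^ (d s).val else 0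
  let c : G → ℂ := ω⁻¹ • fun x => (classInd k x : ℂ)
  have hcs : ∀ s, c s = if IsConj k s then ω⁻¹ else 0 := by
    intro s
    by_cases hs : IsConj k s
    · rw [if_pos hs]
      simp only [c, Pi.smul_apply, classInd_of_isConj hs, smul_eq_mul, Int.cast_one, mul_one]
    · rw [if_neg hs]
      simp only [c, Pi.smul_apply, classInd_of_not hs, smul_eq_mul, Int.cast_zero, mul_zero]
  obtain ⟨v, hv⟩ := exists_inverse hM ((fun g : G => if g = 1 then (1 : ℂ) else 0) + (t - c)) (by
    intro s
    have h1 : ((fun g : G => if g = 1 then (1 : ℂ) else 0) + (t - c)) s -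
        (if s = 1 then 1 else 0) = t s - c s := by
      simp only [Pi.add_apply, Pi.sub_apply]
      ring
    rw [h1, hcs]
    by_cases hs : IsConj k s
    · simp only [t, if_pos hs]
      have h2 : ω⁻¹ * ζ ^ (d s).val - ω⁻¹ = ω⁻¹ * (ζ ^ (d s).val - 1) := by ring
      rw [h2]
      exact memLocalIdeal_mul_left hM hωi (memLocalIdeal_pow_sub_one hM hζi hζM _)
    · simp only [t, if_neg hs, sub_zero]
      exact memLocalIdeal_zero hM)
  have hT : opOf ρ t * opOf ρ v = 1 := by
    have h1 := opOf_conv ρ ((fun g : G => if g = 1 then (1 : ℂ) else 0) + (t - c)) v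
    rw [hv, opOf_add, opOf_sub, opOf_one] at h1
    have h2 : opOf ρ c = 1 := by
      rw [opOf_smul, opOf_classInd ρ hρ, smul_smul, ← hω, inv_mul_cancel₀ hω0, one_smul]
    rw [h2, add_sub_cancel] at h1
    exact h1.symm
  have hT' : opOf ρ v * opOf ρ t = 1 := mul_eq_one_comm.1 hT
  have hgT : ρ g * opOf ρ t = ζ⁻¹ • (opOf ρ t * ρ g) := by
    rw [mul_opOf, ← smul_mul_assoc, ← opOf_smul]
    congr 2
    funext s
    have h1 : IsConj k (g⁻¹ * s * g) ↔ IsConj k s := by
      have := isConj_conj_iff (g := k) (x := s) (h := g⁻¹)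
      rwa [inv_inv] at this
    simp only [t, Pi.smul_apply, smul_eq_mul]
    by_cases hs : IsConj k s
    · rw [if_pos (h1.2 hs), if_pos hs]
      have h2 := hd (g⁻¹ * s * g) (h1.2 hs)
      have h3 : (MulAut.conj g).toEquiv (g⁻¹ * s * g) = s := by
        simp [mul_assoc]
      rw [h3] at h2
      rw [h2, pow_val_add_one hζp]
      field_simp
    · rw [if_neg (fun h => hs (h1.1 h)), if_neg hs, mul_zero]
  have htr : ρ.character g = ζ⁻¹ * ρ.character g := by
    have h1 : ρ.character g = LinearMap.trace ℂ (Fin n → ℂ) (ρ g * opOf ρ t * opOf ρ v) := by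
      rw [mul_assoc, hT, mul_one]; rfl
    have h2 : LinearMap.trace ℂ (Fin n → ℂ) (ρ g * opOf ρ t * opOf ρ v) =
        ζ⁻¹ * ρ.character g := by
      rw [hgT, smul_mul_assoc, map_smul, smul_eq_mul, mul_assoc, LinearMap.trace_mul_comm,
        mul_assoc, hT', mul_one]
      rfl
    rw [← h2]; exact h1
  have h3 : (ζ - 1) * ρ.character g = 0 := by
    have : ζ * ρ.character g = ρ.character g := by
      conv_lhs => rw [htr]
      rw [← mul_assoc, mul_inv_cancel₀ hζ0, one_mul]
    rw [sub_mul, this, one_mul, sub_self]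
  rcases mul_eq_zero.1 h3 with h | h
  · exact absurd (sub_eq_zero.1 h) hζ1
  · exact h

end Group

end Cfsg.Agent.Blocks.ClassTwist
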