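import Mathlib
set_option linter.all false

/-! Counting lemmas for actions of finite `p`-groups: orbits and divisibility. -/

set_option autoImplicit false

namespace Cfsg.Agent.Blocks.OrbitCount

/-- If every orbit has cardinality divisible by `n`, so has the whole set. -/
theorem dvd_card_of_forall_orbit {P X : Type*} [Group P] [MulAction P X] [Finite X] (n : ℕ)
    (h : ∀ x : X, n ∣ Nat.card (MulAction.orbit P x)) : n ∣ Nat.card X := by
  classical
  rw [Nat.card_congr (MulAction.selfEquivSigmaOrbits' P X)]
  haveI : Finite (Quotient (MulAction.orbitRel P X)) := Quotient.finite _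
  haveI := Fintype.ofFinite (Quotient (MulAction.orbitRel P X))
  haveI : ∀ ω : Quotient (MulAction.orbitRel P X),
      Finite (MulAction.orbitRel.Quotient.orbit ω) := fun ω => Subtype.finite
  rw [Nat.card_sigma]
  refine Finset.dvd_sum fun ω _ => ?_
  induction ω using Quotient.inductionOn with
  | _ x => 
    have := h x
    rwa [← MulAction.orbitRel.Quotient.orbit_mk] at this

/-- Contrapositive form: if `n` does not divide the number of points, some orbit has
cardinality not divisible by `n`. -/
theorem exists_orbit_not_dvd {P X : Type*} [Group P] [MulAction P X] [Finite X] (n : ℕ)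
    (h : ¬ n ∣ Nat.card X) : ∃ x : X, ¬ n ∣ Nat.card (MulAction.orbit P x) := by
  by_contra hcon
  push Not at hcon
  exact h (dvd_card_of_forall_orbit (P := P) n hcon)

/-- The order of a `p`-subgroup of `K` divides the order of a Sylow `p`-subgroup of `K`. -/
theorem card_dvd_card_sylow {K : Type*} [Group K] [Finite K] (p : ℕ) [Fact p.Prime]
    (S : Sylow p K) (Q : Subgroup K) (hQ : IsPGroup p Q) : Nat.card Q ∣ Nat.card S := by
  obtain ⟨n, hn⟩ := IsPGroup.iff_card.mp hQ
  rw [hn]
  apply Sylow.pow_dvd_card_of_pow_dvd_card
  rw [← hn]
  exact Subgroup.card_subgroup_dvd_card Q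

end Cfsg.Agent.Blocks.OrbitCount
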