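import Mathlib
import Cfsg.Prelude.Def_Blocks
import Cfsg.Agent.Blocks.Local
import Cfsg.Agent.Blocks.Basic
import Cfsg.Agent.Blocks.AvgTrace
import Cfsg.Agent.Blocks.SepCentral
import Cfsg.Agent.Characters.Core
import Cfsg.Agent.CharactersDeep.ModCongr
import Cfsg.Agent.TwoFusion.PResidual
import Cfsg.Agent.S0145
set_option linter.all false

/-!
# Blocks of full defect

The matrix `χ(y) / χ(1)` modulo `M`, with `χ` running over characters of degree prime to `p`
(one for each block) and `y` over the `p`-regular classes centralized by a Sylow `p`-subgroup, has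
linearly independent rows (`linearIndependent_rows`, from Osima's theorem) and linearly independent
columns (`linearIndependent_cols`, from column orthogonality).
-/

set_option autoImplicit false

namespace Cfsg.Agent.Blocks.FullDefect

open Cfsg
open scoped ComplexConjugate
open Cfsg.Agent.Blocks.Local Cfsg.Agent.Blocks.Basic

variable {G : Type*} [Group G]

/-- The block idempotent has central character value one on the block and zero off it. -/
theorem lin_blockCoeff [Fintype G] (A : Set (IrrCharacter G)) (ξ : IrrCharacter G)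
    [Decidable (ξ ∈ A)] :
    Cfsg.Agent.Blocks.ConvCentral.lin (ξ : G → ℂ) (blockCoeff A) / (ξ : G → ℂ) 1 =
      if ξ ∈ A then 1 else 0 := by
  classical
  have hfin : Finite (IrrCharacter G) := Cfsg.Agent.Characters.Core.finite_irr
  have h1 := irr_one_ne_zero ξ.2
  have key : ∀ χ : IrrCharacter G, (Nat.card G : ℂ)⁻¹ *
      ∑ g : G, (χ : G → ℂ) 1 * conj ((χ : G → ℂ) g) * ((ξ : G → ℂ) g / (ξ : G → ℂ) 1) =
      if ξ = χ then 1 else 0 := by
    intro χ
    have h2 := Cfsg.Agent.Characters.Core.classInner_irr ξ.2 χ.2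
    have h3 : (Nat.card G : ℂ)⁻¹ *
      ∑ g : G, (χ : G → ℂ) 1 * conj ((χ : G → ℂ) g) * ((ξ : G → ℂ) g / (ξ : G → ℂ) 1) =
      ((χ : G → ℂ) 1 / (ξ : G → ℂ) 1) * classInner (ξ : G → ℂ) (χ : G → ℂ) := by
      rw [classInner_def, Finset.mul_sum, Finset.mul_sum, Finset.mul_sum]
      refine Finset.sum_congr rfl fun g _ => ?_
      ring
    rw [h3, h2]
    by_cases h : ξ = χ
    · subst h
      simp [h1]
    · have h' : ¬ ((ξ : G → ℂ) = (χ : G → ℂ)) := fun hh => h (Subtype.ext hh)
      simp [h, h']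
  set s := (Set.toFinite A).toFinset with hs
  have e1 : ∀ g : G, ∑ᶠ χ ∈ A, (χ : G → ℂ) 1 * conj ((χ : G → ℂ) g) =
      ∑ χ ∈ s, (χ : G → ℂ) 1 * conj ((χ : G → ℂ) g) := by
    intro g
    rw [finsum_mem_eq_finite_toFinset_sum _ (Set.toFinite A)]
  rw [Cfsg.Agent.Blocks.ConvCentral.lin_def]
  simp_rw [blockCoeff_def, e1]
  calc (∑ g : G, ((Nat.card G : ℂ)⁻¹ * ∑ χ ∈ s, (χ : G → ℂ) 1 * conj ((χ : G → ℂ) g)) *
          (ξ : G → ℂ) g) / (ξ : G → ℂ) 1
      = ∑ g : G, ∑ χ ∈ s, (Nat.card G : ℂ)⁻¹ * ((χ : G → ℂ) 1 * conj ((χ : G → ℂ) g) *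
          ((ξ : G → ℂ) g / (ξ : G → ℂ) 1)) := by
        rw [Finset.sum_div]
        refine Finset.sum_congr rfl fun g _ => ?_
        rw [Finset.mul_sum, Finset.sum_mul, Finset.sum_div]
        refine Finset.sum_congr rfl fun χ _ => ?_
        ring
    _ = ∑ χ ∈ s, (Nat.card G : ℂ)⁻¹ * ∑ g : G, (χ : G → ℂ) 1 * conj ((χ : G → ℂ) g) *
          ((ξ : G → ℂ) g / (ξ : G → ℂ) 1) := by
        rw [Finset.sum_comm]
        refine Finset.sum_congr rfl fun χ _ => ?_
        rw [Finset.mul_sum]
    _ = ∑ χ ∈ s, if ξ = χ then (1 : ℂ) else 0 := Finset.sum_congr rfl fun χ _ => key χ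
    _ = if ξ ∈ A then 1 else 0 := by
        rw [Finset.sum_ite_eq]
        simp [hs]

/-- If `p` does not divide the class size of `g`, a conjugate of `g` is centralized by `P`. -/
theorem exists_conj_mem_centralizer [Finite G] {p : ℕ} [Fact p.Prime] (P : Sylow p G) {g : G}
    (hg : ¬ p ∣ (Subgroup.centralizer ({g} : Set G)).index) :
    ∃ x : G, x * g * x⁻¹ ∈ Subgroup.centralizer (P : Set G) := by
  have h1 : ¬ p ∣ Nat.card (G ⧸ Subgroup.centralizer ({g} : Set G)) := hg
  obtain ⟨q, hq⟩ := P.2.nonempty_fixed_point_of_prime_not_dvd_card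
    (G ⧸ Subgroup.centralizer ({g} : Set G)) h1
  induction q using QuotientGroup.induction_on with
  | H x =>
    refine ⟨x, ?_⟩
    rw [Subgroup.mem_centralizer_iff]
    intro u hu
    have h2 := hq ⟨u, hu⟩
    have h3 : (QuotientGroup.mk (u * x) : G ⧸ Subgroup.centralizer ({g} : Set G)) =
        QuotientGroup.mk x := h2
    rw [eq_comm, QuotientGroup.eq, Subgroup.mem_centralizer_singleton_iff] at h3
    have h4 : x * (x⁻¹ * (u * x) * g) * x⁻¹ = x * (g * (x⁻¹ * (u * x))) * x⁻¹ := by rw [h3]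
    calc u * (x * g * x⁻¹) = x * (x⁻¹ * (u * x) * g) * x⁻¹ := by group
      _ = x * (g * (x⁻¹ * (u * x))) * x⁻¹ := h4
      _ = x * g * x⁻¹ * u := by group

/-- An element centralizing the Sylow subgroup `P` has class size prime to `p`. -/
theorem not_dvd_index [Finite G] {p : ℕ} [Fact p.Prime] (P : Sylow p G) {g : G}
    (hg : g ∈ Subgroup.centralizer (P : Set G)) :
    ¬ p ∣ (Subgroup.centralizer ({g} : Set G)).index := by
  have h1 : (P : Subgroup G) ≤ Subgroup.centralizer ({g} : Set G) := by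
    intro u hu
    rw [Subgroup.mem_centralizer_singleton_iff]
    exact Subgroup.mem_centralizer_iff.1 hg u hu
  intro h
  exact P.not_dvd_index (h.trans (Subgroup.index_dvd_of_le h1))

theorem isSylowCentralizer_of_mem [Finite G] {p : ℕ} [Fact p.Prime] (P : Sylow p G) {g : G}
    (hg : g ∈ Subgroup.centralizer (P : Set G)) : IsSylowCentralizer p g (P : Subgroup G) := by
  rw [isSylowCentralizer_iff]
  refine ⟨P.2, ?_, fun Q hQ _ hPQ => P.3 hQ hPQ⟩
  intro u hu
  rw [Subgroup.mem_centralizer_singleton_iff]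
  exact Subgroup.mem_centralizer_iff.1 hg u hu

/-- Every class of size prime to `p` has a `p`-regular companion centralized by `P` with the same
character values modulo `M`. -/
theorem exists_regular_congr [Finite G] {p : ℕ} [Fact p.Prime] {M : Ideal AlgInt}
    (hM : IsPModular p M) (P : Sylow p G) {g : G}
    (hg : ¬ p ∣ (Subgroup.centralizer ({g} : Set G)).index) :
    ∃ y ∈ Subgroup.centralizer (P : Set G), ¬ p ∣ orderOf y ∧
      ∀ χ : IrrCharacter G, MemLocalIdeal M ((χ : G → ℂ) g - (χ : G → ℂ) y) := by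
  obtain ⟨x, hx⟩ := exists_conj_mem_centralizer P hg
  obtain ⟨a, b, hab, ⟨k, hk⟩, hb⟩ :=
    Cfsg.Agent.TwoFusion.PResidual.exists_pPart_mul_pPrimePart p (x * g * x⁻¹)
  have hb' : ¬ p ∣ orderOf ((x * g * x⁻¹) ^ b) :=
    (Nat.Prime.coprime_iff_not_dvd Fact.out).1 hb.symm
  refine ⟨(x * g * x⁻¹) ^ b, Subgroup.zpow_mem _ hx b, hb', fun χ => ?_⟩
  have h1 : IsPPart p (x * g * x⁻¹) ((x * g * x⁻¹) ^ a) :=
    ⟨(x * g * x⁻¹) ^ b, hab.symm, (Commute.refl _).zpow_zpow a b, ⟨k, hk⟩, hb'⟩
  have h2 := Cfsg.Agent.CharactersDeep.ModCongr.memLocalIdeal_character_sub hM χ.2 _ _ h1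
  have h3 : ((x * g * x⁻¹) ^ a)⁻¹ * (x * g * x⁻¹) = (x * g * x⁻¹) ^ b := by
    rw [inv_mul_eq_iff_eq_mul]
    exact hab
  rwa [h3, irr_conj χ.2] at h2

theorem memLocalRing_irr [Finite G] {M : Ideal AlgInt} [M.IsPrime] (χ : IrrCharacter G) (g : G) :
    MemLocalRing M ((χ : G → ℂ) g) :=
  memLocalRing_of_isIntegral (Cfsg.Agent.CharactersDeep.ModCongr.isIntegral_irr χ.2 g)

theorem memLocalRing_inv_one {p : ℕ} {M : Ideal AlgInt} (hM : IsPModular p M)
    (χ : IrrCharacter G) (hχ : ¬ p ∣ charDegree (χ : G → ℂ)) :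
    MemLocalRing M ((χ : G → ℂ) 1)⁻¹ := by
  rw [irr_one_eq_charDegree χ.2]
  exact memLocalRing_inv_natCast hM hχ

theorem memLocalRing_div_one [Finite G] {p : ℕ} {M : Ideal AlgInt} (hM : IsPModular p M)
    (χ : IrrCharacter G) (hχ : ¬ p ∣ charDegree (χ : G → ℂ)) (g : G) :
    MemLocalRing M ((χ : G → ℂ) g / (χ : G → ℂ) 1) := by
  have := isPrime_of_isPModular hM
  rw [div_eq_mul_inv]
  exact memLocalRing_mul (memLocalRing_irr χ g) (memLocalRing_inv_one hM χ hχ)

/-- A lift of a residue class to the local ring, as a complex number. -/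
theorem exists_lift {M : Ideal AlgInt} [M.IsPrime] (x : ResField M) :
    ∃ z : ℂ, MemLocalRing M z ∧ redC M z = x := by
  obtain ⟨⟨z, hz⟩, rfl⟩ := red_surjective x
  exact ⟨z, hz, redC_def hz⟩

/-- Rows: characters of degree prime to `p` in different blocks. -/
theorem linearIndependent_rows [Finite G] {p : ℕ} [Fact p.Prime] {M : Ideal AlgInt}
    [M.IsPrime] (hM : IsPModular p M) (P : Sylow p G)
    (hOsima : ∀ (B : Set (IrrCharacter G)), IsPBlock M B → ∀ g, MemLocalRing M (blockCoeff B g))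
    {ι κ : Type*} [Fintype ι] (χ : ι → IrrCharacter G)
    (hdeg : ∀ i, ¬ p ∣ charDegree (χ i : G → ℂ))
    (hinj : ∀ i j, SameBlock M (χ i : G → ℂ) (χ j : G → ℂ) → i = j) (n : κ → G)
    (hn : ∀ y ∈ Subgroup.centralizer (P : Set G), ¬ p ∣ orderOf y → ∃ k, IsConj y (n k)) :
    LinearIndependent (ResField M)
      (fun (i : ι) (k : κ) => redC M ((χ i : G → ℂ) (n k) / (χ i : G → ℂ) 1)) := by
  classical
  have : Fintype G := Fintype.ofFinite G
  rw [Fintype.linearIndependent_iff]
  intro c hc i₀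
  choose δ hδ hδc using fun i => exists_lift (c i)
  -- the combination vanishes modulo `M` at each representative
  have h1 : ∀ k, MemLocalIdeal M (∑ i, δ i * ((χ i : G → ℂ) (n k) / (χ i : G → ℂ) 1)) := by
    intro k
    have h2 := congrFun hc k
    rw [Finset.sum_apply] at h2
    rw [← redC_eq_zero_iff (memLocalRing_sum fun i _ =>
      memLocalRing_mul (hδ i) (memLocalRing_div_one hM (χ i) (hdeg i) _)),
      redC_sum (fun i _ => memLocalRing_mul (hδ i) (memLocalRing_div_one hM (χ i) (hdeg i) _))]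
    rw [Pi.zero_apply] at h2
    rw [← h2]
    refine Finset.sum_congr rfl fun i _ => ?_
    rw [redC_mul (hδ i) (memLocalRing_div_one hM (χ i) (hdeg i) _), hδc i]
    rfl
  -- hence the combination of the central characters vanishes modulo `M` everywhere
  have h2 : ∀ g : G, MemLocalIdeal M (∑ i, δ i * centralChar (χ i : G → ℂ) g) := by
    intro g
    have h3 : ∑ i, δ i * centralChar (χ i : G → ℂ) g =
        ((Subgroup.centralizer ({g} : Set G)).index : ℂ) *
          ∑ i, δ i * ((χ i : G → ℂ) g / (χ i : G → ℂ) 1) := by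
      rw [Finset.mul_sum]
      refine Finset.sum_congr rfl fun i _ => ?_
      rw [centralChar_def]
      ring
    rw [h3]
    by_cases hg : p ∣ (Subgroup.centralizer ({g} : Set G)).index
    · exact memLocalIdeal_mul_right ((memLocalIdeal_natCast_iff hM _).2 hg)
        (memLocalRing_sum fun i _ =>
          memLocalRing_mul (hδ i) (memLocalRing_div_one hM (χ i) (hdeg i) _))
    · refine memLocalIdeal_mul_left (memLocalRing_natCast _) ?_
      obtain ⟨y, hy, hyp, hyχ⟩ := exists_regular_congr hM P hg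
      obtain ⟨k, hk⟩ := hn y hy hyp
      have h4 : MemLocalIdeal M (∑ i, δ i * ((χ i : G → ℂ) g / (χ i : G → ℂ) 1) -
          ∑ i, δ i * ((χ i : G → ℂ) (n k) / (χ i : G → ℂ) 1)) := by
        rw [← Finset.sum_sub_distrib]
        refine memLocalIdeal_sum fun i _ => ?_
        have h5 : δ i * ((χ i : G → ℂ) g / (χ i : G → ℂ) 1) -
            δ i * ((χ i : G → ℂ) (n k) / (χ i : G → ℂ) 1) =
            (δ i * ((χ i : G → ℂ) 1)⁻¹) * ((χ i : G → ℂ) g - (χ i : G → ℂ) y) := by
          rw [irr_isConj (χ i).2 hk]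
          ring
        rw [h5]
        exact memLocalIdeal_mul_left
          (memLocalRing_mul (hδ i) (memLocalRing_inv_one hM (χ i) (hdeg i))) (hyχ (χ i))
      exact (memLocalIdeal_iff_of_sub h4).2 (h1 k)
  -- evaluate at the block idempotent
  obtain ⟨s, hs⟩ := Cfsg.Agent.Blocks.SepCentral.exists_reps G
  set B := blockOf M (χ i₀ : G → ℂ) with hB
  have hBcl : IsClassFunction G (blockCoeff B) := fun g h =>
    (blockCoeff_isConj B (isConj_iff.2 ⟨h, rfl⟩)).symm
  have h3 : ∀ i, ∑ g ∈ s, blockCoeff B g * centralChar (χ i : G → ℂ) g =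
      if i = i₀ then 1 else 0 := by
    intro i
    rw [← hs _ _ (irr_isClassFunction (χ i).2) hBcl, lin_blockCoeff]
    by_cases hi : i = i₀
    · subst hi
      rw [if_pos (mem_blockOf_self _), if_pos rfl]
    · rw [if_neg hi, if_neg]
      intro hmem
      exact hi (hinj i₀ i hmem).symm
  have h4 : ∑ g ∈ s, blockCoeff B g * ∑ i, δ i * centralChar (χ i : G → ℂ) g = δ i₀ := by
    calc ∑ g ∈ s, blockCoeff B g * ∑ i, δ i * centralChar (χ i : G → ℂ) g
        = ∑ i, δ i * ∑ g ∈ s, blockCoeff B g * centralChar (χ i : G → ℂ) g := by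
          simp_rw [Finset.mul_sum]
          rw [Finset.sum_comm]
          refine Finset.sum_congr rfl fun i _ => Finset.sum_congr rfl fun g _ => ?_
          ring
      _ = δ i₀ := by
          simp_rw [h3]
          simp
  have h5 : MemLocalIdeal M (δ i₀) := by
    rw [← h4]
    exact memLocalIdeal_sum fun g _ =>
      memLocalIdeal_mul_left (hOsima B (isPBlock_blockOf _) g) (h2 g)
  rw [← hδc i₀, redC_eq_zero_iff (hδ i₀)]
  exact h5

/-- Columns: `p`-regular elements centralized by `P` in different classes. -/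
theorem linearIndependent_cols [Finite G] {p : ℕ} [Fact p.Prime] {M : Ideal AlgInt}
    [M.IsPrime] (hM : IsPModular p M) (P : Sylow p G)
    {ι κ : Type*} [Fintype κ] (χ : ι → IrrCharacter G)
    (hdeg : ∀ i, ¬ p ∣ charDegree (χ i : G → ℂ))
    (hsurj : ∀ ψ : IrrCharacter G, ¬ p ∣ charDegree (ψ : G → ℂ) →
      ∃ i, SameBlock M (ψ : G → ℂ) (χ i : G → ℂ)) (n : κ → G)
    (hn : ∀ k, n k ∈ Subgroup.centralizer (P : Set G)) (hreg : ∀ k, ¬ p ∣ orderOf (n k))
    (hinj : ∀ k l, IsConj (n k) (n l) → k = l) :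
    LinearIndependent (ResField M)
      (fun (k : κ) (i : ι) => redC M ((χ i : G → ℂ) (n k) / (χ i : G → ℂ) 1)) := by
  classical
  have : Fintype G := Fintype.ofFinite G
  have : Finite (IrrCharacter G) := Cfsg.Agent.Characters.Core.finite_irr
  have : Fintype (IrrCharacter G) := Fintype.ofFinite _
  rw [Fintype.linearIndependent_iff]
  intro c hc k₀
  choose γ hγ hγc using fun k => exists_lift (c k)
  have h1 : ∀ i, MemLocalIdeal M (∑ k, γ k * ((χ i : G → ℂ) (n k) / (χ i : G → ℂ) 1)) := by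
    intro i
    have h2 := congrFun hc i
    rw [Finset.sum_apply, Pi.zero_apply] at h2
    rw [← redC_eq_zero_iff (memLocalRing_sum fun k _ =>
      memLocalRing_mul (hγ k) (memLocalRing_div_one hM (χ i) (hdeg i) _)),
      redC_sum (fun k _ => memLocalRing_mul (hγ k) (memLocalRing_div_one hM (χ i) (hdeg i) _)),
      ← h2]
    refine Finset.sum_congr rfl fun k _ => ?_
    rw [redC_mul (hγ k) (memLocalRing_div_one hM (χ i) (hdeg i) _), hγc k]
    rfl
  -- the class sizes of the `n k` are units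
  have hidx : ∀ k, MemLocalRing M (((Subgroup.centralizer ({n k} : Set G)).index : ℂ)⁻¹) :=
    fun k => memLocalRing_inv_natCast hM (not_dvd_index P (hn k))
  have hidx0 : ∀ k, ((Subgroup.centralizer ({n k} : Set G)).index : ℂ) ≠ 0 := by
    intro k h
    have h2 : (Subgroup.centralizer ({n k} : Set G)).index = 0 := by exact_mod_cast h
    exact not_dvd_index P (hn k) (h2 ▸ dvd_zero p)
  -- the combination vanishes modulo `M` for every irreducible character
  have h2 : ∀ ψ : IrrCharacter G, MemLocalIdeal M (∑ k, γ k * (ψ : G → ℂ) (n k)) := by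
    intro ψ
    have hψ0 := irr_one_ne_zero ψ.2
    by_cases hψ : p ∣ charDegree (ψ : G → ℂ)
    · refine memLocalIdeal_sum fun k _ => ?_
      have h3 : γ k * (ψ : G → ℂ) (n k) = (γ k *
          (((Subgroup.centralizer ({n k} : Set G)).index : ℂ)⁻¹ *
            centralChar (ψ : G → ℂ) (n k))) * (ψ : G → ℂ) 1 := by
        rw [centralChar_def]
        field_simp [hidx0 k]
      rw [h3]
      refine memLocalIdeal_mul_left (memLocalRing_mul (hγ k) (memLocalRing_mul (hidx k)
        (memLocalRing_of_isIntegral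
          (Cfsg.Agent.Blocks.ConvCentral.isIntegral_centralChar ψ.2 _)))) ?_
      rw [irr_one_eq_charDegree ψ.2]
      exact (memLocalIdeal_natCast_iff hM _).2 hψ
    · obtain ⟨i, hi⟩ := hsurj ψ hψ
      have hχ0 := irr_one_ne_zero (χ i).2
      have h3 : MemLocalIdeal M (∑ k, γ k * ((ψ : G → ℂ) (n k) / (ψ : G → ℂ) 1) -
          ∑ k, γ k * ((χ i : G → ℂ) (n k) / (χ i : G → ℂ) 1)) := by
        rw [← Finset.sum_sub_distrib]
        refine memLocalIdeal_sum fun k _ => ?_
        have h4 : γ k * ((ψ : G → ℂ) (n k) / (ψ : G → ℂ) 1) -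
            γ k * ((χ i : G → ℂ) (n k) / (χ i : G → ℂ) 1) =
            (γ k * ((Subgroup.centralizer ({n k} : Set G)).index : ℂ)⁻¹) *
              (centralChar (ψ : G → ℂ) (n k) - centralChar (χ i : G → ℂ) (n k)) := by
          rw [centralChar_def, centralChar_def]
          field_simp [hidx0 k]
        rw [h4]
        exact memLocalIdeal_mul_left (memLocalRing_mul (hγ k) (hidx k)) (hi (n k))
      have h5 := (memLocalIdeal_iff_of_sub h3).2 (h1 i)
      have h6 : ∑ k, γ k * (ψ : G → ℂ) (n k) =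
          (ψ : G → ℂ) 1 * ∑ k, γ k * ((ψ : G → ℂ) (n k) / (ψ : G → ℂ) 1) := by
        rw [Finset.mul_sum]
        refine Finset.sum_congr rfl fun k _ => ?_
        field_simp
      rw [h6]
      exact memLocalIdeal_mul_left (memLocalRing_irr ψ 1) h5
  -- pair with the averaged column over `n k₀ * P`
  have : Fintype (P : Subgroup G) := Fintype.ofFinite _
  let s : IrrCharacter G → ℂ := fun ψ =>
    (Nat.card P : ℂ)⁻¹ * ∑ u : (P : Subgroup G), conj ((ψ : G → ℂ) (n k₀ * (u : G)))
  have hs : ∀ ψ, MemLocalRing M (s ψ) := by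
    intro ψ
    apply memLocalRing_of_isIntegral
    have h3 : s ψ = (Nat.card P : ℂ)⁻¹ * ∑ u : (P : Subgroup G), (fun g => conj ((ψ : G → ℂ) g)) (n k₀ * (u : G)) :=
      rfl
    rw [h3]
    refine Cfsg.Agent.Blocks.AvgTrace.isIntegral_avg
      (Cfsg.Agent.Characters.Core.isCharacter_conj
        (Cfsg.Agent.Characters.Core.isIrr_isCharacter ψ.2)) (P : Subgroup G) (n k₀) ?_
    intro u hu
    exact ((Subgroup.mem_centralizer_iff.1 (hn k₀)) u hu).symm
  have h3 : ∀ k, ∑ ψ : IrrCharacter G, s ψ * (ψ : G → ℂ) (n k) =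
      if k = k₀ then (Nat.card P : ℂ)⁻¹ *
        (Nat.card (Subgroup.centralizer ({n k₀} : Set G)) : ℂ) else 0 := by
    intro k
    have h4 : ∑ ψ : IrrCharacter G, s ψ * (ψ : G → ℂ) (n k) = (Nat.card P : ℂ)⁻¹ *
        ∑ u : (P : Subgroup G), ∑ ψ : IrrCharacter G, (ψ : G → ℂ) (n k) *
          conj ((ψ : G → ℂ) (n k₀ * (u : G))) := by
      rw [Finset.sum_comm, Finset.mul_sum]
      refine Finset.sum_congr rfl fun ψ _ => ?_
      simp only [s]
      rw [← Finset.mul_sum]
      ring
    rw [h4]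
    simp_rw [Cfsg.Agent.S0145.sum_irr_mul_conj]
    have h5 : ∀ u : (P : Subgroup G), IsConj (n k) (n k₀ * (u : G)) ↔ (k = k₀ ∧ u = 1) := by
      intro u
      constructor
      · intro h
        have hcomm : Commute (n k₀) (u : G) :=
          ((Subgroup.mem_centralizer_iff.1 (hn k₀)) u u.2).symm
        -- the order of `n k₀ * u` is prime to `p`
        have ho : ¬ p ∣ orderOf (n k₀ * (u : G)) := by
          obtain ⟨x, hx⟩ := isConj_iff.1 h
          have : orderOf (n k₀ * (u : G)) = orderOf (n k) := by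
            rw [← hx]
            have := orderOf_injective (MulAut.conj x).toMonoidHom (MulAut.conj x).injective (n k)
            simpa using this
          rw [this]
          exact hreg k
        obtain ⟨j, hj⟩ := (IsPGroup.iff_orderOf.1 P.2) u
        have hj' : orderOf (u : G) = p ^ j := by rw [← hj, Subgroup.orderOf_coe]
        have hu : (u : G) = 1 := by
          -- `u ^ m` with `m = orderOf (n k₀)` ...
          set N := orderOf (n k₀) * orderOf (n k₀ * (u : G)) with hN
          have h6 : (n k₀ * (u : G)) ^ N = 1 := by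
            rw [hN, mul_comm, pow_mul, pow_orderOf_eq_one, one_pow]
          rw [hcomm.mul_pow, hN, pow_mul (n k₀), pow_orderOf_eq_one, one_pow, one_mul] at h6
          have h7 := orderOf_dvd_of_pow_eq_one h6
          rw [hj'] at h7
          have h8 : Nat.Coprime (p ^ j) (orderOf (n k₀) * orderOf (n k₀ * (u : G))) :=
            Nat.Coprime.pow_left j (Nat.Coprime.mul_right
              ((Nat.Prime.coprime_iff_not_dvd Fact.out).2 (hreg k₀))
              ((Nat.Prime.coprime_iff_not_dvd Fact.out).2 ho))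
          have h9 : p ^ j = 1 := Nat.Coprime.eq_one_of_dvd h8 h7
          rw [h9] at hj'
          exact orderOf_eq_one_iff.1 hj'
        rw [hu, mul_one] at h
        exact ⟨hinj _ _ h, Subtype.ext hu⟩
      · rintro ⟨rfl, rfl⟩
        rw [Subgroup.coe_one, mul_one]
    by_cases hk : k = k₀
    · subst hk
      rw [if_pos rfl]
      congr 1
      rw [Finset.sum_eq_single (1 : (P : Subgroup G))]
      · rw [if_pos ((h5 1).2 ⟨rfl, rfl⟩)]
        simp
      · intro u _ hu
        rw [if_neg]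
        exact fun h => hu ((h5 u).1 h).2
      · intro h
        exact absurd (Finset.mem_univ _) h
    · rw [if_neg hk]
      have : ∀ u : (P : Subgroup G), (if IsConj (n k) (n k₀ * (u : G)) then
          (Nat.card (Subgroup.centralizer ({n k₀ * (u : G)} : Set G)) : ℂ) else 0) = 0 := by
        intro u
        rw [if_neg]
        exact fun h => hk ((h5 u).1 h).1
      rw [Finset.sum_congr rfl fun u _ => this u, Finset.sum_const_zero, mul_zero]
  have h4 : ∑ ψ : IrrCharacter G, s ψ * ∑ k, γ k * (ψ : G → ℂ) (n k) =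
      γ k₀ * ((Nat.card P : ℂ)⁻¹ *
        (Nat.card (Subgroup.centralizer ({n k₀} : Set G)) : ℂ)) := by
    calc ∑ ψ : IrrCharacter G, s ψ * ∑ k, γ k * (ψ : G → ℂ) (n k)
        = ∑ k, γ k * ∑ ψ : IrrCharacter G, s ψ * (ψ : G → ℂ) (n k) := by
          simp_rw [Finset.mul_sum]
          rw [Finset.sum_comm]
          refine Finset.sum_congr rfl fun k _ => Finset.sum_congr rfl fun ψ _ => ?_
          ring
      _ = _ := by
          simp_rw [h3]
          simp
  have h5 : MemLocalIdeal M (γ k₀ * ((Nat.card P : ℂ)⁻¹ *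
        (Nat.card (Subgroup.centralizer ({n k₀} : Set G)) : ℂ))) := by
    rw [← h4]
    exact memLocalIdeal_sum fun ψ _ => memLocalIdeal_mul_left (hs ψ) (h2 ψ)
  -- `|C(n k₀)| / |P|` is an integer prime to `p`
  have hle : (P : Subgroup G) ≤ Subgroup.centralizer ({n k₀} : Set G) := by
    intro u hu
    rw [Subgroup.mem_centralizer_singleton_iff]
    exact Subgroup.mem_centralizer_iff.1 (hn k₀) u hu
  obtain ⟨m, hm⟩ := Subgroup.card_dvd_of_le hle
  have hPc : (Nat.card P : ℂ) ≠ 0 := by exact_mod_cast Nat.card_pos.ne'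
  have h6 : (Nat.card P : ℂ)⁻¹ * (Nat.card (Subgroup.centralizer ({n k₀} : Set G)) : ℂ) = m := by
    rw [hm, Nat.cast_mul, inv_mul_cancel_left₀ hPc]
  have h7 : ¬ p ∣ m := by
    intro h
    apply P.not_dvd_index
    have h8 : Nat.card P * (P : Subgroup G).index = Nat.card G := Subgroup.card_mul_index _
    have h9 : Nat.card P * m ∣ Nat.card G := hm ▸ Subgroup.card_subgroup_dvd_card _
    rw [← h8] at h9
    exact h.trans (Nat.dvd_of_mul_dvd_mul_left Nat.card_pos h9)
  rw [h6] at h5
  have h8 : MemLocalIdeal M (γ k₀) := by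
    have hm0 : (m : ℂ) ≠ 0 := by
      intro h
      have : m = 0 := by exact_mod_cast h
      exact h7 (this ▸ dvd_zero p)
    have : γ k₀ = (γ k₀ * m) * (m : ℂ)⁻¹ := by field_simp
    rw [this]
    exact memLocalIdeal_mul_right h5 (memLocalRing_inv_natCast hM h7)
  rw [← hγc k₀, redC_eq_zero_iff (hγ k₀)]
  exact h8

end Cfsg.Agent.Blocks.FullDefect
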