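import Mathlib
set_option linter.all false

/-!
# Group theory of a Sylow subgroup of prime order

`u z : ZMod p → G` is `m ↦ z ^ m.val`; `fuse z` is the subgroup of all `h : (ZMod p)ˣ` with `z`
conjugate to `z ^ h` in `G`. Its order is `|N(P) : C(P)|` for `P = ⟨z⟩`.
-/

set_option autoImplicit false

namespace Cfsg.Agent.Blocks.CyclicGroup

variable {G : Type*} [Group G] {p : ℕ} [hp : Fact p.Prime]

/-- The powers of `z` indexed by `ZMod p`. -/
def u (z : G) (m : ZMod p) : G := z ^ m.val

omit hp in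
theorem u_eq (z : G) (m : ZMod p) : u z m = z ^ m.val := rfl

variable {z : G}

theorem u_natCast (hz : orderOf z = p) (n : ℕ) : u z (n : ZMod p) = z ^ n := by
  unfold u
  rw [ZMod.val_natCast, ← hz, pow_mod_orderOf]

theorem u_add (hz : orderOf z = p) (a b : ZMod p) : u z (a + b) = u z a * u z b := by
  have ha : ((a.val : ℕ) : ZMod p) = a := ZMod.natCast_zmod_val a
  have hb : ((b.val : ℕ) : ZMod p) = b := ZMod.natCast_zmod_val b
  rw [← ha, ← hb, ← Nat.cast_add, u_natCast hz, u_natCast hz, u_natCast hz, pow_add]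

theorem u_mul (hz : orderOf z = p) (a b : ZMod p) : u z (a * b) = (u z a) ^ b.val := by
  have ha : ((a.val : ℕ) : ZMod p) = a := ZMod.natCast_zmod_val a
  have hb : ((b.val : ℕ) : ZMod p) = b := ZMod.natCast_zmod_val b
  conv_lhs => rw [← ha, ← hb]
  rw [← Nat.cast_mul, u_natCast hz, pow_mul]
  rfl

theorem u_zero : u z (0 : ZMod p) = 1 := by
  unfold u
  rw [ZMod.val_zero, pow_zero]

theorem u_one (hz : orderOf z = p) : u z (1 : ZMod p) = z := by
  have := u_natCast hz 1
  rwa [Nat.cast_one, pow_one] at this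

theorem u_injective (hz : orderOf z = p) : Function.Injective (u z : ZMod p → G) := by
  intro a b h
  have h1 : a.val ≡ b.val [MOD p] := by
    have h0 := pow_eq_pow_iff_modEq.1 h
    rwa [hz] at h0
  have h2 := (ZMod.natCast_eq_natCast_iff _ _ _).2 h1
  rwa [ZMod.natCast_zmod_val, ZMod.natCast_zmod_val] at h2

theorem u_eq_one_iff (hz : orderOf z = p) {a : ZMod p} : u z a = 1 ↔ a = 0 := by
  rw [← u_zero (p := p) (z := z)]
  exact (u_injective hz).eq_iff

theorem isConj_u_mul (hz : orderOf z = p) {a b : ZMod p} (h : IsConj (u z a) (u z b))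
    (c : ZMod p) : IsConj (u z (a * c)) (u z (b * c)) := by
  rw [u_mul hz, u_mul hz]
  exact h.pow _

/-- The fusion subgroup. -/
def fuse (z : G) (hz : orderOf z = p) : Subgroup (ZMod p)ˣ where
  carrier := {h | IsConj z (u z (h : ZMod p))}
  one_mem' := by
    show IsConj z (u z ((1 : (ZMod p)ˣ) : ZMod p))
    rw [Units.val_one, u_one hz]
  mul_mem' := by
    intro a b ha hb
    show IsConj z (u z ((a * b : (ZMod p)ˣ) : ZMod p))
    have h1 : IsConj (u z (1 : ZMod p)) (u z (a : ZMod p)) := by rw [u_one hz]; exact ha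
    have h2 := isConj_u_mul hz h1 (b : ZMod p)
    rw [one_mul] at h2
    rw [Units.val_mul]
    exact hb.trans h2
  inv_mem' := by
    intro a ha
    show IsConj z (u z ((a⁻¹ : (ZMod p)ˣ) : ZMod p))
    have h1 : IsConj (u z (1 : ZMod p)) (u z (a : ZMod p)) := by rw [u_one hz]; exact ha
    have h2 := isConj_u_mul hz h1 ((a⁻¹ : (ZMod p)ˣ) : ZMod p)
    rw [one_mul, Units.mul_inv, u_one hz] at h2
    exact h2.symm

theorem mem_fuse (hz : orderOf z = p) {h : (ZMod p)ˣ} :
    h ∈ fuse z hz ↔ IsConj z (u z (h : ZMod p)) := Iff.rfl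

theorem isConj_u_iff (hz : orderOf z = p) {m n : ZMod p} (hm : m ≠ 0) (hn : n ≠ 0) :
    IsConj (u z m) (u z n) ↔ ∃ h ∈ fuse z hz, n = (h : ZMod p) * m := by
  constructor
  · intro h
    have h1 := isConj_u_mul hz h m⁻¹
    rw [mul_inv_cancel₀ hm, u_one hz] at h1
    refine ⟨Units.mk0 (n * m⁻¹) (mul_ne_zero hn (inv_ne_zero hm)), ?_, ?_⟩
    · rw [mem_fuse]
      exact h1
    · rw [Units.val_mk0, mul_assoc, inv_mul_cancel₀ hm, mul_one]
  · rintro ⟨h, hh, rfl⟩
    rw [mem_fuse] at hh
    have h1 : IsConj (u z (1 : ZMod p)) (u z (h : ZMod p)) := by rw [u_one hz]; exact hh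
    have h2 := isConj_u_mul hz h1 m
    rwa [one_mul] at h2

theorem exists_u_of_mem (hz : orderOf z = p) {x : G} (hx : x ∈ Subgroup.zpowers z) :
    ∃ m : ZMod p, u z m = x := by
  have hfin : IsOfFinOrder z := by
    rw [← orderOf_pos_iff, hz]
    exact hp.out.pos
  obtain ⟨n, hn⟩ := (hfin.mem_powers_iff_mem_zpowers.2 hx)
  exact ⟨(n : ZMod p), by rw [u_natCast hz]; exact hn⟩

omit hp in
theorem u_mem (z : G) (m : ZMod p) : u z m ∈ Subgroup.zpowers z :=
  Subgroup.pow_mem _ (Subgroup.mem_zpowers z) _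

theorem zpowers_u (hz : orderOf z = p) {m : ZMod p} (hm : m ≠ 0) :
    Subgroup.zpowers (u z m) = Subgroup.zpowers z := by
  apply le_antisymm
  · rw [Subgroup.zpowers_le]
    exact u_mem z m
  · rw [Subgroup.zpowers_le]
    have h1 : u z (m * m⁻¹) = z := by rw [mul_inv_cancel₀ hm, u_one hz]
    rw [u_mul hz] at h1
    have h2 : (u z m) ^ (m⁻¹).val ∈ Subgroup.zpowers (u z m) :=
      Subgroup.pow_mem _ (Subgroup.mem_zpowers (u z m)) _
    rwa [h1] at h2

/-- The order of the fusion subgroup is the index of `C(P)` in `N(P)`. -/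
theorem card_fuse (hz : orderOf z = p) (P : Subgroup G) (hP : Subgroup.zpowers z = P) :
    Nat.card (fuse z hz) = (Subgroup.centralizer (P : Set G)).relIndex
      (Subgroup.normalizer (P : Set G)) := by
  classical
  have hex : ∀ n : Subgroup.normalizer (P : Set G), ∃ h : fuse z hz,
      (n : G) * z * (n : G)⁻¹ = u z (((h : (ZMod p)ˣ)) : ZMod p) := by
    intro n
    have h1 : (n : G) * z * (n : G)⁻¹ ∈ P :=
      ((Subgroup.mem_normalizer_iff.1 n.2) z).1 (hP ▸ Subgroup.mem_zpowers z)
    have h1' : (n : G) * z * (n : G)⁻¹ ∈ Subgroup.zpowers z := hP.symm ▸ h1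
    obtain ⟨m, hm⟩ := exists_u_of_mem hz h1'
    have hm0 : m ≠ 0 := by
      rintro rfl
      rw [u_zero] at hm
      have h2 : z = 1 := by
        have h3 : (n : G) * z * (n : G)⁻¹ = 1 := hm.symm
        rw [mul_inv_eq_one] at h3
        exact mul_eq_left.1 h3
      rw [h2, orderOf_one] at hz
      exact hp.out.one_lt.ne hz
    refine ⟨⟨Units.mk0 m hm0, ?_⟩, hm.symm⟩
    rw [mem_fuse, Units.val_mk0, hm]
    exact isConj_iff.2 ⟨n, rfl⟩
  choose φ hφ using hex
  rw [Subgroup.relIndex, Subgroup.index]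
  refine (Nat.card_congr (Equiv.ofBijective (Quotient.lift φ ?_) ⟨?_, ?_⟩)).symm
  · intro a b hab
    have h1 : (a : G)⁻¹ * b ∈ Subgroup.centralizer (P : Set G) := by
      have := QuotientGroup.leftRel_apply.1 hab
      exact Subgroup.mem_subgroupOf.1 this
    have h2 : (a : G)⁻¹ * b * z = z * ((a : G)⁻¹ * b) :=
      (Subgroup.mem_centralizer_iff.1 h1 z (hP ▸ Subgroup.mem_zpowers z)).symm
    have h3 : (a : G) * z * (a : G)⁻¹ = (b : G) * z * (b : G)⁻¹ := by
      have h4 : (b : G) * z = a * z * (a : G)⁻¹ * b := by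
        have := congrArg (fun t => (a : G) * t) h2
        simp only [mul_assoc, mul_inv_cancel_left] at this ⊢
        exact this
      rw [h4]
      group
    rw [hφ, hφ] at h3
    exact Subtype.ext (Units.ext (u_injective hz h3))
  · intro a b
    refine Quotient.inductionOn₂ a b ?_
    intro a b hab
    have hab' : φ a = φ b := hab
    have h3 : (a : G) * z * (a : G)⁻¹ = (b : G) * z * (b : G)⁻¹ := by
      rw [hφ, hφ, hab']
    refine (QuotientGroup.eq).2 ?_
    rw [Subgroup.mem_subgroupOf, Subgroup.mem_centralizer_iff]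
    intro x hx
    have hx' : x ∈ Subgroup.zpowers z := by rw [hP]; exact hx
    obtain ⟨k, rfl⟩ := Subgroup.mem_zpowers_iff.1 hx'
    have h5 : Commute z ((a : G)⁻¹ * b) := by
      show z * ((a : G)⁻¹ * b) = (a : G)⁻¹ * b * z
      have h6 : (b : G) * z = a * z * (a : G)⁻¹ * b := by
        rw [h3]; group
      calc z * ((a : G)⁻¹ * b) = (a : G)⁻¹ * (a * z * (a : G)⁻¹ * b) := by group
        _ = (a : G)⁻¹ * b * z := by rw [← h6]; group
    exact (h5.zpow_left k).eq
  · intro h
    have hh := h.2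
    rw [mem_fuse, isConj_iff] at hh
    obtain ⟨g, hg⟩ := hh
    have hgN : g ∈ Subgroup.normalizer (P : Set G) := by
      have h1 : P.map (MulAut.conj g).toMonoidHom = P := by
        rw [← hP, MonoidHom.map_zpowers]
        have h2 : (MulAut.conj g).toMonoidHom z = u z ((h : (ZMod p)ˣ) : ZMod p) := by
          simpa using hg
        rw [h2]
        exact zpowers_u hz (Units.ne_zero _)
      rw [Subgroup.mem_normalizer_iff]
      intro x
      constructor
      · intro hx
        rw [← h1]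
        exact ⟨x, hx, by simp⟩
      · intro hx
        have hx2 : g * x * g⁻¹ ∈ P.map (MulAut.conj g).toMonoidHom := by rw [h1]; exact hx
        obtain ⟨y, hy, hy'⟩ := hx2
        have : y = x := by
          have h3 : g * y * g⁻¹ = g * x * g⁻¹ := by simpa using hy'
          exact mul_left_cancel (mul_right_cancel h3)
        rwa [← this]
    refine ⟨Quotient.mk'' ⟨g, hgN⟩, ?_⟩
    show φ ⟨g, hgN⟩ = h
    apply Subtype.ext
    apply Units.ext
    apply u_injective hz
    rw [← hφ, ← hg]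

end Cfsg.Agent.Blocks.CyclicGroup
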