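import Mathlib
import Cfsg.Prelude.Def_Blocks
import Cfsg.Prelude.Def_Local
import Cfsg.Agent.Blocks.PrincipalConst
set_option linter.all false

/-!
# Characters of the principal block and the cores of the centralisers of `p`-elements

`u` a `p`-element, `y` a `p`-regular element commuting with `u`, `n` in a normal `p'`-subgroup
of `C(u)`, `χ` in the principal `p`-block: `χ (u * y * n) = χ (u * y)` (`irr_const`).
-/

set_option autoImplicit false

open Cfsg Cfsg.Agent.Blocks.Local

namespace Cfsg.Agent.Blocks.PrincipalConstGen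

open Cfsg.Agent.Blocks.PrincipalConst

section Main

variable {G V : Type*} [Group G] [Fintype G] [AddCommGroup V] [Module ℂ V]
  [FiniteDimensional ℂ V]

/-- The main statement, for `v` any `p`-regular element commuting with `u`. -/
theorem main_gen {M : Ideal AlgInt} {p : ℕ} [hp : Fact p.Prime] (hM : IsPModular p M)
    (ρ : Representation ℂ G V) (hρ : ρ.IsIrreducible)
    (hB : ∀ g : G, MemLocalIdeal M (((Subgroup.centralizer ({g} : Set G)).index : ℂ) -
      ((Subgroup.centralizer ({g} : Set G)).index : ℂ) * ρ.character g / ρ.character 1))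
    {u : G} (hu : ∃ k : ℕ, orderOf u = p ^ k) (N : Subgroup G) [Fintype N]
    (hN1 : ∀ n ∈ N, Commute u n) (hN2 : ∀ c : G, Commute u c → ∀ n ∈ N, c * n * c⁻¹ ∈ N)
    (hN3 : (Nat.card N).Coprime p) {v : G} (hv : Commute u v) (hvr : ¬ p ∣ orderOf v) :
    ρ.character (u * v) = (Nat.card N : ℂ)⁻¹ * ∑ n : N, ρ.character (u * v * n) := by
  classical
  have hMp := isPrime_of_isPModular hM
  have hχ1 : ρ.character 1 ≠ 0 := Cfsg.Agent.Characters.Central.char_one_ne_zero ρ hρ
  have hNp : ¬ p ∣ Nat.card N := (Nat.Prime.coprime_iff_not_dvd hp.out).1 hN3.symm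
  have hN0 : (Nat.card N : ℂ) ≠ 0 := by exact_mod_cast Nat.card_pos.ne'
  have hNR : MemLocalRing M ((Nat.card N : ℂ)⁻¹) := memLocalRing_inv_natCast hM hNp
  -- the weights
  obtain ⟨ζ, hζ⟩ : ∃ ζ : ℂ, IsPrimitiveRoot ζ p :=
    ⟨_, Complex.isPrimitiveRoot_exp p hp.out.ne_zero⟩
  have hζ0 : ζ ≠ 0 := hζ.ne_zero hp.out.ne_zero
  have hζ1 : ζ ≠ 1 := hζ.ne_one hp.out.one_lt
  obtain ⟨w, hw1, hw2⟩ := exists_weight (MulAut.conj (u * v)).toEquiv hζ.pow_eq_one hζ0
  have hτ : ∀ (k : ℤ) (x : G), ((MulAut.conj (u * v)).toEquiv ^ k) x =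
      (u * v) ^ k * x * ((u * v) ^ k)⁻¹ := by
    intro k x
    have h1 : ((MulAut.conj (u * v)).toEquiv ^ k : Equiv.Perm G) =
        (MulAut.conj ((u * v) ^ k)).toEquiv := by
      have := map_zpow (MulAut.toPerm G) (MulAut.conj (u * v)) k
      rw [map_zpow]
      exact this.symm
    rw [h1]
    rfl
  have hpart : IsPPart p (u * v) u := ⟨v, rfl, hv, hu, hvr⟩
  have hw3 : ∀ x : G, ¬ Commute u x → w (u * v * x * (u * v)⁻¹) = ζ * w x := by
    intro x hx
    have := hw2 x fun k hk => ?_
    · exact this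
    · by_contra hpk
      obtain ⟨j, hj⟩ := Cfsg.Agent.Blocks.Twist.mem_zpowers_zpow hpart hpk
      rw [hτ, mul_inv_eq_iff_eq_mul] at hk
      have hk' : Commute ((u * v) ^ k) x := hk
      apply hx
      have h2 : Commute (((u * v) ^ k) ^ j) x := hk'.zpow_left j
      have hj' : ((u * v) ^ k) ^ j = u := hj
      rwa [hj'] at h2
  -- the sum over p-regular elements
  set F : G → ℂ := fun x => if ¬ p ∣ orderOf x then 1 else 0 with hFdef
  have hFc : ∀ x g : G, F (g * x * g⁻¹) = F x := by
    intro x g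
    have : orderOf (g * x * g⁻¹) = orderOf x := (MulAut.conj g).orderOf_eq x
    simp only [hFdef, this]
  set κ : ℂ := (∑ g, F g * ρ.character g) / ρ.character 1 with hκdef
  have hz : ∑ g, F g • ρ g = κ • (1 : Module.End ℂ V) :=
    Cfsg.Agent.Characters.Central.sum_classFun_smul ρ hρ (θ := F) hFc
  have hcard : ∑ g, F g = (Nat.card {x : G // ¬ p ∣ orderOf x} : ℂ) := by
    simp only [hFdef]
    rw [Finset.sum_boole, Nat.card_eq_fintype_card, Fintype.card_subtype]
  have hκ1 : MemLocalIdeal M (∑ g, F g - κ) := by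
    have h1 : ∑ g, F g - κ = ∑ g, (F g * (1 - ρ.character g / ρ.character 1)) := by
      rw [hκdef, Finset.sum_div, ← Finset.sum_sub_distrib]
      exact Finset.sum_congr rfl fun g _ => by ring
    rw [h1]
    refine memLocalIdeal_sum_classFunction ?_ fun g => ?_
    · intro g h
      show F (h * g * h⁻¹) * (1 - ρ.character (h * g * h⁻¹) / ρ.character 1) = _
      rw [hFc g h, Representation.char_conj]
    · have h2 := memLocalIdeal_mul_left (M := M) (z := F g) ?_ (hB g)
      · convert h2 using 1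
        ring
      · simp only [hFdef]
        split_ifs <;> first | exact memLocalRing_one | exact memLocalRing_zero
  have hκ2 : ¬ MemLocalIdeal M κ := by
    rw [← memLocalIdeal_iff_of_sub hκ1, hcard, memLocalIdeal_natCast_iff hM]
    exact Cfsg.Agent.Blocks.RegularCount.not_dvd_card_regular
  have hκR : MemLocalRing M κ := by
    rw [← memLocalRing_iff_of_sub hκ1, hcard]
    exact memLocalRing_natCast _
  have hκ0 : κ ≠ 0 := ne_zero_of_not_memLocalIdeal hκ2
  have hκinv : MemLocalRing M κ⁻¹ := memLocalRing_inv hκR hκ2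
  -- the idempotent
  set e : Module.End ℂ V := (Nat.card N : ℂ)⁻¹ • ∑ n : N, ρ n with hedef
  have hρe : ∀ n : N, ρ n * e = e := by
    intro n
    rw [hedef, mul_smul_comm, Finset.mul_sum]
    congr 1
    refine Fintype.sum_equiv (Equiv.mulLeft n) _ _ fun m => ?_
    rw [← map_mul]; rfl
  have hee : e * e = e := by
    conv_lhs => rw [hedef, smul_mul_assoc, Finset.sum_mul]
    rw [Finset.sum_congr rfl fun n _ => hρe n, Finset.sum_const, Finset.card_univ,
      Fintype.card_eq_nat_card, ← Nat.cast_smul_eq_nsmul ℂ, smul_smul, inv_mul_cancel₀ hN0, one_smul]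
  have hce : ∀ c : G, Commute u c → ρ c * e = e * ρ c := by
    intro c hc
    rw [hedef, mul_smul_comm, smul_mul_assoc, Finset.mul_sum, Finset.sum_mul]
    congr 1
    have hc' : ∀ n ∈ N, c⁻¹ * n * c ∈ N := fun n hn => by
      have := hN2 c⁻¹ (Commute.inv_right hc) n hn
      simpa using this
    refine Fintype.sum_equiv (⟨fun n => ⟨c * n * c⁻¹, hN2 c hc n n.2⟩,
      fun n => ⟨c⁻¹ * n * c, hc' n n.2⟩, fun n => Subtype.ext (by simp; group),
      fun n => Subtype.ext (by simp; group)⟩ : N ≃ N) _ _ fun n => ?_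
    rw [← map_mul, ← map_mul]
    congr 1
    simp
  set f : Module.End ℂ V := 1 - e with hfdef
  have hff : f * f = f := by
    rw [hfdef, mul_sub, sub_mul, sub_mul, hee]; simp
  have huv : Commute u (u * v) := (Commute.refl u).mul_right hv
  have hcf : ρ (u * v) * f = f * ρ (u * v) := by
    rw [hfdef, mul_sub, sub_mul, hce _ huv, mul_one, one_mul]
  -- the part of the sum on the centralizer is killed by `f`
  set F₁ : G → ℂ := fun x => if Commute u x then F x else 0 with hF₁def
  set F₂ : G → ℂ := fun x => if Commute u x then 0 else F x with hF₂def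
  have hF12 : ∀ x, F x = F₁ x + F₂ x := by
    intro x
    simp only [hF₁def, hF₂def]
    split_ifs <;> simp
  have hregN : ∀ x : G, Commute u x → ∀ n ∈ N, ¬ p ∣ orderOf x → ¬ p ∣ orderOf (x * n) := by
    intro x hx n hn hreg hdvd
    have h1 : ∀ k : ℕ, ∃ m ∈ N, (x * n) ^ k = x ^ k * m := by
      intro k
      induction k with
      | zero => exact ⟨1, N.one_mem, by simp⟩
      | succ k ih =>
        obtain ⟨m, hm, hk⟩ := ih
        refine ⟨x⁻¹ * m * x⁻¹⁻¹ * n, N.mul_mem (hN2 x⁻¹ (Commute.inv_right hx) m hm) hn, ?_⟩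
        rw [pow_succ, hk, pow_succ]
        group
    obtain ⟨m, hm, hk⟩ := h1 (orderOf x)
    rw [pow_orderOf_eq_one, one_mul] at hk
    have h2 : (x * n) ^ (orderOf x * Nat.card N) = 1 := by
      rw [pow_mul, hk]
      have := pow_card_eq_one' (x := (⟨m, hm⟩ : N))
      exact congrArg Subtype.val this
    have h3 := hdvd.trans (orderOf_dvd_of_pow_eq_one h2)
    rcases (Nat.Prime.dvd_mul hp.out).1 h3 with h | h
    · exact hreg h
    · exact hNp h
  have hF₁N : ∀ x : G, ∀ n ∈ N, F₁ (x * n) = F₁ x := by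
    intro x n hn
    simp only [hF₁def, hFdef]
    have h1 : Commute u (x * n) ↔ Commute u x := by
      constructor
      · intro h
        have := h.mul_right (hN1 n hn).inv_right
        simpa using this
      · intro h
        exact h.mul_right (hN1 n hn)
    by_cases hx : Commute u x
    · rw [if_pos hx, if_pos (h1.2 hx)]
      by_cases hr : p ∣ orderOf x
      · have hr' : p ∣ orderOf (x * n) := by
          by_contra hr'
          have := hregN (x * n) (h1.2 hx) n⁻¹ (N.inv_mem hn) hr'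
          rw [mul_inv_cancel_right] at this
          exact this hr
        simp [hr, hr']
      · have hr' := hregN x hx n hn hr
        simp [hr, hr']
    · rw [if_neg hx, if_neg (fun h => hx (h1.1 h))]
  have hz1 : (∑ x, F₁ x • ρ x) * e = ∑ x, F₁ x • ρ x := by
    have h1 : ∀ n : N, (∑ x, F₁ x • ρ x) * ρ n = ∑ x, F₁ x • ρ x := by
      intro n
      rw [Finset.sum_mul]
      refine Fintype.sum_equiv (Equiv.mulRight (n : G)) _ _ fun x => ?_
      rw [smul_mul_assoc, ← map_mul]
      simp only [Equiv.coe_mulRight]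
      rw [hF₁N x n n.2]
    rw [hedef, mul_smul_comm, Finset.mul_sum, Finset.sum_congr rfl fun n _ => h1 n,
      Finset.sum_const, Finset.card_univ, Fintype.card_eq_nat_card, ← Nat.cast_smul_eq_nsmul ℂ,
      smul_smul, inv_mul_cancel₀ hN0, one_smul]
  have hz1f : (∑ x, F₁ x • ρ x) * f = 0 := by
    rw [hfdef, mul_sub, mul_one, hz1, sub_self]
  have hz2f : (∑ x, F₂ x • ρ x) * f = κ • f := by
    have h1 : ∑ x, F x • ρ x = ∑ x, F₁ x • ρ x + ∑ x, F₂ x • ρ x := by
      rw [← Finset.sum_add_distrib]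
      exact Finset.sum_congr rfl fun x _ => by rw [hF12 x, add_smul]
    have h2 : (∑ x, F x • ρ x) * f = κ • f := by rw [hz, smul_mul_assoc, one_mul]
    rw [h1, add_mul, hz1f, zero_add] at h2
    exact h2
  -- the twisted element
  set T : Module.End ℂ V := κ⁻¹ • ∑ x, (F₂ x * w x) • ρ x with hTdef
  have hT : ρ (u * v) * T = ζ⁻¹ • (T * ρ (u * v)) := by
    rw [hTdef, mul_smul_comm, smul_mul_assoc, smul_comm ζ⁻¹]
    congr 1
    rw [Finset.mul_sum, Finset.sum_mul, Finset.smul_sum]
    refine Fintype.sum_equiv (MulAut.conj (u * v)).toEquiv _ _ fun x => ?_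
    have hconj : (MulAut.conj (u * v)).toEquiv x = u * v * x * (u * v)⁻¹ := rfl
    rw [hconj, mul_smul_comm, smul_mul_assoc, ← map_mul, ← map_mul, inv_mul_cancel_right, smul_smul]
    congr 1
    have hcomm : Commute u (u * v * x * (u * v)⁻¹) ↔ Commute u x := by
      constructor
      · intro h
        have := (huv.inv_right.mul_right h).mul_right huv
        have h2 : (u * v)⁻¹ * (u * v * x * (u * v)⁻¹) * (u * v) = x := by group
        rwa [h2] at this
      · intro h
        exact (huv.mul_right h).mul_right huv.inv_right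
    simp only [hF₂def]
    by_cases hx : Commute u x
    · rw [if_pos hx, if_pos (hcomm.2 hx)]; ring
    · rw [if_neg hx, if_neg (fun h => hx (hcomm.1 h)), hFc, hw3 x hx]
      field_simp
  -- the unit
  have hD : InM M ρ (∑ x, (F₂ x * (w x - 1)) • ρ x) := by
    refine ⟨_, fun x => ?_, rfl⟩
    refine memLocalIdeal_mul_left ?_ (memLocalIdeal_sub_one_of_pow_eq_one hM (hw1 x))
    simp only [hF₂def, hFdef]
    split_ifs <;> first | exact memLocalRing_one | exact memLocalRing_zero
  have hEA : ∀ A, InM M ρ A → InM M ρ (e * A) := by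
    intro A hA
    rw [hedef, smul_mul_assoc, Finset.sum_mul]
    refine InM.smul ?_ hNR
    exact InM.sum fun n _ => hA.rho_mul (n : G)
  have hAE : ∀ A, InM M ρ A → InM M ρ (A * e) := by
    intro A hA
    rw [hedef, mul_smul_comm, Finset.mul_sum]
    refine InM.smul ?_ hNR
    exact InM.sum fun n _ => hA.mul_rho (n : G)
  have hneg : ∀ A, InM M ρ A → InM M ρ (-A) := by
    intro A hA
    have := hA.smul (c := -1) (memLocalRing_neg memLocalRing_one)
    simpa using this
  have hFA : ∀ A, InM M ρ A → InM M ρ (f * A * f) := by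
    intro A hA
    have h1 : f * A * f = A + -(e * A) + -(A * e) + e * A * e := by
      rw [hfdef]; noncomm_ring
    rw [h1]
    exact (((hA.add (hneg _ (hEA _ hA))).add (hneg _ (hAE _ hA)))).add (hAE _ (hEA _ hA))
  have hUeq : f * T * f + (1 - f) = 1 + κ⁻¹ • (f * (∑ x, (F₂ x * (w x - 1)) • ρ x) * f) := by
    have h1 : ∑ x, (F₂ x * (w x - 1)) • ρ x = ∑ x, (F₂ x * w x) • ρ x - ∑ x, F₂ x • ρ x := by
      rw [← Finset.sum_sub_distrib]
      refine Finset.sum_congr rfl fun x _ => ?_
      rw [mul_sub, mul_one, sub_smul]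
    have h2 : f * (∑ x, F₂ x • ρ x) * f = κ • f := by
      rw [mul_assoc, hz2f, mul_smul_comm, hff]
    have h3 : f * (∑ x, (F₂ x * w x) • ρ x - ∑ x, F₂ x • ρ x) * f =
        f * (∑ x, (F₂ x * w x) • ρ x) * f - κ • f := by
      rw [← h2]; noncomm_ring
    rw [h1, h3, smul_sub, smul_smul, inv_mul_cancel₀ hκ0, one_smul, hTdef,
      mul_smul_comm, smul_mul_assoc]
    abel
  have hU : IsUnit (f * T * f + (1 - f)) := by
    rw [hUeq]
    obtain ⟨a, ha, hae⟩ := (hFA _ hD).smul hκinv
    rw [hae]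
    exact isUnit_one_add ρ a ha
  have hζ1' : ζ⁻¹ ≠ 1 := by
    intro h
    exact hζ1 (inv_eq_one.1 h)
  have hfinal := trace_eq_zero_of_twist hζ1' hff hcf hT hU
  rw [hfdef, mul_sub, mul_one, map_sub, sub_eq_zero] at hfinal
  change ρ.character (u * v) = _ at hfinal
  rw [hfinal, hedef, mul_smul_comm, map_smul, Finset.mul_sum, map_sum, smul_eq_mul]
  congr 1
  refine Finset.sum_congr rfl fun n _ => ?_
  rw [← map_mul]
  rfl

end Main

section Irr

variable {G : Type*} [Group G] [Finite G]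

/-- A `p`-regular element of `C(u)` times an element of a normal `p'`-subgroup of `C(u)` is
`p`-regular. -/
theorem not_dvd_orderOf_mul {p : ℕ} [hp : Fact p.Prime] {u : G} (N : Subgroup G)
    (hN2 : ∀ c : G, Commute u c → ∀ n ∈ N, c * n * c⁻¹ ∈ N) (hN3 : (Nat.card N).Coprime p)
    {x : G} (hx : Commute u x) (hreg : ¬ p ∣ orderOf x) {n : G} (hn : n ∈ N) :
    ¬ p ∣ orderOf (x * n) := by
  intro hdvd
  have hNp : ¬ p ∣ Nat.card N := (Nat.Prime.coprime_iff_not_dvd hp.out).1 hN3.symm
  have h1 : ∀ k : ℕ, ∃ m ∈ N, (x * n) ^ k = x ^ k * m := by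
    intro k
    induction k with
    | zero => exact ⟨1, N.one_mem, by simp⟩
    | succ k ih =>
      obtain ⟨m, hm, hk⟩ := ih
      refine ⟨x⁻¹ * m * x⁻¹⁻¹ * n, N.mul_mem (hN2 x⁻¹ (Commute.inv_right hx) m hm) hn, ?_⟩
      rw [pow_succ, hk, pow_succ]
      group
  obtain ⟨m, hm, hk⟩ := h1 (orderOf x)
  rw [pow_orderOf_eq_one, one_mul] at hk
  have h2 : (x * n) ^ (orderOf x * Nat.card N) = 1 := by
    rw [pow_mul, hk]
    have := pow_card_eq_one' (x := (⟨m, hm⟩ : N))
    exact congrArg Subtype.val this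
  have h3 := hdvd.trans (orderOf_dvd_of_pow_eq_one h2)
  rcases (Nat.Prime.dvd_mul hp.out).1 h3 with h | h
  · exact hreg h
  · exact hNp h

/-- **General form of S0942.** -/
theorem irr_const (p : ℕ) [Fact p.Prime] (M : Ideal AlgInt) (hM : IsPModular p M) {u : G}
    (hu : ∃ k : ℕ, orderOf u = p ^ k) (N : Subgroup G) (hN1 : ∀ n ∈ N, Commute u n)
    (hN2 : ∀ c : G, Commute u c → ∀ n ∈ N, c * n * c⁻¹ ∈ N) (hN3 : (Nat.card N).Coprime p)
    {y n : G} (hy : Commute u y) (hyr : ¬ p ∣ orderOf y) (hn : n ∈ N)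
    (χ : IrrCharacter G) (hχ : χ ∈ principalBlock M G) :
    (χ : G → ℂ) (u * y * n) = (χ : G → ℂ) (u * y) := by
  classical
  obtain ⟨χ, m, ρ, hρ, rfl⟩ := χ
  have := Fintype.ofFinite G
  have hB : ∀ g : G, MemLocalIdeal M (((Subgroup.centralizer ({g} : Set G)).index : ℂ) -
      ((Subgroup.centralizer ({g} : Set G)).index : ℂ) * ρ.character g / ρ.character 1) := by
    intro g
    have h := hχ g
    have h1 : centralChar (fun _ : G => (1 : ℂ)) g =
        ((Subgroup.centralizer ({g} : Set G)).index : ℂ) := by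
      rw [Cfsg.Agent.Blocks.Basic.centralChar_def]; simp
    rw [h1, Cfsg.Agent.Blocks.Basic.centralChar_def] at h
    exact h
  have key : ∀ v : G, Commute u v → ¬ p ∣ orderOf v → ρ.character (u * v) =
      (Nat.card N : ℂ)⁻¹ * ∑ n : N, ρ.character (u * v * n) := fun v hv hvr =>
    main_gen hM ρ hρ hB hu N hN1 hN2 hN3 hv hvr
  show ρ.character (u * y * n) = ρ.character (u * y)
  have h1 := key (y * n) (hy.mul_right (hN1 n hn)) (not_dvd_orderOf_mul N hN2 hN3 hy hyr hn)
  rw [mul_assoc u y n, h1, key y hy hyr]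
  congr 1
  refine Fintype.sum_equiv (Equiv.mulLeft (⟨n, hn⟩ : N)) _ _ fun a => ?_
  rw [← mul_assoc u y n, mul_assoc (u * y) n]
  rfl

end Irr

end Cfsg.Agent.Blocks.PrincipalConstGen
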